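import Cfsg.Agent.Lib.Zassenhaus.Count
import Cfsg.Agent.Lib.Schur.Sylow
import Cfsg.Agent.Lib.Char.Burnside
import Mathlib.GroupTheory.IsPerfect
import Mathlib.Tactic.IntervalCases

/-!
General facts about a perfect group with a fixed-point-free representation all whose proper
nontrivial perfect subgroups have order 120.
-/

set_option autoImplicit false
set_option linter.unusedSectionVars false
set_option linter.style.haveILetI false

open scoped Pointwise
open Subgroup

namespace CfsgLib.Zassenhaus

variable {G : Type*} [Group G] [Finite G]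

theorem orderOf_conj_eq (g x : G) : orderOf (g * x * g⁻¹) = orderOf x := by
  rw [← MulAut.conj_apply, MulEquiv.orderOf_eq]

theorem commute_conj {x y : G} (h : Commute x y) (g : G) :
    Commute (g * x * g⁻¹) (g * y * g⁻¹) := by
  show g * x * g⁻¹ * (g * y * g⁻¹) = g * y * g⁻¹ * (g * x * g⁻¹)
  calc g * x * g⁻¹ * (g * y * g⁻¹) = g * (x * y) * g⁻¹ := by group
    _ = g * (y * x) * g⁻¹ := by rw [h.eq]
    _ = _ := by group

theorem mem_centralizer_zpowers {x g : G} :
    g ∈ centralizer (zpowers x : Set G) ↔ Commute g x := by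
  rw [mem_centralizer_iff]
  constructor
  · exact fun h => (h x (mem_zpowers x)).symm
  · rintro h _ ⟨i, rfl⟩
    exact (h.zpow_right i).symm.eq

theorem mem_normalizer_zpowers {x g : G} (h : g * x * g⁻¹ ∈ zpowers x) :
    g ∈ normalizer (zpowers x : Set G) := by
  have heq : zpowers (g * x * g⁻¹) = zpowers x :=
    eq_of_le_of_card_ge (Subgroup.zpowers_le.2 h) (by rw [Nat.card_zpowers, Nat.card_zpowers, orderOf_conj_eq])
  rw [mem_normalizer_iff]
  intro u
  constructor
  · rintro ⟨j, rfl⟩
    change g * x ^ j * g⁻¹ ∈ zpowers x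
    rw [← conj_zpow, ← heq]
    exact zpow_mem (mem_zpowers _) _
  · intro hu
    rw [← heq] at hu
    obtain ⟨j, hj⟩ := mem_zpowers_iff.1 hu
    refine ⟨j, ?_⟩
    change x ^ j = u
    rw [conj_zpow] at hj
    exact mul_left_cancel (mul_right_cancel hj)

theorem le_normalizer_of_conj_mem {K N : Subgroup G} (h : ∀ g ∈ K, ∀ x ∈ N, g * x * g⁻¹ ∈ N) :
    K ≤ normalizer (N : Set G) := by
  intro g hg
  rw [mem_normalizer_iff]
  exact fun m => ⟨h g hg m, fun hm => by simpa [mul_assoc] using h _ (inv_mem hg) _ hm⟩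

/-- An element outside a group with cyclic 2-subgroups: a quaternion subgroup. -/
theorem HasFpf.exists_quat_of_not_small (hG : HasFpf G) {K : Subgroup G} (hK : ¬ IsSmall K) :
    ∃ P : Subgroup G, P ≤ K ∧ ∃ t a, IsQuat P t a := by
  haveI : Fact (Nat.Prime 2) := ⟨Nat.prime_two⟩
  simp only [IsSmall, not_forall, exists_prop] at hK
  obtain ⟨P, hP, h2, hnc⟩ := hK
  exact ⟨P, hP, ((hG.cyclic_or_quat h2).resolve_left hnc).2⟩

theorem HasFpf.exists_four_of_not_small (hG : HasFpf G) {K : Subgroup G} (hK : ¬ IsSmall K) :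
    ∃ b ∈ K, orderOf b = 4 := by
  obtain ⟨P, hP, t, a, hQ⟩ := hG.exists_quat_of_not_small hK
  exact ⟨_, hP (P.pow_mem hQ.mem _), hQ.orderOf_four⟩

/-- A subgroup centralising a quaternion group has cyclic Sylow 2-subgroups. -/
theorem HasFpf.isSmall_centralizer_quat (hG : HasFpf G) {P : Subgroup G} {t : G} {a : ℕ}
    (hQ : IsQuat P t a) : IsSmall (centralizer (P : Set G)) := by
  by_contra hns
  obtain ⟨u, hu, hu4⟩ := hG.exists_four_of_not_small hns
  obtain ⟨b, hb, hbt⟩ := hQ.exists_outer
  have h1 := hG.zpowers_eq_of_commute (x := u) (y := t ^ (a / 2))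
    (hu _ (P.pow_mem hQ.mem _)).symm (hQ.orderOf_four.trans hu4.symm)
  have h2 := hG.zpowers_eq_of_commute (x := u) (y := b)
    (hu _ hb).symm ((hQ.orderOf_outer hb hbt).trans hu4.symm)
  apply hbt
  have : b ∈ zpowers (t ^ (a / 2)) := by rw [h1, ← h2]; exact mem_zpowers b
  exact (Subgroup.zpowers_le.2 (pow_mem (mem_zpowers t) _)) this

/-- An element centralises a group with cyclic Sylow subgroups whose order is coprime to it, as soon
as it centralises all its elements of prime order. -/
theorem HasFpf.centralizes_of_prime_elements (hG : HasFpf G) {N : Subgroup G}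
    (hN : IsSmall N) {r : ℕ} [Fact r.Prime] {g : G} (hg : g ∈ normalizer (N : Set G))
    (hrg : ∃ k, orderOf g = r ^ k) (hr : ¬ r ∣ Nat.card N)
    (hfix : ∀ v ∈ N, (orderOf v).Prime → Commute g v) : ∀ v ∈ N, Commute g v := by
  obtain ⟨k, hk⟩ := hrg
  have hcard : Nat.card N ∣ Nat.card (N ⊓ centralizer {g} : Subgroup G) := by
    refine (Nat.dvd_iff_prime_pow_dvd_dvd _ _).2 fun q j hq hd => ?_
    haveI : Fact q.Prime := ⟨hq⟩
    let φ : zpowers g →* MulAut N := (N.normalizerMonoidHom).comp
      (Subgroup.inclusion (Subgroup.zpowers_le.2 hg))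
    letI : MulAction (zpowers g) (Sylow q N) := MulAction.compHom _ φ
    have hgp : IsPGroup r (zpowers g) := IsPGroup.of_card (n := k) (by rw [Nat.card_zpowers, hk])
    obtain ⟨S, hS⟩ := hgp.nonempty_fixed_point_of_prime_not_dvd_card (Sylow q N)
      fun hd' => hr (hd'.trans ((Sylow.card_dvd_index (default : Sylow q N)).trans (index_dvd_card _)))
    have hfix' : ∀ u : zpowers g, φ u • (S : Subgroup N) = S := fun u =>
      congrArg Sylow.toSubgroup (hS u)
    set S' := (S : Subgroup N).map N.subtype with hS'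
    have hgS : zpowers g ≤ normalizer (S' : Set G) := le_normalizer_of_conj_mem fun u hu v hv => by
      obtain ⟨v, hv, rfl⟩ := hv
      have : φ ⟨u, hu⟩ • v ∈ (S : Subgroup N) := by
        rw [← hfix' ⟨u, hu⟩]; exact smul_mem_pointwise_smul _ _ _ hv
      exact ⟨_, this, rfl⟩
    haveI : IsCyclic S' := by
      haveI := hG.isZGroup hN
      exact ((S : Subgroup N).equivMapOfInjective _ N.subtype_injective).isCyclic.1 inferInstance
    have hle : S' ≤ N ⊓ centralizer {g} := by
      refine le_inf (map_subtype_le _) fun v hv => mem_centralizer_singleton_iff.2 ?_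
      refine (centralizes_cyclic (hgS (mem_zpowers g)) ?_ (fun w hw hp => hfix w (map_subtype_le _ hw) hp)
        v hv).eq.symm
      rw [hk]
      refine ((Fact.out : r.Prime).coprime_iff_not_dvd.2 fun hd' => hr ?_).pow_left k
      exact hd'.trans (card_dvd_of_le (map_subtype_le _))
    refine dvd_trans ?_ (card_dvd_of_le hle)
    rw [hS', card_map_of_injective N.subtype_injective]
    exact Sylow.pow_dvd_card_of_pow_dvd_card _ hd
  have heq : N ⊓ centralizer {g} = N :=
    eq_of_le_of_card_ge inf_le_left (Nat.le_of_dvd Nat.card_pos hcard)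
  intro v hv
  rw [← heq] at hv
  exact (mem_centralizer_singleton_iff.1 hv.2 : v * g = g * v).symm

/-- An element of odd prime order is not central in a perfect group with a fixed-point-free
representation. -/
theorem HasFpf.not_central (hG : HasFpf G) (hperf : _root_.commutator G = ⊤) {x : G}
    (hp : (orderOf x).Prime) (hodd : Odd (orderOf x)) : x ∉ center G := by
  intro hx
  haveI : Fact (orderOf x).Prime := ⟨hp⟩
  set P : Sylow (orderOf x) G := default
  have hxP := CfsgLib.SchurSylow.center_pElement_mem_sylow P hx (k := 1) (by rw [pow_one, pow_orderOf_eq_one])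
  have h := CfsgLib.SchurSylow.center_inf_commutator_inf_sylow_le P hx (hperf ▸ mem_top x) hxP
  rcases hG.cyclic_or_quat P.isPGroup' with hc | ⟨h2, -⟩
  · haveI := hc
    rw [CfsgLib.SchurSylow.commutator_eq_bot_of_comm (fun u v =>
      (IsCyclic.commGroup (α := (P : Subgroup G))).mul_comm u v), Subgroup.map_bot, Subgroup.mem_bot] at h
    rw [h, orderOf_one] at hp
    exact Nat.not_prime_one hp
  · rw [h2] at hodd
    exact absurd hodd (by decide)

/-- Two subgroups of the same odd prime order are conjugate. -/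
theorem HasFpf.exists_conj_prime (hG : HasFpf G) {q : ℕ} (hq : q.Prime) (hodd : Odd q) {u v : G}
    (hu : orderOf u = q) (hv : orderOf v = q) : ∃ g : G, g * u * g⁻¹ ∈ zpowers v := by
  haveI : Fact q.Prime := ⟨hq⟩
  obtain ⟨S, hS⟩ := (IsPGroup.of_card (p := q) (G := zpowers u) (n := 1)
    (by rw [Nat.card_zpowers, hu, pow_one])).exists_le_sylow
  obtain ⟨T, hT⟩ := (IsPGroup.of_card (p := q) (G := zpowers v) (n := 1)
    (by rw [Nat.card_zpowers, hv, pow_one])).exists_le_sylow
  obtain ⟨g, hg⟩ := MulAction.exists_smul_eq G S T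
  refine ⟨g, ?_⟩
  have hmem : g * u * g⁻¹ ∈ (T : Subgroup G) := by
    rw [← hg, Sylow.coe_subgroup_smul]
    exact ⟨u, hS (mem_zpowers u), rfl⟩
  haveI : IsCyclic (T : Subgroup G) := by
    rcases hG.cyclic_or_quat T.isPGroup' with hc | ⟨h2, -⟩
    · exact hc
    · rw [h2] at hodd; exact absurd hodd (by decide)
  haveI : IsMulCommutative (T : Subgroup G) := IsCyclic.isMulCommutative
  rw [← hG.zpowers_eq_of_commute (x := v) (y := g * u * g⁻¹)
    (setLike_mul_comm (hT (mem_zpowers v)) hmem) (by rw [orderOf_conj_eq, hu, hv])]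
  exact mem_zpowers _

theorem isSolvable_of_card_dvd_twentyfour {K : Type*} [Group K] [Finite K]
    (h : Nat.card K ∣ 24) : Group.IsSolvable K := by
  obtain ⟨x, y, hx, hy, hxy⟩ := Nat.dvd_mul.1 (show Nat.card K ∣ 2 ^ 3 * 3 ^ 1 from h)
  obtain ⟨i, -, rfl⟩ := (Nat.dvd_prime_pow Nat.prime_two).1 hx
  obtain ⟨j, -, rfl⟩ := (Nat.dvd_prime_pow Nat.prime_three).1 hy
  exact CfsgLib.Char.isSolvable_of_card_eq_prime_pow_mul Nat.prime_two Nat.prime_three hxy.symm

/-- A perfect group with a fixed-point-free representation all whose proper nontrivial perfect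
subgroups have order 120. -/
structure Minimal (H : Type*) [Group H] [Finite H] : Prop where
  fpf : HasFpf H
  perfect : _root_.commutator H = ⊤
  nontrivial : Nontrivial H
  ih : ∀ E : Subgroup H, E ≠ ⊤ → E ≠ ⊥ → ⁅E, E⁆ = E → Nat.card E = 120

namespace Minimal

variable {H : Type*} [Group H] [Finite H] (hH : Minimal H)
include hH

theorem not_isSolvable : ¬ Group.IsSolvable H := fun h => by
  haveI := hH.nontrivial
  exact (Group.IsSolvable.commutator_lt_top_of_nontrivial H).ne hH.perfect

theorem sylow_isQuat (P : Sylow 2 H) : ∃ t a, IsQuat (P : Subgroup H) t a := by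
  haveI : Fact (Nat.Prime 2) := ⟨Nat.prime_two⟩
  refine ((hH.fpf.cyclic_or_quat P.isPGroup').resolve_left fun hc => hH.not_isSolvable ?_).2
  have hsmall : IsSmall (⊤ : Subgroup H) := by
    intro Q _ hQ
    obtain ⟨R, hR⟩ := hQ.exists_le_sylow
    obtain ⟨g, hg⟩ := MulAction.exists_smul_eq H R P
    haveI : IsCyclic (R : Subgroup H) := by
      haveI := hc
      exact (Sylow.equiv R P).isCyclic.2 inferInstance
    exact isCyclic_of_le hR
  haveI := hH.fpf.isSolvable_of_small hsmall
  exact Group.isSolvable_of_surjective (f := (Subgroup.topEquiv (G := H)).toMonoidHom) Subgroup.topEquiv.surjective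

/-- A quaternion subgroup of order eight in a nontrivial proper perfect subgroup, and nonsolvability. -/
theorem perfect_facts {E : Subgroup H} (hE : E ≠ ⊤) (hE1 : E ≠ ⊥) (hEE : ⁅E, E⁆ = E) :
    Nat.card E = 120 ∧ ¬ Group.IsSolvable E ∧ _root_.commutator E = ⊤ ∧
      ∃ P : Subgroup H, P ≤ E ∧ ∃ t, IsQuat P t 2 := by
  have hperf : _root_.commutator E = ⊤ := by
    apply Subgroup.map_injective E.subtype_injective
    rw [_root_.commutator_def, map_commutator, ← MonoidHom.range_eq_map, E.range_subtype, hEE]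
  have hns : ¬ Group.IsSolvable E := fun h => by
    haveI : Nontrivial E := (nontrivial_iff_ne_bot E).2 hE1
    exact (Group.IsSolvable.commutator_lt_top_of_nontrivial E).ne hperf
  have h120 := hH.ih E hE hE1 hEE
  refine ⟨h120, hns, hperf, ?_⟩
  obtain ⟨P, hP, t, a, hQ⟩ := hH.fpf.exists_quat_of_not_small
    (fun hs => hns (hH.fpf.isSolvable_of_small hs))
  refine ⟨P, hP, t, ?_⟩
  obtain ⟨k, hk⟩ := hQ.exists_pow
  have hd := card_dvd_of_le hP
  rw [h120, hQ.card, hk] at hd
  have h2 := hQ.two_le
  rcases k with - | - | k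
  · simp [hk] at h2
  · rwa [show (2 : ℕ) = a by simp [hk]]
  · exfalso
    have : 16 ∣ 120 := dvd_trans ⟨2 ^ k, by ring⟩ hd
    omega

/-- An element of prime order at least 7 centralises the perfect subgroups that it normalises. -/
theorem centralizes_perfect {E : Subgroup H} (hE : E ≠ ⊤) (hE1 : E ≠ ⊥) (hEE : ⁅E, E⁆ = E) {g : H}
    (hg : g ∈ normalizer (E : Set H)) (hp : (orderOf g).Prime) (h7 : 7 ≤ orderOf g) :
    ∀ v ∈ E, Commute g v := by
  obtain ⟨h120, hns, hperf, -⟩ := hH.perfect_facts hE hE1 hEE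
  haveI : Fact (Nat.Prime 5) := ⟨Nat.prime_five⟩
  -- all elements of order five commute with `g`
  have hfive : ∀ x ∈ E, orderOf x = 5 → Commute g x := by
    intro x hx hox
    refine hH.fpf.commute_of_normalize hp rfl ?_
    let φ : zpowers g →* MulAut E := (E.normalizerMonoidHom).comp
      (Subgroup.inclusion (Subgroup.zpowers_le.2 hg))
    letI : MulAction (zpowers g) (Sylow 5 E) := MulAction.compHom _ φ
    obtain ⟨S, hS⟩ := (IsPGroup.of_card (p := 5) (G := zpowers (⟨x, hx⟩ : E)) (n := 1)
      (by rw [Nat.card_zpowers, Subgroup.orderOf_mk, hox, pow_one])).exists_le_sylow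
    have hS5 : Nat.card (S : Subgroup E) = 5 := by
      obtain ⟨j, hj⟩ := S.isPGroup'.exists_card_eq
      have h1 := card_dvd_of_le hS
      rw [Nat.card_zpowers, Subgroup.orderOf_mk, hox, hj] at h1
      have h2 := card_subgroup_dvd_card (S : Subgroup E)
      rw [h120, hj] at h2
      rcases j with - | - | j
      · norm_num at h1
      · rw [hj]; norm_num
      · exfalso
        have : 25 ∣ 120 := dvd_trans ⟨5 ^ j, by ring⟩ h2
        omega
    have hSeq : (S : Subgroup E) = zpowers (⟨x, hx⟩ : E) :=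
      (eq_of_le_of_card_ge hS (by rw [hS5, Nat.card_zpowers, Subgroup.orderOf_mk, hox])).symm
    have hnum : Nat.card (Sylow 5 E) ≤ 6 := by
      have h1 := card_sylow_modEq_one 5 E
      have h2 : Nat.card (Sylow 5 E) ∣ 24 := by
        refine (S.card_dvd_index).trans (dvd_of_eq ?_)
        have := (S : Subgroup E).card_mul_index
        rw [hS5, h120] at this
        omega
      have h3 := Nat.le_of_dvd (by norm_num) h2
      unfold Nat.ModEq at h1
      interval_cases h : Nat.card (Sylow 5 E) <;> omega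
    have horb : Nat.card (MulAction.orbit (zpowers g) S) = 1 := by
      have h1 : Nat.card (MulAction.orbit (zpowers g) S) ∣ orderOf g := by
        rw [Nat.card_congr (MulAction.orbitEquivQuotientStabilizer (zpowers g) S), ← Nat.card_zpowers g]
        exact Subgroup.card_quotient_dvd_card _
      refine (hp.eq_one_or_self_of_dvd _ h1).resolve_right fun h => ?_
      have : Nat.card (MulAction.orbit (zpowers g) S) ≤ 6 :=
        (Nat.card_le_card_of_injective _ Subtype.val_injective).trans hnum
      omega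
    have hfix : φ ⟨g, mem_zpowers g⟩ • S = S := by
      have := (Nat.card_eq_one_iff_unique.1 horb).1
      exact congrArg Subtype.val (Subsingleton.elim
        (⟨φ ⟨g, mem_zpowers g⟩ • S, ⟨⟨g, mem_zpowers g⟩, rfl⟩⟩ : MulAction.orbit (zpowers g) S)
        ⟨S, MulAction.mem_orbit_self S⟩)
    have hfix' : φ ⟨g, mem_zpowers g⟩ • (S : Subgroup E) = S := congrArg Sylow.toSubgroup hfix
    have hm : φ ⟨g, mem_zpowers g⟩ • (⟨x, hx⟩ : E) ∈ (S : Subgroup E) := by
      have hm0 := smul_mem_pointwise_smul (⟨x, hx⟩ : E) (φ ⟨g, mem_zpowers g⟩) (S : Subgroup E)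
        (hS (mem_zpowers _))
      rwa [hfix'] at hm0
    rw [hSeq] at hm
    obtain ⟨j, hj⟩ := mem_zpowers_iff.1 hm
    exact ⟨j, congrArg Subtype.val hj⟩
  set W := closure {x : E | orderOf x = 5} with hW
  haveI : W.Normal := ⟨fun w hw u => by
    have hle : W ≤ W.comap (MulAut.conj u).toMonoidHom := by
      rw [hW, closure_le]
      intro x hx
      refine subset_closure ?_
      show orderOf (MulAut.conj u x) = 5
      rw [MulEquiv.orderOf_eq]; exact hx
    exact hle hw⟩
  have hWtop : W = ⊤ := by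
    obtain ⟨x, hx⟩ := exists_prime_orderOf_dvd_card' (G := E) 5 (by rw [h120]; norm_num)
    have h5 : 5 ∣ Nat.card W := hx ▸ W.orderOf_dvd_natCard (subset_closure hx)
    haveI : Group.IsSolvable (E ⧸ W) := by
      apply isSolvable_of_card_dvd_twentyfour
      obtain ⟨c, hc⟩ := h5
      have := W.card_mul_index
      rw [h120, hc, mul_assoc] at this
      exact ⟨c, by show 24 = W.index * c; rw [mul_comm]; omega⟩
    by_contra hne
    haveI : Nontrivial (E ⧸ W) := by
      rw [← not_subsingleton_iff_nontrivial]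
      intro hs
      exact hne (index_eq_one.1 (Nat.card_eq_one_iff_unique.2 ⟨hs, ⟨1⟩⟩))
    refine (Group.IsSolvable.commutator_lt_top_of_nontrivial (E ⧸ W)).ne ?_
    rw [_root_.commutator_def, ← Subgroup.map_top_of_surjective (QuotientGroup.mk' W)
      (QuotientGroup.mk'_surjective W), ← map_commutator, ← _root_.commutator_def, hperf]
  intro v hv
  have hle : W ≤ (centralizer {g}).comap E.subtype := by
    rw [hW, closure_le]
    intro x hx
    exact mem_centralizer_singleton_iff.2 (hfive x x.2 ((Subgroup.orderOf_coe x).trans hx)).eq.symm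
  have := hle (hWtop ▸ mem_top (⟨v, hv⟩ : E))
  exact (mem_centralizer_singleton_iff.1 this : v * g = g * v).symm

/-- A proper subgroup has only one subgroup of each prime order at least 7. -/
theorem unique_seven {K : Subgroup H} (hK : K ≠ ⊤) {q : ℕ} (hq : q.Prime) (h7 : 7 ≤ q) {u v : H}
    (hu : u ∈ K) (hv : v ∈ K) (hou : orderOf u = q) (hov : orderOf v = q) : v ∈ zpowers u := by
  have hodd : Odd q := hq.odd_of_ne_two (by omega)
  by_cases hsol : Group.IsSolvable K
  · exact hH.fpf.unique_prime hq hodd hsol (Or.inl (by omega)) hu hv hou hov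
  obtain ⟨E, hEK, hE1, hEE, hnorm⟩ := exists_perfect K hsol
  have hE : E ≠ ⊤ := fun e => hK (top_le_iff.1 (e ▸ hEK))
  obtain ⟨-, -, -, P, hPE, t, hQ⟩ := hH.perfect_facts hE hE1 hEE
  have hsmall := hH.fpf.isSmall_centralizer_quat hQ
  have hmem : ∀ w ∈ K, orderOf w = q → w ∈ centralizer (P : Set H) := fun w hw how x hx =>
    (hH.centralizes_perfect hE hE1 hEE (hnorm hw) (how ▸ hq) (how ▸ h7) x (hPE hx)).eq.symm
  exact hH.fpf.unique_prime hq hodd (hH.fpf.isSolvable_of_small hsmall) (Or.inl (by omega))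
    (hmem u hu hou) (hmem v hv hov) hou hov

theorem centralizer_ne_top {v : H} (hp : (orderOf v).Prime) (hodd : Odd (orderOf v)) :
    centralizer ({v} : Set H) ≠ ⊤ := by
  intro h
  refine hH.fpf.not_central hH.perfect hp hodd (mem_center_iff.2 fun u => ?_)
  exact mem_centralizer_singleton_iff.1 (h ▸ mem_top u)

/-- A subgroup of odd prime order is not normal. -/
theorem normalizer_ne_top {v : H} (hp : (orderOf v).Prime) (hodd : Odd (orderOf v)) :
    normalizer (zpowers v : Set H) ≠ ⊤ := by
  intro h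
  apply hH.fpf.not_central hH.perfect hp hodd
  let φ : H →* MulAut (zpowers v) := (zpowers v).normalizerMonoidHom.comp
    ((MulEquiv.subgroupCongr h).symm.toMonoidHom.comp Subgroup.topEquiv.symm.toMonoidHom)
  let ψ : H →* (ZMod (Nat.card (zpowers v)))ˣ := (IsCyclic.mulAutMulEquiv (zpowers v)).toMonoidHom.comp φ
  have hψ : ∀ u : H, φ u = 1 := by
    intro u
    have h1 : ψ u = 1 := Abelianization.commutator_subset_ker ψ (hH.perfect ▸ mem_top u)
    exact (IsCyclic.mulAutMulEquiv (zpowers v)).injective (h1.trans (map_one _).symm)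
  rw [mem_center_iff]
  intro u
  have h2 := congrArg Subtype.val (DFunLike.congr_fun (hψ u) ⟨v, mem_zpowers v⟩)
  exact mul_inv_eq_iff_eq_mul.1 h2

/-- Some element inverts an element of order three. -/
theorem exists_not_commute_three {s : H} (hs : orderOf s = 3) :
    ∃ g ∈ normalizer (zpowers s : Set H), ¬ Commute g s := by
  by_contra hno
  push Not at hno
  haveI : Fact (Nat.Prime 3) := ⟨Nat.prime_three⟩
  obtain ⟨S, hS⟩ := (IsPGroup.of_card (p := 3) (G := zpowers s) (n := 1)
    (by rw [Nat.card_zpowers, hs, pow_one])).exists_le_sylow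
  haveI hScyc : IsCyclic (S : Subgroup H) :=
    (hH.fpf.cyclic_or_quat S.isPGroup').resolve_right fun h => absurd h.1 (by norm_num)
  haveI : IsMulCommutative (S : Subgroup H) := IsCyclic.isMulCommutative
  have hs1 : s ≠ 1 := fun e => by rw [e, orderOf_one] at hs; omega
  have hsS : s ∈ (S : Subgroup H) := hS (mem_zpowers s)
  have hle : normalizer ((S : Subgroup H) : Set H) ≤ centralizer ((S : Subgroup H) : Set H) := by
    intro g hg
    have hgs : Commute g s := by
      refine hno g (mem_normalizer_zpowers ?_)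
      rw [← hH.fpf.zpowers_eq_of_commute (x := s) (y := g * s * g⁻¹)
        (setLike_mul_comm hsS ((mem_normalizer_iff.1 hg s).1 hsS)) (orderOf_conj_eq g s)]
      exact mem_zpowers _
    obtain ⟨e, m, hm, hgm⟩ := Nat.exists_eq_pow_mul_and_not_dvd (orderOf_pos g).ne' 3 (by norm_num)
    obtain ⟨n, hn⟩ := S.isPGroup'.exists_card_eq
    have hu : g ^ 3 ^ e ∈ centralizer ((S : Subgroup H) : Set H) := by
      intro x hx
      refine (centralizes_cyclic (V := (S : Subgroup H)) (g := g ^ 3 ^ e) (pow_mem hg _) ?_ ?_ x hx).eq.symm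
      · rw [orderOf_pow_of_dvd (by positivity) (hgm ▸ dvd_mul_right _ _), hgm,
          Nat.mul_div_cancel_left _ (by positivity), hn]
        exact ((Nat.prime_three.coprime_iff_not_dvd.2 hm).symm).pow_right n
      · intro w hw hp
        have hwo : orderOf w = 3 := by
          have h := (S : Subgroup H).orderOf_dvd_natCard hw
          rw [hn] at h
          exact (Nat.prime_dvd_prime_iff_eq hp Nat.prime_three).1 (hp.dvd_of_dvd_pow h)
        obtain ⟨j, rfl⟩ : ∃ j : ℤ, s ^ j = w := mem_zpowers_iff.1 (hH.fpf.mem_zpowers_of_commute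
          (setLike_mul_comm hsS hw) (hwo.trans hs.symm).dvd)
        exact (hgs.pow_left _).zpow_right j
    have hv : g ^ m ∈ (S : Subgroup H) := by
      have hp : IsPGroup 3 (zpowers (g ^ m)) := IsPGroup.of_card (n := e) (by
        rw [Nat.card_zpowers, orderOf_pow_of_dvd (by rintro rfl; exact hm (dvd_zero 3))
          (hgm ▸ dvd_mul_left _ _), hgm, Nat.mul_div_cancel _ (Nat.pos_of_ne_zero (by
            rintro rfl; exact hm (dvd_zero 3)))])
      have hjoin := S.3 (S.isPGroup'.to_sup_of_normal_left' hp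
        (Subgroup.zpowers_le.2 (pow_mem hg m))) le_sup_left
      exact hjoin ▸ mem_sup_right (mem_zpowers _)
    have hv' : g ^ m ∈ centralizer ((S : Subgroup H) : Set H) :=
      (le_centralizer (S : Subgroup H)) hv
    have hgcd : (Nat.gcd (3 ^ e) m : ℤ) = 1 := by
      exact_mod_cast ((Nat.prime_three.coprime_iff_not_dvd.2 hm).pow_left e)
    have := mul_mem ((centralizer _).zpow_mem hu ((3 ^ e).gcdA m))
      ((centralizer _).zpow_mem hv' ((3 ^ e).gcdB m))
    rw [← zpow_natCast, ← zpow_natCast, ← zpow_mul, ← zpow_mul, ← zpow_add, ← Nat.gcd_eq_gcd_ab,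
      hgcd, zpow_one] at this
    exact this
  have hsurj := MonoidHom.ker_transferSylow_isComplement' S hle
  have hker : (MonoidHom.transferSylow S hle).ker = ⊤ := by
    rw [eq_top_iff, ← hH.perfect]
    rw [_root_.commutator_def, commutator_le]
    intro u _ v _
    rw [MonoidHom.mem_ker, map_commutatorElement, commutatorElement_eq_one_iff_mul_comm]
    exact (IsCyclic.commGroup (α := (S : Subgroup H))).mul_comm _ _
  rw [hker, Subgroup.isComplement'_top_left] at hsurj
  rw [hsurj, Subgroup.mem_bot] at hsS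
  exact hs1 hsS

end Minimal

end CfsgLib.Zassenhaus
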