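import Cfsg.Agent.Lib.Zassenhaus.Main
import Cfsg.Agent.Lib.Alt.Aut
import Mathlib.GroupTheory.SchurZassenhaus
import Mathlib.GroupTheory.SpecificGroups.Alternating.Simple

/-!
The structure of a nonsolvable finite group with a fixed-point-free complex representation.
-/

set_option autoImplicit false
set_option linter.unusedSectionVars false
set_option linter.style.haveILetI false

open scoped commutatorElement
open Subgroup

namespace CfsgLib.Zassenhaus

local notation "SL25" => Matrix.SpecialLinearGroup (Fin 2) (ZMod 5)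

theorem card_SL25 : Nat.card SL25 = 120 := by
  rw [Nat.card_eq_fintype_card]; decide +kernel

theorem sq_eq_one_of_central {E : Type*} [Group E] (e : E ≃* SL25) {x : E}
    (hx : x ∈ Subgroup.center E) : x ^ 2 = 1 := by
  haveI : Fact (Nat.Prime 5) := ⟨by norm_num⟩
  have h : e x ∈ Subgroup.center SL25 := mem_center_iff.2 fun y => by
    obtain ⟨z, rfl⟩ := e.surjective y
    rw [← map_mul, ← map_mul, mem_center_iff.1 hx z]
  obtain ⟨r, hr, hrx⟩ := Matrix.SpecialLinearGroup.mem_center_iff.1 h
  apply e.injective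
  rw [map_pow, map_one]
  apply Subtype.ext
  rw [Matrix.SpecialLinearGroup.coe_pow, ← hrx, ← map_pow, ← Fintype.card_fin 2, hr, map_one]
  rfl

theorem central_eq {E : Type*} [Group E] (e : E ≃* SL25) {x : E}
    (hx : x ∈ Subgroup.center E) : x = 1 ∨ e x = ⟨-1, by decide⟩ := by
  haveI : Fact (Nat.Prime 5) := ⟨by norm_num⟩
  have h : e x ∈ Subgroup.center SL25 := mem_center_iff.2 fun y => by
    obtain ⟨z, rfl⟩ := e.surjective y
    rw [← map_mul, ← map_mul, mem_center_iff.1 hx z]
  obtain ⟨r, hr, hrx⟩ := Matrix.SpecialLinearGroup.mem_center_iff.1 h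
  rw [Fintype.card_fin, pow_two, mul_self_eq_one_iff] at hr
  rcases hr with rfl | rfl
  · exact Or.inl (e.injective (by rw [map_one]; exact Subtype.ext (by rw [← hrx, map_one]; rfl)))
  · exact Or.inr (Subtype.ext (by rw [← hrx, map_neg, map_one]))

theorem exists_orderOf_eq {E : Type*} [Group E] [Finite E] (e : E ≃* SL25) {k : ℕ}
    (hk : k = 3 ∨ k = 4 ∨ k = 5) : ∃ y : E, orderOf y = k := by
  have hcard : Nat.card E = 120 := (Nat.card_congr e.toEquiv).trans card_SL25
  rcases hk with rfl | rfl | rfl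
  · haveI : Fact (Nat.Prime 3) := ⟨Nat.prime_three⟩
    exact exists_prime_orderOf_dvd_card' 3 (by rw [hcard]; norm_num)
  · haveI : Fact (Nat.Prime 2) := ⟨Nat.prime_two⟩
    let w : SL25 := ⟨!![0, 1; -1, 0], by decide⟩
    refine ⟨e.symm w, ?_⟩
    rw [MulEquiv.orderOf_eq]
    exact orderOf_eq_prime_pow (p := 2) (n := 1) (by decide +kernel) (by decide +kernel)
  · haveI : Fact (Nat.Prime 5) := ⟨by norm_num⟩
    exact exists_prime_orderOf_dvd_card' 5 (by rw [hcard]; norm_num)

variable {G : Type*} [Group G] [Finite G]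

/-- The data of the structure theorem. -/
structure NSData (G : Type*) [Group G] (E M : Subgroup G) : Prop where
  equiv : Nonempty (E ≃* Matrix.SpecialLinearGroup (Fin 2) (ZMod 5))
  perfect : ⁅E, E⁆ = E
  normalE : E.Normal
  normalM : M.Normal
  le : M ≤ Subgroup.centralizer (E : Set G)
  inf : E ⊓ M = ⊥
  coprime : (Nat.card M).Coprime 30
  zgroup : IsZGroup M
  card_centralizer : Nat.card (Subgroup.centralizer (E : Set G)) = 2 * Nat.card M
  action : ∃ f : G →* Equiv.Perm (Fin 5), f.ker = Subgroup.centralizer (E : Set G) ∧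
    alternatingGroup (Fin 5) ≤ f.range

theorem HasFpf.not_mem_zpowers (hG : HasFpf G) {E : Subgroup G}
    (e : E ≃* Matrix.SpecialLinearGroup (Fin 2) (ZMod 5)) {x : G}
    (hx : x ∈ Subgroup.centralizer (E : Set G)) {k : ℕ} (hk : k = 3 ∨ k = 4 ∨ k = 5)
    (hdvd : k ∣ orderOf x) : False := by
  obtain ⟨y, hy⟩ := exists_orderOf_eq e hk
  have hy' : orderOf (y : G) = k := by rw [Subgroup.orderOf_coe, hy]
  have hc : Commute x (y : G) := (mem_centralizer_iff.1 hx y y.2).symm
  have hyC : (y : G) ∈ Subgroup.centralizer (E : Set G) :=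
    zpowers_le.2 hx (hG.mem_zpowers_of_commute hc (hy' ▸ hdvd))
  have h2 := sq_eq_one_of_central e (x := y) (mem_center_iff.2 fun z => Subtype.ext
    (mem_centralizer_iff.1 hyC z z.2))
  have := Nat.le_of_dvd two_pos (orderOf_dvd_of_pow_eq_one h2)
  omega

/-- A group normal in `G` isomorphic to `SL(2, 5)` gives an action on five letters with kernel its
centraliser. -/
theorem exists_action {E : Subgroup G} [E.Normal] (hE : Nonempty (E ≃* Matrix.SpecialLinearGroup (Fin 2) (ZMod 5)))
    (hperf : ⁅E, E⁆ = E) :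
    ∃ f : G →* Equiv.Perm (Fin 5), f.ker = Subgroup.centralizer (E : Set G) ∧
      alternatingGroup (Fin 5) ≤ f.range := by
  obtain ⟨e⟩ := hE
  haveI : Fact (Nat.Prime 2) := ⟨Nat.prime_two⟩
  set Z := Subgroup.center E
  have hperf' : _root_.commutator E = ⊤ := by
    apply Subgroup.map_injective E.subtype_injective
    rw [map_subtype_commutator, ← MonoidHom.range_eq_map, E.range_subtype, hperf]
  have hcardE : Nat.card E = 120 := (Nat.card_congr e.toEquiv).trans card_SL25
  -- the centre has order two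
  have hZ : Nat.card Z = 2 := by
    let z : E := e.symm ⟨-1, by decide⟩
    have hez : e z = ⟨-1, by decide⟩ := e.apply_symm_apply _
    have hzc : z ∈ Z := mem_center_iff.2 fun y => e.injective (by
      rw [map_mul, map_mul, hez]
      apply Subtype.ext
      show (e y).1 * (-1 : Matrix (Fin 2) (Fin 2) (ZMod 5)) = -1 * (e y).1
      simp)
    have hz1 : z ≠ 1 := fun h => by
      rw [h, map_one] at hez
      have h' := congrArg (fun A : SL25 => A.1 0 0) hez
      simp at h'
      exact absurd h' (by decide +kernel)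
    rw [Nat.card_eq_two_iff]
    refine ⟨1, ⟨z, hzc⟩, fun h => hz1 (congrArg Subtype.val h).symm, ?_⟩
    refine Set.eq_univ_of_forall fun x => ?_
    rcases central_eq e x.2 with h | h
    · exact Or.inl (Subtype.ext h)
    · exact Or.inr (Subtype.ext (e.injective (h.trans hez.symm)))
  -- the quotient is the alternating group
  have h60 : Nat.card (E ⧸ Z) = 60 := by
    have := Z.card_eq_card_quotient_mul_card_subgroup
    rw [hcardE, hZ] at this
    omega
  haveI hnt : Nontrivial (E ⧸ Z) := Finite.one_lt_card_iff_nontrivial.1 (by omega)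
  have hns : ¬ Group.IsSolvable (E ⧸ Z) := fun h => by
    haveI := h
    refine (ne_of_lt (IsSolvable.commutator_lt_top_of_nontrivial (G := E ⧸ Z))) ?_
    have h1 := map_commutator (⊤ : Subgroup E) ⊤ (QuotientGroup.mk' Z)
    rw [← _root_.commutator_def, hperf', ← MonoidHom.range_eq_map,
      MonoidHom.range_eq_top.2 (QuotientGroup.mk'_surjective Z)] at h1
    exact h1.symm
  obtain ⟨π⟩ := CfsgLib.Present.nonsolvable_sixty h60 hns
  -- the induced action
  let q : MulAut E →* MulAut (E ⧸ Z) := MonoidHom.mk'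
    (fun φ => QuotientGroup.congr Z Z φ (Subgroup.characteristic_iff_map_eq.1 inferInstance φ))
    (fun a b => MulEquiv.ext fun x => QuotientGroup.induction_on x fun y => rfl)
  let c : Equiv.Perm (Fin 5) ≃* MulAut (alternatingGroup (Fin 5)) :=
    MulEquiv.ofBijective (MulAut.conjNormal : Equiv.Perm (Fin 5) →* MulAut (alternatingGroup (Fin 5)))
      ⟨CfsgLib.AltAut.conjNormal_injective (by decide), CfsgLib.AltAut.conjNormal_surjective (by decide) (by decide)⟩
  let f : G →* Equiv.Perm (Fin 5) := (c.symm.toMonoidHom.comp (MulAut.congr π).toMonoidHom).comp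
    (q.comp (MulAut.conjNormal : G →* MulAut E))
  have hf1 : ∀ g : G, f g = 1 ↔ q (MulAut.conjNormal g) = 1 := fun g => by
    show c.symm ((MulAut.congr π) (q (MulAut.conjNormal g))) = 1 ↔ _
    rw [map_eq_one_iff _ c.symm.injective, map_eq_one_iff _ (MulAut.congr π).injective]
  refine ⟨f, ?_, ?_⟩
  · ext g
    rw [MonoidHom.mem_ker, hf1, mem_centralizer_iff]
    constructor
    · intro h
      set φ := (MulAut.conjNormal g : MulAut E)
      have hZ' : ∀ x : E, x⁻¹ * φ x ∈ Z := fun x => by
        have := congrArg (fun ψ : MulAut (E ⧸ Z) => ψ (x : E ⧸ Z)) h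
        exact (QuotientGroup.eq).1 this.symm
      let χ : E →* E :=
        MonoidHom.mk' (fun x => x⁻¹ * φ x) fun x y => by
          rw [map_mul, mul_inv_rev]
          calc y⁻¹ * x⁻¹ * (φ x * φ y) = y⁻¹ * (x⁻¹ * φ x) * φ y := by group
            _ = x⁻¹ * φ x * y⁻¹ * φ y := by rw [mem_center_iff.1 (hZ' x) y⁻¹]
            _ = x⁻¹ * φ x * (y⁻¹ * φ y) := by group
      have hker : _root_.commutator E ≤ χ.ker := by
        rw [_root_.commutator_def, commutator_le]
        intro x _ y _
        rw [MonoidHom.mem_ker, map_commutatorElement, commutatorElement_eq_one_iff_mul_comm]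
        exact mem_center_iff.1 (hZ' y) _
      rw [hperf'] at hker
      intro y hy
      have h1 : φ ⟨y, hy⟩ = ⟨y, hy⟩ := (inv_mul_eq_one.1 (hker (mem_top (⟨y, hy⟩ : E)))).symm
      have h2 : g * y * g⁻¹ = y := congrArg Subtype.val h1
      exact (mul_inv_eq_iff_eq_mul.1 h2).symm
    · intro h
      have : (MulAut.conjNormal g : MulAut E) = 1 := MulEquiv.ext fun y => Subtype.ext (by
        show g * y * g⁻¹ = y
        rw [← h y y.2, mul_inv_cancel_right])
      rw [this, map_one]
  · intro σ hσ
    obtain ⟨x, hx⟩ := QuotientGroup.mk_surjective (π.symm ⟨σ, hσ⟩)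
    refine ⟨(x : G), c.injective ?_⟩
    show c (c.symm ((MulAut.congr π) (q (MulAut.conjNormal (x : G))))) = c σ
    rw [MulEquiv.apply_symm_apply]
    refine MulEquiv.ext fun τ => ?_
    obtain ⟨y, hy⟩ := QuotientGroup.mk_surjective (π.symm τ)
    show π (q (MulAut.conjNormal (x : G)) (π.symm τ)) = _
    rw [← hy]
    show π ((MulAut.conjNormal (x : G) y : E) : E ⧸ Z) = _
    have hcon : (MulAut.conjNormal (x : G) y : E) = x * y * x⁻¹ := Subtype.ext rfl
    rw [hcon, QuotientGroup.mk_mul, QuotientGroup.mk_mul, QuotientGroup.mk_inv, map_mul, map_mul,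
      map_inv, hx, hy, MulEquiv.apply_symm_apply, MulEquiv.apply_symm_apply]
    rfl

/-- A nonsolvable finite group with a fixed-point-free representation contains `SL(2, 5) × M` with
`M` a Z-group of order prime to 30, of index at most two. -/
theorem HasFpf.exists_nsData (hG : HasFpf G) (hns : ¬ Group.IsSolvable G) :
    ∃ E M : Subgroup G, NSData G E M := by
  haveI : Fact (Nat.Prime 2) := ⟨Nat.prime_two⟩
  obtain ⟨E, -, hE1, hEE, hnorm⟩ := exists_perfect (⊤ : Subgroup G) (fun h => hns (by
    haveI := h; exact solvable_of_surjective (f := (Subgroup.topEquiv : (⊤ : Subgroup G) ≃* G).toMonoidHom)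
      Subgroup.topEquiv.surjective))
  haveI hEn : E.Normal := Subgroup.normalizer_eq_top_iff.1 (top_le_iff.1 hnorm)
  haveI : Nontrivial E := (nontrivial_iff_ne_bot E).2 hE1
  obtain ⟨e⟩ := (hG.subgroup E).nonempty_mulEquiv_SL25 (by
    apply Subgroup.map_injective E.subtype_injective
    rw [map_subtype_commutator, ← MonoidHom.range_eq_map, E.range_subtype, hEE])
  set C := Subgroup.centralizer (E : Set G)
  -- the central involution
  obtain ⟨w, hw⟩ : ∃ w : E, orderOf w = 2 := exists_prime_orderOf_dvd_card' 2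
    (by rw [(Nat.card_congr e.toEquiv).trans card_SL25]; norm_num)
  have hw2 : (w : G) ^ 2 = 1 := by rw [← Subgroup.coe_pow, ← hw, pow_orderOf_eq_one]; rfl
  have hw1 : (w : G) ≠ 1 := fun h => by
    rw [Subtype.ext h (a2 := (1 : E)), orderOf_one] at hw; omega
  have hwC : (w : G) ∈ C := mem_centralizer_iff.2 fun y _ =>
    ((hG.commute_involution hw2 y)).symm.eq
  -- the order of the centraliser
  have hC : ∀ x ∈ C, ∀ k, k = 3 ∨ k = 4 ∨ k = 5 → ¬ k ∣ orderOf x :=
    fun x hx k hk hd => hG.not_mem_zpowers e hx hk hd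
  obtain ⟨P⟩ : Nonempty (Sylow 2 C) := inferInstance
  have hP2 : Nat.card (P : Subgroup C) = 2 := by
    have hall : ∀ x : (P : Subgroup C), (x : C) = 1 ∨ ((x : C) : G) = w := by
      intro x
      obtain ⟨i, hi⟩ := IsPGroup.iff_orderOf.1 P.2 x
      by_cases h1 : (x : C) = 1
      · exact Or.inl h1
      refine Or.inr (hG.involution_unique ?_ (fun h => h1 (Subtype.ext h)) hw2 hw1)
      rw [← Subgroup.coe_pow, ← Subgroup.coe_pow]
      rcases i with _ | _ | i
      · exact absurd (congrArg Subtype.val (orderOf_eq_one_iff.1 (by rw [hi]; norm_num))) h1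
      · have h2 : x ^ 2 = 1 := orderOf_dvd_iff_pow_eq_one.1 (by rw [hi]; norm_num)
        rw [h2]; rfl
      · exact absurd (show 4 ∣ orderOf ((x : C) : G) by
          rw [Subgroup.orderOf_coe, Subgroup.orderOf_coe, hi]
          exact pow_dvd_pow 2 (show 2 ≤ i + 1 + 1 by omega))
          (hC _ (x : C).2 4 (Or.inr (Or.inl rfl)))
    have hne : (P : Subgroup C) ≠ ⊥ := P.ne_bot_of_dvd_card (by
      have : (⟨(w : G), hwC⟩ : C) ^ 2 = 1 := Subtype.ext hw2
      have h2 : orderOf (⟨(w : G), hwC⟩ : C) = 2 :=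
        orderOf_eq_prime this (fun h => hw1 (congrArg Subtype.val h))
      exact h2 ▸ orderOf_dvd_natCard _)
    haveI : Nontrivial (P : Subgroup C) := (nontrivial_iff_ne_bot _).2 hne
    obtain ⟨u, hu⟩ := exists_ne (1 : (P : Subgroup C))
    rw [Nat.card_eq_two_iff]
    refine ⟨1, u, hu.symm, Set.eq_univ_of_forall fun x => ?_⟩
    rcases hall x with h | h
    · exact Or.inl (Subtype.ext h)
    · rcases hall u with h' | h'
      · exact absurd (Subtype.ext h') hu
      · exact Or.inr (Subtype.ext (Subtype.ext (h.trans h'.symm)))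
  set m := (P : Subgroup C).index with hm
  have hodd : ¬ 2 ∣ m := P.not_dvd_index
  have hcardC : Nat.card C = 2 * m := by rw [← (P : Subgroup C).card_mul_index, hP2]
  have hm30 : m.Coprime 30 := by
    refine Nat.coprime_of_dvd fun k hk hkm hk30 => ?_
    haveI := Fact.mk hk
    obtain ⟨x, hx⟩ := exists_prime_orderOf_dvd_card' (G := C) k (hcardC ▸ hkm.mul_left 2)
    have hk' : k = 2 ∨ k = 3 ∨ k = 5 := by
      have : k ∈ Nat.primeFactors 30 := Nat.mem_primeFactors.2 ⟨hk, hk30, by norm_num⟩
      rw [show Nat.primeFactors 30 = {2, 3, 5} by decide +kernel] at this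
      simpa using this
    rcases hk' with rfl | rfl | rfl
    · exact hodd hkm
    · exact hC x x.2 3 (Or.inl rfl) (by rw [Subgroup.orderOf_coe, hx])
    · exact hC x x.2 5 (Or.inr (Or.inr rfl)) (by rw [Subgroup.orderOf_coe, hx])
  -- the complement
  haveI : (P : Subgroup C).Normal := ⟨fun x hx g => by
    have : ((x : C) : G) ^ 2 = 1 := by
      have h2 := pow_card_eq_one' (G := (P : Subgroup C)) (x := ⟨x, hx⟩)
      rw [hP2] at h2
      exact congrArg (fun t : (P : Subgroup C) => ((t : C) : G)) h2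
    have hcom : g * x = x * g := Subtype.ext ((hG.commute_involution this g).symm.eq)
    rw [hcom, mul_inv_cancel_right]; exact hx⟩
  obtain ⟨M₀, hM₀⟩ := Subgroup.exists_right_complement'_of_coprime (N := (P : Subgroup C))
    (by rw [hP2]; exact Nat.coprime_two_left.2 (Nat.odd_iff.2 (by omega)))
  have hM₀card : Nat.card M₀ = m := hM₀.symm.index_eq_card.symm.trans rfl
  have hchar : ∀ x : C, x ∈ M₀ ↔ x ^ m = 1 := by
    intro x
    constructor
    · intro hx
      have := pow_card_eq_one' (G := M₀) (x := ⟨x, hx⟩)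
      rw [hM₀card] at this
      simpa using congrArg Subtype.val this
    · intro hx
      obtain ⟨⟨p, μ⟩, hpm⟩ := hM₀.2 x
      dsimp only at hpm
      have hμ : (μ : C) ^ m = 1 := by
        have := pow_card_eq_one' (G := M₀) (x := μ)
        rw [hM₀card] at this
        simpa using congrArg Subtype.val this
      have hp2 : (p : C) ^ 2 = 1 := by
        have := pow_card_eq_one' (G := (P : Subgroup C)) (x := p)
        rw [hP2] at this
        simpa using congrArg Subtype.val this
      have hcom : Commute (p : C) μ := by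
        apply Subtype.ext
        exact (hG.commute_involution (congrArg Subtype.val hp2) (μ : C)).eq
      rw [← hpm, hcom.mul_pow, hμ, mul_one] at hx
      obtain ⟨j, hj⟩ : Odd m := Nat.odd_iff.2 (by omega)
      rw [hj, pow_succ, pow_mul, hp2, one_pow, one_mul] at hx
      rw [← hpm, hx, one_mul]
      exact μ.2
  set M := M₀.map C.subtype
  have hMC : M ≤ C := map_subtype_le _
  have hMcard : Nat.card M = m := by rw [Subgroup.card_map_of_injective C.subtype_injective, hM₀card]
  refine ⟨E, M, ⟨e⟩, hEE, hEn, ⟨?_⟩, hMC, ?_, hMcard ▸ hm30, ?_, by rw [hMcard]; exact hcardC,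
    exists_action ⟨e⟩ hEE⟩
  · rintro _ ⟨y, hy, rfl⟩ g
    have hgy : g * (y : G) * g⁻¹ ∈ C := (inferInstance : C.Normal).conj_mem _ y.2 g
    refine ⟨⟨_, hgy⟩, (hchar _).2 (Subtype.ext ?_), rfl⟩
    rw [Subgroup.coe_pow, Subgroup.coe_one, conj_pow, ← Subgroup.coe_pow, (hchar y).1 hy]
    simp
  · rw [eq_bot_iff]
    rintro x ⟨hxE, hxM⟩
    have hx2 : x ^ 2 = 1 := congrArg Subtype.val (sq_eq_one_of_central e (x := ⟨x, hxE⟩)
      (mem_center_iff.2 fun z => Subtype.ext (mem_centralizer_iff.1 (hMC hxM) z z.2)))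
    have hxm : x ^ m = 1 := by
      have := pow_card_eq_one' (G := M) (x := ⟨x, hxM⟩)
      rw [hMcard] at this
      exact congrArg Subtype.val this
    obtain ⟨j, hj⟩ : Odd m := Nat.odd_iff.2 (by omega)
    rw [hj, pow_succ, pow_mul, hx2, one_pow, one_mul] at hxm
    exact hxm
  · refine hG.isZGroup fun Q hQ hQ2 => ?_
    obtain ⟨k, hk⟩ := IsPGroup.iff_card.1 hQ2
    have hdvd : Nat.card Q ∣ m := hMcard ▸ card_dvd_of_le hQ
    rw [hk] at hdvd
    rcases k with _ | k
    · rw [pow_zero] at hk
      haveI : Subsingleton Q := (Nat.card_eq_one_iff_unique.1 hk).1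
      infer_instance
    · exact absurd ((dvd_pow_self 2 k.succ_ne_zero).trans hdvd) hodd

theorem NSData.index_le_two {E M : Subgroup G} (D : NSData G E M) :
    (E ⊔ M).index = 1 ∨ (E ⊔ M).index = 2 := by
  obtain ⟨f, hker, hrange⟩ := D.action
  obtain ⟨e⟩ := D.equiv
  haveI := D.normalE
  have hE : Nat.card E = 120 := (Nat.card_congr e.toEquiv).trans card_SL25
  have hEM : Nat.card (E ⊔ M : Subgroup G) = 120 * Nat.card M := by
    have h := Subgroup.IsComplement'.card_mul (G := (E ⊔ M : Subgroup G))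
      (H := E.subgroupOf (E ⊔ M)) (K := M.subgroupOf (E ⊔ M))
      (Subgroup.isComplement'_of_disjoint_and_mul_eq_univ ?_ ?_)
    · rw [Nat.card_congr (Subgroup.subgroupOfEquivOfLe le_sup_left).toEquiv,
        Nat.card_congr (Subgroup.subgroupOfEquivOfLe le_sup_right).toEquiv, hE] at h
      exact h.symm
    · rw [Subgroup.disjoint_def]
      intro x hx hx'
      exact Subtype.ext ((Subgroup.mem_bot).1 (D.inf.le ⟨hx, hx'⟩))
    · refine Set.eq_univ_of_forall fun x => ?_
      obtain ⟨a, ha, b, hb, hab⟩ := Subgroup.mem_sup_of_normal_left.1 x.2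
      exact ⟨⟨a, le_sup_left (b := M) ha⟩, ha, ⟨b, le_sup_right (a := E) hb⟩, hb, Subtype.ext hab⟩
  have hG : Nat.card G = Nat.card f.range * (2 * Nat.card M) := by
    rw [← D.card_centralizer, ← hker, ← Subgroup.index_ker, Subgroup.index_mul_card]
  have h60 : 60 ∣ Nat.card f.range := by
    have := Subgroup.card_dvd_of_le hrange
    rwa [show Nat.card (alternatingGroup (Fin 5)) = 60 by
      rw [Nat.card_eq_fintype_card]; decide +kernel] at this
  have h120 : Nat.card f.range ∣ 120 := by
    have := f.range.card_subgroup_dvd_card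
    rwa [show Nat.card (Equiv.Perm (Fin 5)) = 120 by
      rw [Nat.card_perm, Nat.card_eq_fintype_card, Fintype.card_fin]; rfl] at this
  have hidx := (E ⊔ M).card_mul_index
  rw [hEM, hG] at hidx
  obtain ⟨k, hk⟩ := h60
  rw [hk] at h120 hidx
  have hk2 : k ∣ 2 := Nat.dvd_of_mul_dvd_mul_left (by norm_num : 0 < 60) (by simpa using h120)
  have hM : 0 < Nat.card M := Nat.card_pos
  have : (E ⊔ M).index = k := by nlinarith
  rw [this]
  exact (Nat.dvd_prime Nat.prime_two).1 hk2

end CfsgLib.Zassenhaus
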