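import Cfsg.Agent.Lib.Zassenhaus.Fpf
import Cfsg.Agent.Lib.Frobenius.FpfRep
import Cfsg.Agent.Lib.Frobenius.Complement
import Cfsg.Agent.Lib.Frobenius.Theorem
import Cfsg.Agent.Lib.FrobModule.Fpf
import Mathlib.LinearAlgebra.Matrix.ToLinearEquiv
import Mathlib.FieldTheory.IsAlgClosed.Basic

/-!
Fixed-point-free actions on finite groups give fixed-point-free complex representations.
-/

set_option autoImplicit false
set_option linter.style.haveILetI false

namespace CfsgLib.Zassenhaus

open Matrix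

theorem hasFpf_of_subsingleton (G : Type*) [Group G] [Subsingleton G] : HasFpf G :=
  ⟨1, 1, one_pos, fun g hg => absurd (Subsingleton.elim g 1) hg⟩

/-- Base change along a ring homomorphism of fields preserves the absence of fixed vectors. -/
theorem HasFpf.of_matrix {G : Type*} [Group G] {k : Type*} [Field k] (f : k →+* ℂ) {n : ℕ}
    (hn : 0 < n) (ρ : G →* GL (Fin n) k)
    (hρ : ∀ g : G, g ≠ 1 → ∀ v : Fin n → k, (ρ g : Matrix (Fin n) (Fin n) k).mulVec v = v → v = 0) :
    HasFpf G := by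
  classical
  refine ⟨n, (Matrix.toLinAlgEquiv' (R := ℂ) (n := Fin n)).toRingEquiv.toRingHom.toMonoidHom.comp
    ((f.mapMatrix.toMonoidHom.comp (Units.coeHom (Matrix (Fin n) (Fin n) k))).comp ρ), hn,
    fun g hg v hv => ?_⟩
  have hv' : (f.mapMatrix (ρ g : Matrix (Fin n) (Fin n) k) - 1).mulVec v = 0 := by
    rw [Matrix.sub_mulVec, Matrix.one_mulVec, sub_eq_zero]
    exact hv
  by_contra hv0
  have hdet := Matrix.exists_mulVec_eq_zero_iff.1 ⟨v, hv0, hv'⟩
  rw [← map_one f.mapMatrix, ← map_sub, ← RingHom.map_det, map_eq_zero,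
    ← Matrix.exists_mulVec_eq_zero_iff] at hdet
  obtain ⟨w, hw0, hw⟩ := hdet
  rw [Matrix.sub_mulVec, Matrix.one_mulVec, sub_eq_zero] at hw
  exact hw0 (hρ g hg w hw)

/-- A fixed-point-free representation in coprime characteristic gives a complex one. -/
theorem HasFpf.of_zmod {G : Type*} [Group G] [Finite G] (q : ℕ) [Fact q.Prime]
    (hq : ¬ q ∣ Nat.card G) {d : ℕ} (hd : 0 < d) (ρ : G →* GL (Fin d) (ZMod q))
    (hρ : ∀ g, g ≠ 1 → ∀ v : Fin d → ZMod q,
      (ρ g : Matrix (Fin d) (Fin d) (ZMod q)).mulVec v = v → v = 0) :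
    HasFpf G := by
  obtain ⟨n, σ, hn, -, -, hσ⟩ := CfsgLib.Frobenius.exists_fpf_qbar q hq d hd ρ hρ
  haveI : Algebra.IsAlgebraic ℚ (AlgebraicClosure ℚ) := AlgebraicClosure.isAlgebraic ℚ
  exact HasFpf.of_matrix (IsAlgClosed.lift : AlgebraicClosure ℚ →ₐ[ℚ] ℂ).toRingHom hn σ hσ

/-- A subgroup acting fixed-point-freely on a normal complement. -/
theorem HasFpf.of_isComplement' {L : Type*} [Group L] [Finite L] {K H : Subgroup L} [K.Normal]
    (hc : Subgroup.IsComplement' K H) (hK : K ≠ ⊥)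
    (hfpf : ∀ h ∈ H, h ≠ 1 → K ⊓ Subgroup.centralizer {h} = ⊥) : HasFpf H := by
  by_cases hH : H = ⊥
  · subst hH
    exact hasFpf_of_subsingleton _
  obtain ⟨q, hq, hqd⟩ := Nat.exists_prime_and_dvd (n := Nat.card K)
    (fun h => hK (Subgroup.card_eq_one.1 h))
  haveI : Fact q.Prime := ⟨hq⟩
  obtain ⟨V, hVK, hV, hcomm, hp, hn⟩ :=
    CfsgLib.Frobenius.exists_invariant_abelian hc hH hfpf hqd
  obtain ⟨d, hd, ρ, hρ⟩ := CfsgLib.Frobenius.exists_fpf_modp q V hV hcomm hp H hn
    (fun h hh h1 => eq_bot_iff.2 (le_trans (inf_le_inf_right _ hVK) (hfpf h hh h1).le))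
    (MonoidHom.id H) Function.injective_id
  refine HasFpf.of_zmod q (fun hqH => ?_) hd ρ hρ
  exact Nat.not_coprime_of_dvd_of_dvd hq.one_lt hqH hqd
    (CfsgLib.Frobenius.coprime_card_of_fpf
      (by rw [Subgroup.normalizer_eq_top]; exact le_top) hfpf)

/-- A Frobenius complement has a fixed-point-free complex representation. -/
theorem HasFpf.of_isFrobeniusComplement {L : Type*} [Group L] [Finite L] {H : Subgroup L}
    (hH : Cfsg.IsFrobeniusComplement H) : HasFpf H := by
  obtain ⟨N, -, hN, hc⟩ := CfsgLib.Frobenius.exists_kernel_subgroup hH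
  refine HasFpf.of_isComplement' hc (fun hbot => hH.2.1 ?_)
    (fun h hh h1 => CfsgLib.Frobenius.fpf_of_isFrobeniusComplement hc hH hh h1)
  subst hbot
  simpa using hc.sup_eq_top

/-- A finite group acting fixed-point-freely on a nontrivial finite group. -/
theorem HasFpf.of_mulAut {G : Type*} [Group G] [Finite G] {M : Type*} [Group M] [Finite M]
    [Nontrivial M] (φ : G →* MulAut M)
    (hfpf : ∀ g : G, g ≠ 1 → ∀ m : M, φ g m = m → m = 1) : HasFpf G := by
  rcases subsingleton_or_nontrivial G with hG | hG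
  · exact hasFpf_of_subsingleton G
  obtain ⟨L, iL, fL, C, hC, ⟨e⟩, -⟩ := CfsgLib.FrobModule.exists_complement_of_fpf φ hfpf
  exact (HasFpf.of_isFrobeniusComplement hC).of_injective e.toMonoidHom e.injective

/-- A finite group of linear maps of a nontrivial finite module without nonzero fixed vectors. -/
theorem HasFpf.of_linearEquiv {R : Type*} [Semiring R] {V : Type*} [AddCommGroup V] [Module R V]
    [Finite V] [Nontrivial V] (H : Subgroup (V ≃ₗ[R] V))
    (hfpf : ∀ h : H, h ≠ 1 → ∀ v : V, (h : V ≃ₗ[R] V) v = v → v = 0) : HasFpf H := by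
  haveI : Finite (V ≃ₗ[R] V) := Finite.of_injective (fun e v => e v) DFunLike.coe_injective
  let φ : H →* MulAut (Multiplicative V) := MonoidHom.mk'
    (fun h => AddEquiv.toMultiplicative (h : V ≃ₗ[R] V).toAddEquiv)
    (fun _ _ => MulEquiv.ext fun _ => rfl)
  exact HasFpf.of_mulAut φ fun h h1 m hm => Multiplicative.toAdd.injective
    (hfpf h h1 m.toAdd (congrArg Multiplicative.toAdd hm))

end CfsgLib.Zassenhaus
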