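import Cfsg.Agent.Lib.Zassenhaus.Fpf
import Cfsg.Agent.Lib.Solvable.CoprimeAbelian
import Cfsg.Agent.S0016
import Mathlib.GroupTheory.SpecificGroups.Quaternion
import Mathlib.GroupTheory.SpecificGroups.ZGroup
import Mathlib.GroupTheory.Transfer
import Mathlib.GroupTheory.Sylow

/-!
Structure of the subgroups of a group with a fixed-point-free representation: Sylow subgroups,
subgroups with cyclic Sylow 2-subgroups, uniqueness of subgroups of prime order.
-/

set_option autoImplicit false
set_option linter.unusedSectionVars false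
set_option linter.style.haveILetI false

open scoped Pointwise
open Subgroup

namespace CfsgLib.Zassenhaus

variable {G : Type*} [Group G] [Finite G]

/-- `P` is a quaternion group of order `4 * a` with `t` generating a cyclic subgroup of index 2. -/
structure IsQuat (P : Subgroup G) (t : G) (a : ℕ) : Prop where
  mem : t ∈ P
  orderOf_t : orderOf t = 2 * a
  two_le : 2 ≤ a
  exists_pow : ∃ k, a = 2 ^ k
  card : Nat.card P = 4 * a
  outer : ∀ g ∈ P, g ∉ zpowers t → g * g = t ^ a ∧ g * t * g⁻¹ = t⁻¹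
  mul_mem : ∀ g ∈ P, g ∉ zpowers t → ∀ h ∈ P, h ∉ zpowers t → g⁻¹ * h ∈ zpowers t

namespace IsQuat

variable {P : Subgroup G} {t : G} {a : ℕ}

theorem isPGroup (h : IsQuat P t a) : IsPGroup 2 P := by
  obtain ⟨k, hk⟩ := h.exists_pow
  exact IsPGroup.of_card (n := k + 2) (by rw [h.card, hk]; ring)

theorem zpowers_le (h : IsQuat P t a) : zpowers t ≤ P := Subgroup.zpowers_le.2 h.mem

theorem exists_outer (h : IsQuat P t a) : ∃ g ∈ P, g ∉ zpowers t := by
  by_contra hno
  push Not at hno
  have := Subgroup.card_le_of_le (show P ≤ zpowers t from hno)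
  rw [h.card, Nat.card_zpowers, h.orderOf_t] at this
  have := h.two_le
  omega

theorem pow_a_ne_one (h : IsQuat P t a) : t ^ a ≠ 1 := by
  intro e
  have := Nat.le_of_dvd (by have := h.two_le; omega) (orderOf_dvd_of_pow_eq_one e)
  rw [h.orderOf_t] at this
  have := h.two_le
  omega

theorem orderOf_outer (h : IsQuat P t a) {g : G} (hg : g ∈ P) (hgt : g ∉ zpowers t) :
    orderOf g = 4 := by
  obtain ⟨h2, -⟩ := h.outer g hg hgt
  haveI : Fact (Nat.Prime 2) := ⟨Nat.prime_two⟩
  refine orderOf_eq_prime_pow (p := 2) (n := 1) ?_ ?_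
  · rw [pow_one, pow_two, h2]; exact h.pow_a_ne_one
  · rw [show 2 ^ (1 + 1) = 2 * 2 from rfl, pow_mul, pow_two g, h2, ← pow_mul, mul_comm a,
      ← h.orderOf_t, pow_orderOf_eq_one]

theorem orderOf_dvd (h : IsQuat P t a) {g : G} (hg : g ∈ P) : orderOf g ∣ 2 * a := by
  by_cases hgt : g ∈ zpowers t
  · have := Subgroup.orderOf_dvd_natCard _ hgt
    rwa [Nat.card_zpowers, h.orderOf_t] at this
  · rw [h.orderOf_outer hg hgt]
    obtain ⟨k, hk⟩ := h.exists_pow
    obtain ⟨j, rfl⟩ : ∃ j, k = j + 1 := ⟨k - 1, by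
      rcases k with - | k
      · have := h.two_le; simp [hk] at this
      · omega⟩
    exact ⟨2 ^ j, by rw [hk]; ring⟩

theorem outer_conj_mem (h : IsQuat P t a) {g : G} (hg : g ∈ P) {z : G} (hz : z ∈ zpowers t) :
    g * z * g⁻¹ ∈ zpowers t := by
  by_cases hgt : g ∈ zpowers t
  · exact Subgroup.mul_mem _ (Subgroup.mul_mem _ hgt hz) (inv_mem hgt)
  · obtain ⟨i, rfl⟩ := mem_zpowers_iff.1 hz
    rw [← conj_zpow, (h.outer g hg hgt).2]
    exact zpow_mem (inv_mem (mem_zpowers t)) _

/-- Outside elements invert the cyclic subgroup. -/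
theorem outer_conj (h : IsQuat P t a) {g : G} (hg : g ∈ P) (hgt : g ∉ zpowers t) {z : G}
    (hz : z ∈ zpowers t) : g * z * g⁻¹ = z⁻¹ := by
  obtain ⟨i, rfl⟩ := mem_zpowers_iff.1 hz
  rw [← conj_zpow, (h.outer g hg hgt).2, inv_zpow]

/-- The centre of a quaternion group has exponent two. -/
theorem sq_eq_one_of_central (h : IsQuat P t a) {g : G} (hg : g ∈ P)
    (hc : ∀ x ∈ P, Commute g x) : g ^ 2 = 1 := by
  by_cases hgt : g ∈ zpowers t
  · obtain ⟨b, hb, hbt⟩ := h.exists_outer
    have := h.outer_conj hb hbt hgt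
    rw [(hc b hb).symm.eq, mul_inv_cancel_right] at this
    rw [pow_two]
    exact mul_eq_one_iff_eq_inv.2 this
  · exfalso
    have h2 := (h.outer g hg hgt).2
    rw [(hc t h.mem).eq, mul_inv_cancel_right] at h2
    have h4 : t ^ 2 = 1 := by rw [pow_two]; exact mul_eq_one_iff_eq_inv.2 h2
    have := Nat.le_of_dvd (by norm_num) (orderOf_dvd_of_pow_eq_one h4)
    rw [h.orderOf_t] at this
    have := h.two_le
    omega

theorem not_isCyclic (h : IsQuat P t a) : ¬ IsCyclic P := by
  intro hc
  have hcomm : ∀ x ∈ P, Commute t x := fun x hx =>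
    congrArg Subtype.val ((IsCyclic.commGroup (α := P)).mul_comm ⟨t, h.mem⟩ ⟨x, hx⟩)
  have := Nat.le_of_dvd (by norm_num) (orderOf_dvd_of_pow_eq_one (h.sq_eq_one_of_central h.mem hcomm))
  rw [h.orderOf_t] at this
  have := h.two_le
  omega

end IsQuat

/-- A p-subgroup is cyclic or quaternion. -/
theorem HasFpf.cyclic_or_quat (hG : HasFpf G) {p : ℕ} [hp : Fact p.Prime] {P : Subgroup G}
    (hP : IsPGroup p P) : IsCyclic P ∨ p = 2 ∧ ∃ t a, IsQuat P t a := by
  by_cases hP1 : Nontrivial P
  swap
  · rw [not_nontrivial_iff_subsingleton] at hP1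
    exact Or.inl inferInstance
  obtain ⟨c, hc⟩ : ∃ c : Subgroup.center P, orderOf c = p := by
    have := hP.center_nontrivial
    exact exists_prime_orderOf_dvd_card' p
      (((hP.to_subgroup _).card_eq_or_dvd).resolve_left Finite.one_lt_card.ne')
  rw [← Subgroup.orderOf_coe] at hc
  have huniq : ∀ X : Subgroup P, Nat.card X = p → X = zpowers (c : P) := by
    intro X hX
    haveI : IsCyclic X := isCyclic_of_prime_card hX
    obtain ⟨⟨x, hx⟩, hgen⟩ := IsCyclic.exists_ofOrder_eq_natCard (α := X)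
    have hox : orderOf x = p := (Subgroup.orderOf_mk x hx).symm.trans (hgen.trans hX)
    rw [← (hG.subgroup P).zpowers_eq_of_commute (x := (c : P)) (y := x)
      ((Subgroup.mem_center_iff.1 c.2 x).symm) (hox.trans hc.symm)]
    exact (Subgroup.eq_of_le_of_card_ge (Subgroup.zpowers_le.2 hx)
      (by rw [hX, Nat.card_zpowers, hox])).symm
  rcases Cfsg.Agent.S0016.result p hP (fun X Y hX hY => by rw [huniq X hX, huniq Y hY]) with
    h | ⟨h2, n, ⟨e⟩⟩
  · exact Or.inl h
  rcases Nat.eq_zero_or_pos n with rfl | hn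
  · have := QuaternionGroup.quaternionGroup_one_isCyclic
    exact Or.inl (e.isCyclic.2 (by simpa using this))
  have : NeZero (2 ^ n) := ⟨by positivity⟩
  set t₀ : QuaternionGroup (2 ^ n) := QuaternionGroup.a 1 with ht₀
  have hcases : ∀ x : QuaternionGroup (2 ^ n), x ∈ zpowers t₀ ∨ ∃ i, x = QuaternionGroup.xa i := by
    intro x
    cases x with
    | a i => exact Or.inl ⟨(i.val : ℤ), by
        change t₀ ^ ((i.val : ℕ) : ℤ) = _
        rw [zpow_natCast, ht₀, QuaternionGroup.a_one_pow, ZMod.natCast_zmod_val]⟩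
    | xa i => exact Or.inr ⟨i, rfl⟩
  have hmem : ∀ g (hg : g ∈ P), (g ∈ zpowers ((e.symm t₀ : P) : G) ↔ e ⟨g, hg⟩ ∈ zpowers t₀) := by
    intro g hg
    constructor
    · rintro ⟨i, hi⟩
      exact ⟨i, by
        change ((e.symm t₀ : P) : G) ^ i = g at hi
        have : (⟨g, hg⟩ : P) = (e.symm t₀) ^ i := Subtype.ext (by simpa using hi.symm)
        rw [this, map_zpow, MulEquiv.apply_symm_apply]⟩
    · rintro ⟨i, hi⟩
      refine ⟨i, ?_⟩
      change t₀ ^ i = _ at hi
      change ((e.symm t₀ : P) : G) ^ i = g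
      rw [← SubgroupClass.coe_zpow, ← map_zpow, hi, MulEquiv.symm_apply_apply]
  refine Or.inr ⟨h2, ((e.symm t₀ : P) : G), 2 ^ n, ⟨(e.symm t₀).2, ?_, ?_, ⟨n, rfl⟩, ?_, ?_, ?_⟩⟩
  · rw [Subgroup.orderOf_coe, MulEquiv.orderOf_eq, ht₀, QuaternionGroup.orderOf_a_one]
  · calc 2 = 2 ^ 1 := rfl
      _ ≤ 2 ^ n := Nat.pow_le_pow_right (by norm_num) hn
  · rw [Nat.card_congr e.toEquiv, Nat.card_eq_fintype_card, QuaternionGroup.card]
  · intro g hg hgt
    obtain ⟨i, hi⟩ := (hcases _).resolve_left (mt (hmem g hg).2 hgt)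
    have hg' : g = ((e.symm (QuaternionGroup.xa i) : P) : G) := by
      rw [← hi, MulEquiv.symm_apply_apply]
    have key : ∀ u v : QuaternionGroup (2 ^ n), u = v → ((e.symm u : P) : G) = (e.symm v : P) :=
      fun u v h => by rw [h]
    rw [hg']
    constructor
    · have := key (QuaternionGroup.xa i * QuaternionGroup.xa i) (t₀ ^ (2 ^ n)) (by
        rw [ht₀, QuaternionGroup.a_one_pow, QuaternionGroup.xa_mul_xa]
        simp)
      simpa only [map_mul, map_pow, Subgroup.coe_mul, SubgroupClass.coe_pow] using this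
    · have := key (QuaternionGroup.xa i * t₀ * (QuaternionGroup.xa i)⁻¹) t₀⁻¹ (by
        rw [mul_inv_eq_iff_eq_mul, eq_inv_mul_iff_mul_eq, ht₀, QuaternionGroup.xa_mul_a,
          QuaternionGroup.a_mul_xa]
        simp)
      simpa only [map_mul, map_inv, Subgroup.coe_mul, Subgroup.coe_inv] using this
  · intro g hg hgt g' hg' hgt'
    obtain ⟨i, hi⟩ := (hcases _).resolve_left (mt (hmem g hg).2 hgt)
    obtain ⟨j, hj⟩ := (hcases _).resolve_left (mt (hmem g' hg').2 hgt')
    refine (hmem _ (mul_mem (inv_mem hg) hg')).2 ?_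
    rw [show (⟨g⁻¹ * g', _⟩ : P) = (⟨g, hg⟩ : P)⁻¹ * ⟨g', hg'⟩ from rfl, map_mul, map_inv, hi, hj]
    refine ⟨((j - i : ZMod (2 * 2 ^ n)).val : ℤ), ?_⟩
    change t₀ ^ _ = _
    rw [eq_inv_mul_iff_mul_eq, zpow_natCast, ht₀, QuaternionGroup.a_one_pow,
      ZMod.natCast_zmod_val, QuaternionGroup.xa_mul_a]
    simp

/-- All 2-subgroups of `K` are cyclic. -/
def IsSmall (K : Subgroup G) : Prop := ∀ P : Subgroup G, P ≤ K → IsPGroup 2 P → IsCyclic P

theorem IsSmall.mono {K L : Subgroup G} (h : IsSmall K) (hL : L ≤ K) : IsSmall L :=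
  fun P hP => h P (hP.trans hL)

theorem HasFpf.isZGroup (hG : HasFpf G) {K : Subgroup G} (hK : IsSmall K) : IsZGroup K := by
  refine ⟨fun p hp S => ?_⟩
  haveI : Fact p.Prime := ⟨hp⟩
  have hS : IsPGroup p ((S : Subgroup K).map K.subtype) := S.2.map _
  have hc : IsCyclic ((S : Subgroup K).map K.subtype) := by
    rcases hG.cyclic_or_quat hS with h | ⟨rfl, -⟩
    · exact h
    · exact hK _ (map_subtype_le _) hS
  exact ((S : Subgroup K).equivMapOfInjective _ K.subtype_injective).isCyclic.2 hc

theorem HasFpf.isSolvable_of_small (hG : HasFpf G) {K : Subgroup G} (hK : IsSmall K) :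
    Group.IsSolvable K := by
  haveI := hG.isZGroup hK
  infer_instance

/-- The elements of odd order of `K` are closed under products. -/
def OddClosed (K : Subgroup G) : Prop :=
  ∀ x ∈ K, ∀ y ∈ K, Odd (orderOf x) → Odd (orderOf y) → Odd (orderOf (x * y))

/-- The subgroup of elements of odd order. -/
def oddPart {K : Subgroup G} (hK : OddClosed K) : Subgroup G where
  carrier := {x | x ∈ K ∧ Odd (orderOf x)}
  one_mem' := ⟨K.one_mem, by simp⟩
  mul_mem' hx hy := ⟨K.mul_mem hx.1 hy.1, hK _ hx.1 _ hy.1 hx.2 hy.2⟩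
  inv_mem' hx := ⟨K.inv_mem hx.1, by simpa using hx.2⟩

@[simp] theorem mem_oddPart {K : Subgroup G} {hK : OddClosed K} {x : G} :
    x ∈ oddPart hK ↔ x ∈ K ∧ Odd (orderOf x) := Iff.rfl

theorem oddPart_le {K : Subgroup G} (hK : OddClosed K) : oddPart hK ≤ K := fun _ h => h.1

theorem odd_card_oddPart {K : Subgroup G} (hK : OddClosed K) : Odd (Nat.card (oddPart hK)) := by
  rw [← Nat.not_even_iff_odd, even_iff_two_dvd]
  intro h
  haveI : Fact (Nat.Prime 2) := ⟨Nat.prime_two⟩
  obtain ⟨⟨x, hx⟩, h2⟩ := exists_prime_orderOf_dvd_card' 2 h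
  rw [← Subgroup.orderOf_coe] at h2
  have := hx.2
  rw [h2] at this
  exact absurd this (by decide)

theorem exists_card_eq_oddPart {K : Subgroup G} (hK : OddClosed K) :
    ∃ i, Nat.card K = Nat.card (oddPart hK) * 2 ^ i := by
  obtain ⟨i, m, hm, hKc⟩ := Nat.exists_eq_two_pow_mul_odd (n := Nat.card K) Nat.card_pos.ne'
  refine ⟨i, ?_⟩
  have h1 : Nat.card (oddPart hK) ∣ m :=
    ((Nat.coprime_two_right.2 (odd_card_oddPart hK)).pow_right i).dvd_of_dvd_mul_left
      (hKc ▸ card_dvd_of_le (oddPart_le hK))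
  have h2 : m ∣ Nat.card (oddPart hK) := by
    refine (Nat.dvd_iff_prime_pow_dvd_dvd _ _).2 fun q k hq hd => ?_
    rcases Nat.eq_zero_or_pos k with rfl | hk
    · simp
    haveI : Fact q.Prime := ⟨hq⟩
    obtain ⟨S, hS⟩ := Sylow.exists_subgroup_card_pow_prime (G := K) q
      (hKc ▸ hd.trans (Dvd.intro_left _ rfl))
    have hle : S.map K.subtype ≤ oddPart hK := by
      rintro _ ⟨x, hx, rfl⟩
      refine ⟨x.2, ?_⟩
      have hd2 := S.orderOf_dvd_natCard hx
      rw [hS, ← Subgroup.orderOf_coe] at hd2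
      have hqodd : Odd q := hm.of_dvd_nat ((dvd_pow_self q hk.ne').trans hd)
      exact (hqodd.pow).of_dvd_nat hd2
    have := card_dvd_of_le hle
    rwa [Subgroup.card_map_of_injective K.subtype_injective, hS] at this
  rw [hKc, Nat.dvd_antisymm h1 h2, mul_comm]

theorem conj_mem_oddPart {K : Subgroup G} (hK : OddClosed K) {g x : G}
    (hg : g ∈ normalizer (K : Set G)) (hx : x ∈ oddPart hK) : g * x * g⁻¹ ∈ oddPart hK := by
  refine ⟨(mem_normalizer_iff.1 hg x).1 hx.1, ?_⟩
  rw [← MulAut.conj_apply, MulEquiv.orderOf_eq]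
  exact hx.2

/-- Subgroups with cyclic Sylow 2-subgroups have a normal 2-complement. -/
theorem HasFpf.oddClosed_of_small (hG : HasFpf G) {K : Subgroup G} (hK : IsSmall K) :
    OddClosed K := by
  haveI := hG.isZGroup hK
  by_cases h2 : 2 ∣ Nat.card K
  swap
  · intro x hx y hy _ _
    exact (Nat.odd_iff.2 (Nat.two_dvd_ne_zero.1 h2)).of_dvd_nat
      (K.orderOf_dvd_natCard (K.mul_mem hx hy))
  haveI : Fact (Nat.Prime 2) := ⟨Nat.prime_two⟩
  have hmin : (Nat.card K).minFac = 2 := (Nat.minFac_eq_two_iff _).2 h2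
  set P : Sylow 2 K := default
  have hle := IsCyclic.normalizer_le_centralizer hmin (P := P) inferInstance
  set N := (MonoidHom.transferSylow P hle).ker with hN
  have hcompl := MonoidHom.ker_transferSylow_isComplement' P hle
  have hodd : Odd (Nat.card N) := by
    rw [← Nat.not_even_iff_odd, even_iff_two_dvd]
    exact MonoidHom.not_dvd_card_ker_transferSylow P hle
  have hmem : ∀ x : K, Odd (orderOf x) → x ∈ N := by
    intro x hx
    have h : MonoidHom.transferSylow P hle x = 1 := by
      rw [← orderOf_eq_one_iff]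
      obtain ⟨k, hk⟩ := IsPGroup.iff_orderOf.1 P.2 (MonoidHom.transferSylow P hle x)
      exact Nat.eq_one_of_dvd_coprimes ((Nat.coprime_two_right.2 hx).pow_right k)
        (orderOf_map_dvd _ x) (hk ▸ dvd_rfl)
    exact h
  intro x hx y hy ox oy
  have hxy : (⟨x, hx⟩ : K) * ⟨y, hy⟩ ∈ N :=
    mul_mem (hmem _ (by rwa [← Subgroup.orderOf_coe])) (hmem _ (by rwa [← Subgroup.orderOf_coe]))
  have := hodd.of_dvd_nat (N.orderOf_dvd_natCard hxy)
  rwa [← Subgroup.orderOf_coe] at this

/-- If a homomorphism of `K` into a commutative group has small kernel, then the elements of odd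
order of `K` form a subgroup. -/
theorem HasFpf.oddClosed_of_hom (hG : HasFpf G) {K : Subgroup G} {A : Type*} [CommGroup A]
    [Finite A] (φ : K →* A)
    (hker : ∀ P : Subgroup G, ∀ hP : P ≤ K, IsPGroup 2 P → (∀ x (hx : x ∈ P), φ ⟨x, hP hx⟩ = 1) →
      IsCyclic P) : OddClosed K := by
  let B : Subgroup A :=
    { carrier := {b | Odd (orderOf b)}
      one_mem' := by simp
      mul_mem' := fun {b c} hb hc =>
        (Odd.mul hb hc).of_dvd_nat (Commute.all b c).orderOf_mul_dvd_mul_orderOf
      inv_mem' := fun {b} hb => by simpa using hb }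
  set J := (B.comap φ).map K.subtype with hJ
  have hsmall : IsSmall J := by
    intro P hP h2
    refine hker P (hP.trans (map_subtype_le _)) h2 fun x hx => ?_
    obtain ⟨⟨x', hx'⟩, hB, rfl⟩ := hP hx
    obtain ⟨k, hk⟩ := h2 ⟨_, hx⟩
    have hk' : x' ^ 2 ^ k = 1 := congrArg Subtype.val hk
    have hB' : Odd (orderOf (φ ⟨x', hx'⟩)) := hB
    rw [← orderOf_eq_one_iff]
    refine Nat.eq_one_of_dvd_coprimes ((Nat.coprime_two_right.2 hB').pow_right k) dvd_rfl
      (orderOf_dvd_of_pow_eq_one ?_)
    have h1 : (⟨x', hx'⟩ : K) ^ 2 ^ k = 1 := Subtype.ext hk'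
    exact (map_pow φ ⟨x', hx'⟩ _).symm.trans ((congrArg φ h1).trans (map_one φ))
  intro x hx y hy ox oy
  have hm : ∀ z (hz : z ∈ K), Odd (orderOf z) → z ∈ J := fun z hz oz =>
    ⟨⟨z, hz⟩, oz.of_dvd_nat (by
      rw [show orderOf z = orderOf (⟨z, hz⟩ : K) from (Subgroup.orderOf_mk z hz).symm]
      exact orderOf_map_dvd _ _), rfl⟩
  exact hG.oddClosed_of_small hsmall x (hm x hx ox) y (hm y hy oy) ox oy

/-- An element of coprime order fixing the elements of prime order of a cyclic subgroup that it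
normalises centralises it. -/
theorem centralizes_cyclic {V : Subgroup G} [IsCyclic V] {g : G}
    (hg : g ∈ normalizer (V : Set G)) (hcop : (orderOf g).Coprime (Nat.card V))
    (hfix : ∀ v ∈ V, (orderOf v).Prime → Commute g v) : ∀ v ∈ V, Commute g v := by
  haveI : IsMulCommutative V := IsCyclic.isMulCommutative
  have := CfsgLib.Solvable.le_centralizer_of_fix_prime_order (A := zpowers g) (V := V)
    (Subgroup.zpowers_le.2 hg) (by rwa [Nat.card_zpowers]) fun v hv hp a ha => by
      obtain ⟨i, rfl⟩ := mem_zpowers_iff.1 ha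
      exact ((hfix v hv hp).zpow_left i).eq
  exact fun v hv => (mem_centralizer_iff.1 (this (mem_zpowers g)) v hv).symm

/-- An element of odd order centralises the cyclic 2-subgroups that it normalises. -/
theorem HasFpf.centralizes_two_cyclic (hG : HasFpf G) {V : Subgroup G} [IsCyclic V]
    (hV : IsPGroup 2 V) {g : G} (hg : g ∈ normalizer (V : Set G)) (hodd : Odd (orderOf g)) :
    ∀ v ∈ V, Commute g v := by
  haveI : Fact (Nat.Prime 2) := ⟨Nat.prime_two⟩
  obtain ⟨n, hn⟩ := hV.exists_card_eq
  refine centralizes_cyclic hg (hn ▸ (Nat.coprime_two_right.2 hodd).pow_right n) fun v hv hp => ?_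
  have h2 : orderOf v = 2 := by
    have h := V.orderOf_dvd_natCard hv
    rw [hn] at h
    exact (Nat.prime_dvd_prime_iff_eq hp Nat.prime_two).1 (hp.dvd_of_dvd_pow h)
  exact (hG.commute_involution (h2 ▸ pow_orderOf_eq_one v) g).symm

/-- An element of odd order centralises the quaternion groups of order at least 16 that it
normalises. -/
theorem HasFpf.centralizes_quat_large (hG : HasFpf G) {P : Subgroup G} {t : G} {a : ℕ}
    (hP : IsQuat P t a) {g : G} (hg : g ∈ normalizer (P : Set G)) (hodd : Odd (orderOf g))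
    (ha : 4 ≤ a) : ∀ v ∈ P, Commute g v := by
  have hmemP : ∀ x ∈ P, g * x * g⁻¹ ∈ P := fun x hx => (mem_normalizer_iff.1 hg x).1 hx
  have hn : g ∈ normalizer (zpowers t : Set G) := by
    have : ∀ x ∈ zpowers t, g * x * g⁻¹ ∈ zpowers t := by
      rintro x ⟨i, rfl⟩
      change g * t ^ i * g⁻¹ ∈ zpowers t
      rw [← conj_zpow]
      refine zpow_mem ?_ _
      by_contra hne
      have h4 := hP.orderOf_outer (hmemP t hP.mem) hne
      rw [← MulAut.conj_apply, MulEquiv.orderOf_eq, hP.orderOf_t] at h4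
      omega
    rw [mem_normalizer_iff]
    intro x
    refine ⟨this x, fun hx => ?_⟩
    obtain ⟨n, hn⟩ := (mem_powers_iff_mem_zpowers (x := g)).2 (inv_mem (mem_zpowers g))
    have key : ∀ k : ℕ, ∀ z ∈ zpowers t, g ^ k * z * (g ^ k)⁻¹ ∈ zpowers t := by
      intro k
      induction k with
      | zero => simp
      | succ k ih =>
        intro z hz
        have := this _ (ih z hz)
        convert this using 1
        rw [pow_succ']; group
    have := key n _ hx
    rw [show g ^ n = g⁻¹ from hn] at this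
    convert this using 1
    group
  have h1 := hG.centralizes_two_cyclic (hP.isPGroup.to_le hP.zpowers_le) hn hodd
  intro b hb
  by_cases hbt : b ∈ zpowers t
  · exact h1 b hbt
  have hb' : g * b * g⁻¹ ∉ zpowers t := by
    intro e
    apply hbt
    exact (mem_normalizer_iff.1 hn b).2 e
  have hz := hP.mul_mem b hb hbt _ (hmemP b hb) hb'
  set z := b⁻¹ * (g * b * g⁻¹) with hzdef
  have hcz : Commute g z := h1 z hz
  have hk : ∀ k : ℕ, g ^ k * b * (g ^ k)⁻¹ = b * z ^ k := by
    intro k
    induction k with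
    | zero => simp
    | succ k ih =>
      calc g ^ (k + 1) * b * (g ^ (k + 1))⁻¹ = g * (g ^ k * b * (g ^ k)⁻¹) * g⁻¹ := by
            rw [pow_succ']; group
        _ = g * b * (g⁻¹ * g) * z ^ k * g⁻¹ := by rw [ih]; group
        _ = (g * b * g⁻¹) * (g * z ^ k * g⁻¹) := by group
        _ = (b * z) * z ^ k := by
            rw [(hcz.pow_right k).eq, mul_inv_cancel_right, hzdef, mul_inv_cancel_left]
        _ = b * z ^ (k + 1) := by rw [pow_succ']; group
  have h2 := hk (orderOf g)
  rw [pow_orderOf_eq_one, one_mul, inv_one, mul_one, left_eq_mul] at h2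
  have hz2 : orderOf z ∣ 2 * a := hP.orderOf_dvd (hP.zpowers_le hz)
  obtain ⟨k, hk2⟩ := hP.exists_pow
  have : z = 1 := by
    rw [← orderOf_eq_one_iff]
    refine Nat.eq_one_of_dvd_coprimes ((Nat.coprime_two_right.2 hodd).pow_right (k + 1))
      (orderOf_dvd_of_pow_eq_one h2) ?_
    rw [pow_succ', ← hk2]; exact hz2
  rw [hzdef, inv_mul_eq_one] at this
  exact (mul_inv_eq_iff_eq_mul.1 this.symm)

/-- An element of odd order normalising a quaternion group centralises it, unless the group has
order eight and the element is of a special kind. -/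
theorem HasFpf.centralizes_quat (hG : HasFpf G) {P : Subgroup G} {t : G} {a : ℕ}
    (hP : IsQuat P t a) {g : G} (hg : g ∈ normalizer (P : Set G)) (hodd : Odd (orderOf g))
    (h : 4 ≤ a ∨ (orderOf g).Prime ∧ 5 ≤ orderOf g) : ∀ v ∈ P, Commute g v := by
  intro x hx
  rcases h with ha | ⟨hq, h5⟩
  · exact hG.centralizes_quat_large hP hg hodd ha x hx
  · by_contra hcomm
    by_cases ha : 4 ≤ a
    · -- covered by the first case
      exact hcomm (hG.centralizes_quat_large hP hg hodd ha x hx)
    have h8 : Nat.card P = 8 := by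
      obtain ⟨k, hk⟩ := hP.exists_pow
      have := hP.two_le
      have hk1 : k = 1 := by
        rcases k with - | - | k
        · simp [hk] at this
        · rfl
        · exfalso; apply ha; rw [hk]; calc 4 = 2 ^ 2 := rfl
            _ ≤ _ := Nat.pow_le_pow_right (by norm_num) (by omega)
      rw [hP.card, hk, hk1]; norm_num
    set c : ℕ → G := fun i => g ^ i * x * (g ^ i)⁻¹ with hc
    have hcP : ∀ i, c i ∈ P := fun i => (mem_normalizer_iff.1 (pow_mem hg i) x).1 hx
    have hinj : ∀ i j, i < orderOf g → j < orderOf g → c i = c j → i = j := by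
      intro i j hi hj e
      wlog hij : i ≤ j generalizing i j
      · exact (this j i hj hi e.symm (le_of_not_ge hij)).symm
      by_contra hne
      have h3 : Commute (g ^ (j - i)) x := by
        have hj' : g ^ j = g ^ i * g ^ (j - i) := by rw [← pow_add, Nat.add_sub_cancel' hij]
        simp only [hc, hj'] at e
        show g ^ (j - i) * x = x * g ^ (j - i)
        have e' := congrArg (fun u => (g ^ i)⁻¹ * u * g ^ i) e
        simp only [← mul_assoc, inv_mul_cancel, one_mul, mul_inv_rev, inv_mul_cancel_right] at e'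
        exact (mul_inv_eq_iff_eq_mul.1 e'.symm)
      have hne' : i ≠ j := hne
      obtain ⟨m, hm⟩ := exists_pow_eq_self_of_coprime (hq.coprime_iff_not_dvd.2 fun hdv => by
        have h1 := Nat.le_of_dvd (show 0 < j - i by omega) hdv
        omega).symm
      exact hcomm (hm ▸ h3.pow_left m)
    have hneg : ∀ i j, i < orderOf g → j < orderOf g → c i ≠ (c j)⁻¹ := by
      intro i j hi hj e
      have hsq : c i ≠ (c i)⁻¹ := by
        intro e2
        apply hcomm
        have h2 : x ^ 2 = 1 := by
          have : (c i) ^ 2 = 1 := by rw [pow_two]; exact mul_eq_one_iff_eq_inv.2 e2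
          simp only [hc, conj_pow, conj_eq_one_iff] at this
          exact this
        exact (hG.commute_involution h2 g).symm
      -- `u` carries `c i` to `c j = (c i)⁻¹`, so its square fixes `c i`; `u` has odd order
      set u := g ^ j * (g ^ i)⁻¹ with hu
      have hucj : u * c i * u⁻¹ = (c i)⁻¹ := by
        have h1 : u * c i * u⁻¹ = c j := by simp only [hu, hc]; group
        rw [h1, e, inv_inv]
      have h2 : Commute (u ^ 2) (c i) := by
        refine mul_inv_eq_iff_eq_mul.1 ?_
        calc u ^ 2 * c i * (u ^ 2)⁻¹ = u * (u * c i * u⁻¹) * u⁻¹ := by rw [pow_two]; group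
          _ = (u * c i * u⁻¹)⁻¹ := by rw [hucj, ← conj_inv, hucj]
          _ = c i := by rw [hucj, inv_inv]
      have hou : Odd (orderOf u) := by
        refine hodd.of_dvd_nat ?_
        rw [← Nat.card_zpowers g]
        exact Subgroup.orderOf_dvd_natCard _
          (mul_mem (pow_mem (mem_zpowers g) j) (inv_mem (pow_mem (mem_zpowers g) i)))
      obtain ⟨m, hm⟩ := exists_pow_eq_self_of_coprime (Nat.coprime_two_left.2 hou)
      have h3 : Commute u (c i) := hm ▸ h2.pow_left m
      rw [h3.eq, mul_inv_cancel_right] at hucj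
      exact hsq hucj
    let F : Fin (orderOf g) × Bool → P := fun p =>
      if p.2 then ⟨c p.1, hcP _⟩ else ⟨(c p.1)⁻¹, inv_mem (hcP _)⟩
    have hF : Function.Injective F := by
      rintro ⟨i, b⟩ ⟨j, b'⟩ e
      cases b <;> cases b' <;> simp only [F, Bool.false_eq_true, if_false, if_true,
        Subtype.mk.injEq] at e
      · rw [inv_inj] at e; rw [Fin.ext (hinj i j i.2 j.2 e)]
      · exact absurd e.symm (hneg j i j.2 i.2)
      · exact absurd e (hneg i j i.2 j.2)
      · rw [Fin.ext (hinj i j i.2 j.2 e)]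
    have := Nat.card_le_card_of_injective F hF
    rw [h8, Nat.card_prod, Nat.card_fin, Nat.card_eq_fintype_card (α := Bool), Fintype.card_bool] at this
    omega

/-- An element of odd prime order centralises a normalised p-subgroup, apart from the exceptional
action of elements of order 3 on quaternion groups of order 8. -/
theorem HasFpf.prime_centralizes (hG : HasFpf G) {p : ℕ} [Fact p.Prime] {P : Subgroup G}
    (hP : IsPGroup p P) {g : G} (hq : (orderOf g).Prime) (hodd : Odd (orderOf g))
    (hg : g ∈ normalizer (P : Set G)) (h : orderOf g ≠ 3 ∨ IsCyclic P) : ∀ v ∈ P, Commute g v := by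
  have hcyc : IsCyclic P → ∀ v ∈ P, Commute g v := by
    intro hc
    obtain ⟨⟨x, hx⟩, hgen⟩ := hc.exists_generator
    have hP' : ∀ v ∈ P, v ∈ zpowers x := fun v hv => by
      obtain ⟨i, hi⟩ := hgen ⟨v, hv⟩
      exact ⟨i, congrArg Subtype.val hi⟩
    have h1 := hG.commute_of_normalize hq rfl (hP' _ ((mem_normalizer_iff.1 hg x).1 hx))
    intro v hv
    obtain ⟨i, rfl⟩ := mem_zpowers_iff.1 (hP' v hv)
    exact h1.zpow_right i
  rcases hG.cyclic_or_quat hP with hc | ⟨-, t, a, hQ⟩
  · exact hcyc hc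
  · rcases h with h | h
    · refine hG.centralizes_quat hQ hg hodd (Or.inr ⟨hq, ?_⟩)
      have := hq.two_le
      obtain ⟨k, hk⟩ := hodd
      omega
    · exact hcyc h

/-- A solvable subgroup has only one subgroup of order `q`, unless `q = 3` and its Sylow
2-subgroups are not cyclic. -/
theorem HasFpf.unique_prime (hG : HasFpf G) {q : ℕ} (hq : q.Prime) (hodd : Odd q) :
    ∀ {K : Subgroup G}, Group.IsSolvable K → (q ≠ 3 ∨ IsSmall K) →
      ∀ {x y : G}, x ∈ K → y ∈ K → orderOf x = q → orderOf y = q → y ∈ zpowers x := by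
  intro K
  induction h : Nat.card K using Nat.strong_induction_on generalizing K with
  | h n ih =>
  intro hsol hyp x y hxK hyK hx hy
  haveI : Nontrivial K := ⟨⟨⟨x, hxK⟩, 1, fun e => hq.one_lt.ne (by
    rw [← hx, show x = 1 from congrArg Subtype.val e, orderOf_one])⟩⟩
  haveI := hsol
  obtain ⟨M, hM, hcM⟩ := (IsCoatomic.eq_top_or_exists_le_coatom (_root_.commutator K)).resolve_left
    (Group.IsSolvable.commutator_lt_top_of_nontrivial K).ne
  haveI : M.Normal := ⟨fun n hn g => by
    have h := mul_mem (hcM (commutator_mem_commutator (mem_top g) (mem_top n))) hn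
    convert h using 1
    simp [commutatorElement_def]⟩
  set N := M.map K.subtype with hN
  have hNK : N ≤ K := map_subtype_le _
  have hlt : Nat.card N < n := by
    rw [hN, card_map_of_injective K.subtype_injective, ← h]
    exact lt_of_le_of_ne (card_le_card_group M) fun e => hM.1 (card_eq_iff_eq_top M |>.1 e)
  have hnorm : K ≤ normalizer (N : Set G) := by
    intro g hg
    have key : ∀ g ∈ K, ∀ m ∈ N, g * m * g⁻¹ ∈ N := by
      rintro g hg _ ⟨m, hm, rfl⟩
      exact ⟨⟨g, hg⟩ * m * ⟨g, hg⟩⁻¹, Normal.conj_mem ‹M.Normal› m hm _, rfl⟩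
    rw [mem_normalizer_iff]
    exact fun m => ⟨key g hg m, fun hm => by simpa [mul_assoc] using key _ (inv_mem hg) _ hm⟩
  haveI : Group.IsSolvable N :=
    Group.isSolvable_of_isSolvable_injective (Subgroup.inclusion_injective hNK)
  by_cases hqN : q ∣ Nat.card N
  · haveI : Fact q.Prime := ⟨hq⟩
    obtain ⟨⟨z, hzN⟩, hz⟩ := exists_prime_orderOf_dvd_card' q hqN
    rw [← Subgroup.orderOf_coe] at hz
    have key : ∀ u ∈ K, orderOf u = q → zpowers u = zpowers z := by
      intro u hu hou
      refine hG.zpowers_eq_of_commute ?_ (hou.trans hz.symm)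
      refine (hG.commute_of_normalize hq hou ?_).symm
      refine ih _ hlt rfl inferInstance (hyp.imp id fun h => h.mono hNK) hzN
        ((mem_normalizer_iff.1 (hnorm hu) z).1 hzN) hz ?_
      rw [← MulAut.conj_apply, MulEquiv.orderOf_eq, hz]
    rw [key x hxK hx, ← key y hyK hy]
    exact mem_zpowers y
  · have hxM : (⟨x, hxK⟩ : K) ∉ M := fun hm => hqN (by
      rw [← hx]; exact N.orderOf_dvd_natCard ⟨_, hm, rfl⟩)
    -- `x` centralises `N`
    have hcard : Nat.card N ∣ Nat.card (N ⊓ centralizer {x} : Subgroup G) := by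
      refine (Nat.dvd_iff_prime_pow_dvd_dvd _ _).2 fun r k hr hd => ?_
      haveI : Fact r.Prime := ⟨hr⟩
      let φ : zpowers x →* MulAut N := (N.normalizerMonoidHom).comp
        (Subgroup.inclusion (Subgroup.zpowers_le.2 (hnorm hxK)))
      letI : MulAction (zpowers x) (Sylow r N) := MulAction.compHom _ φ
      haveI : Fact q.Prime := ⟨hq⟩
      have hxp : IsPGroup q (zpowers x) :=
        IsPGroup.of_card (n := 1) (by rw [Nat.card_zpowers, hx, pow_one])
      obtain ⟨S, hS⟩ := hxp.nonempty_fixed_point_of_prime_not_dvd_card (Sylow r N)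
        fun hd' => hqN (hd'.trans ((Sylow.card_dvd_index (default : Sylow r N)).trans
          (index_dvd_card _)))
      have hfix := hS ⟨x, mem_zpowers x⟩
      have hfix' : φ ⟨x, mem_zpowers x⟩ • (S : Subgroup N) = S := congrArg Sylow.toSubgroup hfix
      set S' := (S : Subgroup N).map N.subtype with hS'
      have hxS : x ∈ normalizer (S' : Set G) := by
        have key : ∀ v ∈ S', x * v * x⁻¹ ∈ S' := by
          rintro _ ⟨v, hv, rfl⟩
          have : φ ⟨x, mem_zpowers x⟩ • v ∈ (S : Subgroup N) := by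
            rw [← hfix']; exact smul_mem_pointwise_smul _ _ _ hv
          exact ⟨_, this, rfl⟩
        rw [mem_normalizer_iff]
        intro v
        refine ⟨key v, fun hv => ?_⟩
        have : ∀ m : ℕ, ∀ w ∈ S', x ^ m * w * (x ^ m)⁻¹ ∈ S' := by
          intro m
          induction m with
          | zero => simp
          | succ m im =>
            intro w hw
            have := key _ (im w hw)
            convert this using 1
            rw [pow_succ']; group
        have := this (q - 1) _ hv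
        rw [show x ^ (q - 1) = x⁻¹ by
          rw [eq_inv_iff_mul_eq_one, ← pow_succ, Nat.sub_add_cancel hq.pos, ← hx,
            pow_orderOf_eq_one]] at this
        convert this using 1
        group
      have hS'p : IsPGroup r S' := S.2.map _
      have hcent := hG.prime_centralizes hS'p (hx ▸ hq) (hx ▸ hodd) hxS (by
        rcases hyp with h3 | hs
        · exact Or.inl (hx ▸ h3)
        · right
          rcases hG.cyclic_or_quat hS'p with hc | ⟨rfl, -⟩
          · exact hc
          · exact hs _ ((map_subtype_le _).trans hNK) hS'p)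
      have hle : S' ≤ N ⊓ centralizer {x} :=
        le_inf (map_subtype_le _) fun v hv => mem_centralizer_singleton_iff.2 (hcent v hv).eq.symm
      refine dvd_trans ?_ (card_dvd_of_le hle)
      rw [hS', card_map_of_injective N.subtype_injective]
      exact Sylow.pow_dvd_card_of_pow_dvd_card _ hd
    have heq : N ⊓ centralizer {x} = N :=
      eq_of_le_of_card_ge inf_le_left (Nat.le_of_dvd Nat.card_pos hcard)
    -- so `x` is central in `K`
    have hcx : ∀ u : K, Commute (u : G) x := by
      intro u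
      have hu : u ∈ M ⊔ zpowers ⟨x, hxK⟩ := by
        rw [hM.2 _ (left_lt_sup.2 fun hle => hxM (hle (mem_zpowers _)))]
        trivial
      revert hu
      refine fun hu => (?_ : M ⊔ zpowers ⟨x, hxK⟩ ≤ (centralizer {x}).comap K.subtype) hu |>
        fun hm => (mem_centralizer_singleton_iff.1 hm)
      refine sup_le (fun m hm => ?_) ?_
      · have : (m : G) ∈ N ⊓ centralizer {x} := heq.symm ▸ ⟨m, hm, rfl⟩
        exact this.2
      · rw [Subgroup.zpowers_le]
        exact mem_centralizer_singleton_iff.2 rfl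
    exact hG.mem_zpowers_of_commute (hcx ⟨y, hyK⟩).symm (hy.trans hx.symm).dvd

/-- A nonsolvable subgroup contains a nontrivial perfect subgroup that it normalises. -/
theorem exists_perfect (K : Subgroup G) (hK : ¬ Group.IsSolvable K) :
    ∃ E : Subgroup G, E ≤ K ∧ E ≠ ⊥ ∧ ⁅E, E⁆ = E ∧ K ≤ normalizer (E : Set G) := by
  obtain ⟨n, hn⟩ : ∃ n, derivedSeries K (n + 1) = derivedSeries K n := by
    by_contra hno
    push Not at hno
    have hlt : StrictAnti (derivedSeries K) := strictAnti_nat_of_succ_lt fun n =>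
      lt_of_le_of_ne (derivedSeries_antitone K n.le_succ) (hno n)
    exact not_injective_infinite_finite _ hlt.injective
  refine ⟨(derivedSeries K n).map K.subtype, map_subtype_le _, ?_, ?_, ?_⟩
  · intro hbot
    apply hK
    rw [map_eq_bot_iff_of_injective _ K.subtype_injective] at hbot
    exact ⟨⟨n, hbot⟩⟩
  · rw [← map_commutator, ← derivedSeries_succ, hn]
  · intro g hg
    have key : ∀ g ∈ K, ∀ m ∈ (derivedSeries K n).map K.subtype,
        g * m * g⁻¹ ∈ (derivedSeries K n).map K.subtype := by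
      rintro g hg _ ⟨m, hm, rfl⟩
      exact ⟨⟨g, hg⟩ * m * ⟨g, hg⟩⁻¹, (derivedSeries_normal K n).conj_mem m hm _, rfl⟩
    rw [mem_normalizer_iff]
    exact fun m => ⟨key g hg m, fun hm => by simpa [mul_assoc] using key _ (inv_mem hg) _ hm⟩

end CfsgLib.Zassenhaus
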