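import Cfsg.Agent.Lib.Zassenhaus.Local
import Cfsg.Agent.Lib.Present.BinIcosahedral
import Cfsg.Agent.Lib.Fusion.FrobeniusCriterion
import Mathlib.Tactic.FieldSimp
import Mathlib.Data.Real.Basic

/-!
A perfect group with a fixed-point-free representation is `SL(2, 5)`.
-/

set_option autoImplicit false
set_option linter.unusedSectionVars false
set_option linter.style.haveILetI false

open scoped Pointwise
open Subgroup

namespace CfsgLib.Zassenhaus

theorem HasFpf.exists_irreducible {G : Type*} [Group G] [Finite G] (hG : HasFpf G) :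
    ∃ (d : ℕ) (ρ : Representation ℂ G (Fin d → ℂ)), 0 < d ∧ ρ.IsIrreducible ∧
      ∀ g : G, g ≠ 1 → ∀ v : Fin d → ℂ, ρ g v = v → v = 0 := by
  classical
  have hex : ∃ d, 0 < d ∧ ∃ ρ : Representation ℂ G (Fin d → ℂ),
      ∀ g : G, g ≠ 1 → ∀ v : Fin d → ℂ, ρ g v = v → v = 0 := by
    obtain ⟨d, ρ, hd, h⟩ := hG
    exact ⟨d, hd, ρ, h⟩
  obtain ⟨hd, ρ, hρ⟩ := Nat.find_spec hex
  refine ⟨Nat.find hex, ρ, hd, ?_, hρ⟩
  haveI : NeZero (Nat.find hex) := ⟨hd.ne'⟩
  haveI : Nontrivial (Subrepresentation ρ) := ⟨⟨⊥, ⊤, fun h => by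
    have h' : (⊥ : Submodule ℂ (Fin (Nat.find hex) → ℂ)) = ⊤ := congrArg Subrepresentation.toSubmodule h
    exact bot_ne_top h'⟩⟩
  refine ⟨fun W => ?_⟩
  by_cases hW : W.toSubmodule = ⊥
  · exact Or.inl (Subrepresentation.toSubmodule_injective hW)
  refine Or.inr (Subrepresentation.toSubmodule_injective ?_)
  set e := Module.finrank ℂ W.toSubmodule with he
  have he0 : 0 < e := by
    haveI : Nontrivial W.toSubmodule := Submodule.nontrivial_iff_ne_bot.2 hW
    exact Module.finrank_pos
  let eq : W.toSubmodule ≃ₗ[ℂ] (Fin e → ℂ) := (Module.finBasis ℂ W.toSubmodule).equivFun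
  have hle : Nat.find hex ≤ e := Nat.find_min' hex ⟨he0, CfsgLib.Char.transport W.toRepresentation eq,
    fun g hg v hv => by
      have h1 : W.toRepresentation g (eq.symm v) = eq.symm v := by
        apply eq.injective
        rw [LinearEquiv.apply_symm_apply]
        simpa [CfsgLib.Char.transport_apply, LinearEquiv.conj_apply] using hv
      have h2 : ρ g (eq.symm v : Fin (Nat.find hex) → ℂ) = (eq.symm v : Fin (Nat.find hex) → ℂ) :=
        congrArg Subtype.val h1
      exact eq.symm.injective (by rw [map_zero]; exact Subtype.ext (hρ g hg _ h2))⟩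
  refine Submodule.eq_top_of_finrank_eq ?_
  rw [Module.finrank_fin_fun]
  exact le_antisymm (by simpa using Submodule.finrank_le W.toSubmodule) hle

theorem lower_bound {Ω N o w : ℕ} (h : 2 * (o * w) * Ω + N = N * o) {m : ℕ} (hm : m ≤ o) (ho : 0 < o) :
    (N : ℝ) * (m - 1) ≤ 2 * (m * w) * Ω := by
  have h' : 2 * ((o : ℝ) * w) * Ω + N = N * o := by exact_mod_cast h
  have hm' : (m : ℝ) ≤ o := by exact_mod_cast hm
  have ho' : (0 : ℝ) < o := by exact_mod_cast ho
  have hN : (0 : ℝ) ≤ N := Nat.cast_nonneg _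
  refine le_of_mul_le_mul_left ?_ ho'
  calc (o : ℝ) * (N * (m - 1)) = N * o * m - N * o := by ring
    _ ≤ N * o * m - N * m := by linarith [mul_le_mul_of_nonneg_left hm' hN]
    _ = (o : ℝ) * (2 * (m * w) * Ω) := by
        have : (N : ℝ) * o * m = (2 * ((o : ℝ) * w) * Ω + N) * m := by rw [h']
        rw [this]; ring

theorem upper_bound {Ω N o w : ℕ} (h : 2 * (o * w) * Ω + N = N * o) (ho : 0 < o) (hN : 0 < N) :
    2 * (w : ℝ) * Ω < N := by
  have h' : 2 * ((o : ℝ) * w) * Ω + N = N * o := by exact_mod_cast h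
  have ho' : (0 : ℝ) < o := by exact_mod_cast ho
  have hN' : (0 : ℝ) < N := by exact_mod_cast hN
  refine lt_of_mul_lt_mul_left ?_ ho'.le
  linarith

theorem five_le {o : ℕ} (ho : Odd o) {q : ℕ} (hq : q.Prime) (hqo : q ∣ o) (h3 : q ≠ 3) : 5 ≤ o := by
  have h2 := hq.two_le
  obtain ⟨k, hk⟩ := ho.of_dvd_nat hqo
  have := Nat.le_of_dvd ho.pos hqo
  omega

variable {H : Type*} [Group H] [Finite H]

/-- Without elements of order three the odd elements normalising a quaternion group of order
eight centralise it. -/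
theorem centralizes_eight {G : Type*} [Group G] [Finite G] (hG : HasFpf G) {Q : Subgroup G}
    (h8 : Nat.card Q = 8) {g : G} (hg : g ∈ normalizer (Q : Set G)) (hodd : Odd (orderOf g))
    (h3 : ¬ 3 ∣ orderOf g) : ∀ x ∈ Q, Commute g x := by
  intro x hx
  by_cases hx2 : x ^ 2 = 1
  · exact (hG.commute_involution hx2 g).symm
  letI : MulAction (zpowers g) Q := MulAction.compHom Q
    (Q.normalizerMonoidHom.comp (Subgroup.inclusion (Subgroup.zpowers_le.2 hg)))
  set O := MulAction.orbit (zpowers g) (⟨x, hx⟩ : Q) with hO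
  have hcoe : ∀ (u : zpowers g) (v : Q), ((u • v : Q) : G) = (u : G) * v * (u : G)⁻¹ := fun _ _ => rfl
  have hmem : ∀ o ∈ O, ∀ o' ∈ O, o ≠ o'⁻¹ := by
    rintro _ ⟨u, rfl⟩ _ ⟨v, rfl⟩ e
    set o := (u : G) * x * (u : G)⁻¹ with ho
    set w := (v : G) * (u : G)⁻¹ with hw
    have e' : o = ((v : G) * x * (v : G)⁻¹)⁻¹ := congrArg Subtype.val e
    have hwo : w * o * w⁻¹ = o⁻¹ := by
      rw [hw, ho, show (v : G) * (u : G)⁻¹ * ((u : G) * x * (u : G)⁻¹) * ((v : G) * (u : G)⁻¹)⁻¹
        = (v : G) * x * (v : G)⁻¹ by group, ← ho, e', inv_inv]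
    have h2 : Commute (w ^ 2) o := by
      refine mul_inv_eq_iff_eq_mul.1 ?_
      calc w ^ 2 * o * (w ^ 2)⁻¹ = w * (w * o * w⁻¹) * w⁻¹ := by rw [pow_two]; group
        _ = (w * o * w⁻¹)⁻¹ := by rw [hwo, ← conj_inv, hwo]
        _ = o := by rw [hwo, inv_inv]
    have hwodd : Odd (orderOf w) := by
      refine hodd.of_dvd_nat ?_
      rw [← Nat.card_zpowers g]
      exact Subgroup.orderOf_dvd_natCard _ (mul_mem v.2 (inv_mem u.2))
    obtain ⟨m, hm⟩ := exists_pow_eq_self_of_coprime (Nat.coprime_two_left.2 hwodd)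
    have h3' : Commute w o := hm ▸ h2.pow_left m
    rw [h3'.eq, mul_inv_cancel_right] at hwo
    have : o ^ 2 = 1 := by rw [pow_two]; exact mul_eq_one_iff_eq_inv.2 hwo
    rw [ho, conj_pow, conj_eq_one_iff] at this
    exact hx2 this
  have hle : Nat.card O * 2 ≤ 8 := by
    let F : O × Bool → Q := fun p => if p.2 then p.1.1 else (p.1.1)⁻¹
    have hF : Function.Injective F := by
      rintro ⟨⟨o, ho⟩, b⟩ ⟨⟨o', ho'⟩, b'⟩ e
      cases b <;> cases b' <;> simp only [F, Bool.false_eq_true, if_false, if_true] at e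
      · obtain rfl := inv_inj.1 e; rfl
      · exact absurd e.symm (hmem _ ho' _ ho)
      · exact absurd e (hmem _ ho _ ho')
      · subst e; rfl
    have := Nat.card_le_card_of_injective F hF
    rwa [Nat.card_prod, Nat.card_eq_fintype_card (α := Bool), Fintype.card_bool, h8] at this
  have hd : Nat.card O ∣ orderOf g := by
    rw [Nat.card_congr (MulAction.orbitEquivQuotientStabilizer (zpowers g) (⟨x, hx⟩ : Q)),
      ← Nat.card_zpowers g]
    exact Subgroup.card_quotient_dvd_card _
  have h1 : Nat.card O = 1 := by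
    obtain ⟨k, hk⟩ := hodd.of_dvd_nat hd
    have h3' : Nat.card O ≠ 3 := fun e => h3 (e ▸ hd)
    omega
  have := (Nat.card_eq_one_iff_unique.1 h1).1
  have heq := congrArg (fun o : O => ((o : Q) : G)) (Subsingleton.elim
    (⟨(⟨g, mem_zpowers g⟩ : zpowers g) • (⟨x, hx⟩ : Q), ⟨_, rfl⟩⟩ : O)
    ⟨⟨x, hx⟩, MulAction.mem_orbit_self _⟩)
  exact mul_inv_eq_iff_eq_mul.1 ((hcoe _ _).symm.trans heq)

theorem Minimal.three_dvd {G : Type*} [Group G] [Finite G] (hH : Minimal G) : 3 ∣ Nat.card G := by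
  haveI : Fact (Nat.Prime 2) := ⟨Nat.prime_two⟩
  by_contra h3
  have hnpc : Cfsg.HasNormalPComplement 2 G := by
    refine CfsgLib.NPC.frobenius_criterion fun Q hQ g hg hco => mem_centralizer_iff.2 fun x hx => ?_
    have hodd : Odd (orderOf g) := Nat.coprime_two_right.1 hco
    have key : Commute g x := by
      rcases hH.fpf.cyclic_or_quat hQ with hc | ⟨-, t, a, hQ'⟩
      · haveI := hc
        exact hH.fpf.centralizes_two_cyclic hQ hg hodd x hx
      · obtain ⟨k, hk⟩ := hQ'.exists_pow
        have := hQ'.two_le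
        rcases k with - | - | k
        · simp [hk] at this
        · exact centralizes_eight hH.fpf (by rw [hQ'.card, hk]; norm_num) hg hodd
            (fun h => h3 (h.trans (orderOf_dvd_natCard g))) x hx
        · exact hH.fpf.centralizes_quat hQ' hg hodd (Or.inl (by
            rw [hk]; calc 4 = 2 ^ 2 := rfl
              _ ≤ _ := Nat.pow_le_pow_right (by norm_num) (by omega))) x hx
    exact key.eq.symm
  obtain ⟨S, N, hN, hNc⟩ := hnpc
  haveI := hN
  have hS : (S : Subgroup G) ≠ ⊥ := fun h => by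
    obtain ⟨t, a, hQ⟩ := hH.sylow_isQuat S
    have := hQ.card
    rw [h, Subgroup.card_bot] at this
    omega
  haveI : Nontrivial (G ⧸ N) := by
    rw [← Finite.one_lt_card_iff_nontrivial]
    show 1 < N.index
    rw [hNc.symm.index_eq_card]
    exact Finite.one_lt_card_iff_nontrivial.2 ((nontrivial_iff_ne_bot _).2 hS)
  have hq : IsPGroup 2 (G ⧸ N) := by
    obtain ⟨n, hn⟩ := S.isPGroup'.exists_card_eq
    exact IsPGroup.of_card (n := n) (by rw [← hn, ← hNc.symm.index_eq_card]; rfl)
  haveI := hq.isNilpotent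
  refine (Group.IsSolvable.commutator_lt_top_of_nontrivial (G ⧸ N)).ne ?_
  rw [_root_.commutator_def, ← Subgroup.map_top_of_surjective (QuotientGroup.mk' N)
    (QuotientGroup.mk'_surjective N), ← map_commutator, ← _root_.commutator_def, hH.perfect]

/-- The counting data of a component, over a given family of already used sets. -/
theorem exists_component (hH : Minimal H) {K0 : Subgroup H} (hc : Core K0) {P : Sylow 2 H} {t : H}
    {a : ℕ} (hQ : IsQuat (P : Subgroup H) t a) {x : H} (hx1 : x ≠ 1) (hxo : Odd (orderOf x))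
    (hx0 : x ∉ omega K0) :
    ∃ v, IsB K0 v ∧ x ∈ omega (normalizer (zpowers v : Set H)) ∧ Commute x v ∧
      Disjoint (omega K0) (omega (normalizer (zpowers v : Set H))) := by
  obtain ⟨k, hkp, hko⟩ := exists_prime_pow hx1 hxo
  have hxk : Commute x (x ^ k) := (Commute.refl x).pow_right k
  have hB : IsB K0 (x ^ k) := by
    refine ⟨hkp, hko, fun h hh => hx0 ⟨hx1, hxo, h, ?_⟩⟩
    refine hc.iso _ hh (by rwa [orderOf_conj_eq]) (by rwa [orderOf_conj_eq]) _ ?_
    rw [(commute_conj hxk h).eq, mul_inv_cancel_right]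
    exact hh
  refine ⟨x ^ k, hB, ⟨hx1, hxo, 1, ?_⟩, hxk, ?_⟩
  · simp only [one_mul, inv_one, mul_one]
    exact mem_normalizer_zpowers (by rw [hxk.eq, mul_inv_cancel_right]; exact mem_zpowers _)
  · rw [Set.disjoint_left]
    rintro c ⟨hc1, hco, g, hg⟩ ⟨-, -, h, hh⟩
    obtain ⟨l, hlp, hlo⟩ := exists_prime_pow hc1 hco
    obtain ⟨-, hB', -⟩ := hB.normalizer_eq hH hc (u := h * c ^ l * h⁻¹)
      (by rw [← conj_pow]; exact Subgroup.pow_mem _ hh l)
      (by rw [orderOf_conj_eq]; exact hlp) (by rw [orderOf_conj_eq]; exact hlo)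
    refine hB'.2.2 (g * h⁻¹) ?_
    rw [show g * h⁻¹ * (h * c ^ l * h⁻¹) * (g * h⁻¹)⁻¹ = g * c ^ l * g⁻¹ by group, ← conj_pow]
    exact K0.pow_mem hg l

theorem omega_subset (K : Subgroup H) : omega K ⊆ {x : H | x ≠ 1 ∧ Odd (orderOf x)} :=
  fun _ hx => ⟨hx.1, hx.2.1⟩

/-- The final arithmetic when `K0` has a normal 2-complement. -/
theorem Minimal.card_of_small (hH : Minimal H) {K0 : Subgroup H} (hc : Core K0) {P : Sylow 2 H}
    {t : H} {a o0 : ℕ} (hQ : IsQuat (P : Subgroup H) t a) (ho0 : 1 ≤ o0)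
    (hcount : 4 * a * (o0 * (omega K0).ncard) + Nat.card H = Nat.card H * o0)
    (hodd : (4 * a * ({x : H | x ≠ 1 ∧ Odd (orderOf x)}.ncard + 1) : ℕ) = Nat.card H * (a + 1))
    (hbig : ∀ s ∈ K0, orderOf s = 3 → 2 * (4 * a * o0) ≤ Nat.card H ∧ 3 ∣ o0)
    (hsmall : ∀ s ∈ K0, orderOf s = 3 → IsSmall (centralizer (zpowers s : Set H)) ∧
        ∀ u ∈ centralizer (zpowers s : Set H), (∃ k, orderOf u = 2 ^ k) →
          ∀ x ∈ centralizer (zpowers s : Set H), Commute u x)
    (h3 : 3 ∣ Nat.card H) : Nat.card H = 120 := by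
  classical
  obtain ⟨d, ρ, hd, hirr, hρ⟩ := hH.fpf.exists_irreducible
  haveI := hirr
  haveI : Fact (Nat.Prime 3) := ⟨Nat.prime_three⟩
  set N := Nat.card H with hN
  have hN0 : 0 < N := Nat.card_pos
  set U := {x : H | x ≠ 1 ∧ Odd (orderOf x)} with hU
  have ha2 := hQ.two_le
  have hNr : (0 : ℝ) < N := by exact_mod_cast hN0
  have har : (2 : ℝ) ≤ a := by exact_mod_cast ha2
  have hor : (1 : ℝ) ≤ o0 := by exact_mod_cast ho0
  have hU' : 4 * (a : ℝ) * (U.ncard + 1) = N * (a + 1) := by exact_mod_cast hodd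
  have h0' : 4 * (a : ℝ) * (o0 * (omega K0).ncard) + N = N * o0 := by exact_mod_cast hcount
  obtain ⟨s, hs⟩ := exists_prime_orderOf_dvd_card' (G := H) 3 h3
  have hs1 : s ≠ 1 := fun e => by rw [e, orderOf_one] at hs; omega
  -- the number of odd elements outside the conjugates of `K0`
  have hrest : (U.ncard : ℝ) - (omega K0).ncard = N / 4 + N / (4 * a * o0) - 1 := by
    have ha0 : (a : ℝ) ≠ 0 := by positivity
    have ho0' : (o0 : ℝ) ≠ 0 := by positivity
    field_simp at hU' h0' ⊢
    nlinarith [hU', h0']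
  have next : ∀ (T : Set H), omega K0 ⊆ T → T ⊆ U → T.ncard < U.ncard →
      ∃ x v, x ∉ T ∧ Odd (orderOf x) ∧ x ≠ 1 ∧ Commute x v ∧ IsB K0 v ∧
        x ∈ omega (normalizer (zpowers v : Set H)) ∧
        Disjoint (omega K0) (omega (normalizer (zpowers v : Set H))) := by
    intro T hT hTU hlt
    obtain ⟨x, hxU, hxT⟩ := Set.exists_mem_notMem_of_ncard_lt_ncard hlt
    obtain ⟨v, hv, hxv, hcm, hdis⟩ := exists_component hH hc hQ hxU.1 hxU.2 (fun h => hxT (hT h))
    exact ⟨x, v, hxT, hxU.2, hxU.1, hcm, hv, hxv, hdis⟩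
  -- the degree controls the 2-parts
  have hw4 : ¬ 8 ∣ d → ∀ w, (∃ i, w = 2 ^ i) → w ∣ d → w = 1 ∨ w = 2 ∨ w = 4 := by
    rintro h8 w ⟨i, rfl⟩ hwd
    rcases i with - | - | - | i
    · simp
    · simp
    · simp
    · exact absurd ((Dvd.intro (2 ^ i) (by ring) : 8 ∣ 2 ^ (i + 3)).trans hwd) h8
  by_cases hsK : ∃ h : H, h * s * h⁻¹ ∈ K0
  · -- elements of order three lie in conjugates of `K0`
    exfalso
    obtain ⟨h, hh⟩ := hsK
    set s' := h * s * h⁻¹ with hs'
    have hs'3 : orderOf s' = 3 := by rw [hs', orderOf_conj_eq, hs]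
    obtain ⟨hbound, h3o⟩ := hbig s' hh hs'3
    obtain ⟨hsm, hcen⟩ := hsmall s' hh hs'3
    obtain ⟨h8, -⟩ := degree_three hH hs'3 hQ hsm hcen ρ hρ
    have hno3 : ∀ u : H, orderOf u = 3 → ¬ IsB K0 u := by
      intro u hu hB
      obtain ⟨g, hg⟩ := hH.fpf.exists_conj_prime Nat.prime_three (by decide) hu hs'3
      exact hB.2.2 g ((Subgroup.zpowers_le.2 hh) hg)
    have comp : ∀ v, IsB K0 v → ∃ o w : ℕ, 5 ≤ o ∧ (w = 1 ∨ w = 2 ∨ w = 4) ∧
        2 * (o * w) * (omega (normalizer (zpowers v : Set H))).ncard + N = N * o := by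
      intro v hv
      obtain ⟨o, w, ho, hvo, hw2, -, -, hcard, hprimes, hdeg, -⟩ := hv.component hH hc hQ
      refine ⟨o, w, five_le ho hv.1 hvo fun h => hno3 v h hv, hw4 h8 w hw2 (hdeg d ρ hρ), hcard⟩
    have ho3 : (3 : ℝ) ≤ o0 := by
      exact_mod_cast Nat.le_of_dvd (by omega) h3o
    have hNbig : 2 * (4 * (a : ℝ) * o0) ≤ N := by exact_mod_cast hbound
    have hpos : (N : ℝ) / 4 < U.ncard - (omega K0).ncard := by
      rw [hrest]
      have : 2 ≤ (N : ℝ) / (4 * a * o0) := by
        rw [le_div_iff₀ (by positivity)]; linarith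
      linarith
    have hup : (U.ncard : ℝ) - (omega K0).ncard < N * 7 / 24 := by
      rw [hrest]
      have : (N : ℝ) / (4 * a * o0) ≤ N / 24 := by
        apply div_le_div_of_nonneg_left hNr.le (by norm_num)
        nlinarith
      linarith
    have hbounds : ∀ o w Ω : ℕ, 5 ≤ o → (w = 1 ∨ w = 2 ∨ w = 4) →
        2 * (o * w) * Ω + N = N * o → (N : ℝ) / 10 ≤ Ω ∧ ((N : ℝ) / 5 ≤ Ω ∨ (Ω : ℝ) < N / 8) ∧
          ((Ω : ℝ) < N / 4 ∨ (N : ℝ) * 2 / 5 ≤ Ω) := by
      intro o w Ω ho hw h
      have h1 := lower_bound h ho (by omega)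
      have h2 := upper_bound h (by omega) hN0
      rcases hw with rfl | rfl | rfl
      · norm_num at h1; exact ⟨by linarith, Or.inl (by linarith), Or.inr (by linarith)⟩
      · norm_num at h1 h2; exact ⟨by linarith, Or.inl (by linarith), Or.inl (by linarith)⟩
      · norm_num at h1 h2; exact ⟨by linarith, Or.inr (by linarith), Or.inl (by linarith)⟩
    have hlt0 : (omega K0).ncard < U.ncard := by
      have : ((omega K0).ncard : ℝ) < U.ncard := by linarith
      exact_mod_cast this
    obtain ⟨x1, v1, hx1T, hx1o, hx1n, hx1c, hv1, hx1v, hd1⟩ :=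
      next (omega K0) subset_rfl (omega_subset K0) hlt0
    obtain ⟨o1, w1, ho1, hw1, hc1⟩ := comp v1 hv1
    set Ω1 := omega (normalizer (zpowers v1 : Set H))
    obtain ⟨hl1, hs1', hu1⟩ := hbounds o1 w1 _ ho1 hw1 hc1
    set T1 := omega K0 ∪ Ω1 with hT1
    have hT1c : T1.ncard = (omega K0).ncard + Ω1.ncard := Set.ncard_union_eq hd1
    have hT1U : T1 ⊆ U := Set.union_subset (omega_subset _) (omega_subset _)
    have hle1 : (T1.ncard : ℝ) ≤ U.ncard := by exact_mod_cast Set.ncard_le_ncard hT1U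
    rw [hT1c] at hle1; push_cast at hle1
    have hu1' : (Ω1.ncard : ℝ) < N / 4 := hu1.resolve_right (by intro hh'; linarith)
    obtain ⟨x2, v2, hx2T, hx2o, hx2n, hx2c, hv2, hx2v, hd2⟩ := next T1 Set.subset_union_left hT1U (by
      have : (T1.ncard : ℝ) < U.ncard := by rw [hT1c]; push_cast; linarith
      exact_mod_cast this)
    obtain ⟨o2, w2, ho2, hw2, hc2⟩ := comp v2 hv2
    set Ω2 := omega (normalizer (zpowers v2 : Set H))
    obtain ⟨hl2, hs2', -⟩ := hbounds o2 w2 _ ho2 hw2 hc2
    have hd12 : Disjoint Ω1 Ω2 := hv2.disjoint hH hc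
      (fun u hu hup huo _ => (hv1.normalizer_eq hH hc hu hup huo).2.2) hx2o hx2n hx2c
      (fun h => hx2T (Or.inr h))
    have hd2' : Disjoint T1 Ω2 := Set.disjoint_union_left.2 ⟨hd2, hd12⟩
    set T2 := T1 ∪ Ω2 with hT2
    have hT2c : T2.ncard = (omega K0).ncard + Ω1.ncard + Ω2.ncard := by
      rw [hT2, Set.ncard_union_eq hd2', hT1c]
    have hT2U : T2 ⊆ U := Set.union_subset hT1U (omega_subset _)
    have hle2 : (T2.ncard : ℝ) ≤ U.ncard := by exact_mod_cast Set.ncard_le_ncard hT2U
    rw [hT2c] at hle2; push_cast at hle2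
    have hb1 : (Ω1.ncard : ℝ) < N / 8 := hs1'.resolve_left (by intro hh'; linarith)
    have hb2 : (Ω2.ncard : ℝ) < N / 8 := hs2'.resolve_left (by intro hh'; linarith)
    obtain ⟨x3, v3, hx3T, hx3o, hx3n, hx3c, hv3, hx3v, hd3⟩ :=
      next T2 (Set.subset_union_left.trans Set.subset_union_left) hT2U (by
        have : (T2.ncard : ℝ) < U.ncard := by rw [hT2c]; push_cast; linarith
        exact_mod_cast this)
    obtain ⟨o3, w3, ho3', hw3, hc3⟩ := comp v3 hv3
    set Ω3 := omega (normalizer (zpowers v3 : Set H))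
    obtain ⟨hl3, -, -⟩ := hbounds o3 w3 _ ho3' hw3 hc3
    have hd13 : Disjoint Ω1 Ω3 := hv3.disjoint hH hc
      (fun u hu hup huo _ => (hv1.normalizer_eq hH hc hu hup huo).2.2) hx3o hx3n hx3c
      (fun h => hx3T (Or.inl (Or.inr h)))
    have hd23 : Disjoint Ω2 Ω3 := hv3.disjoint hH hc
      (fun u hu hup huo _ => (hv2.normalizer_eq hH hc hu hup huo).2.2) hx3o hx3n hx3c
      (fun h => hx3T (Or.inr h))
    have hd3' : Disjoint T2 Ω3 := Set.disjoint_union_left.2 ⟨Set.disjoint_union_left.2 ⟨hd3, hd13⟩, hd23⟩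
    have hle3 : ((T2 ∪ Ω3).ncard : ℝ) ≤ U.ncard := by
      exact_mod_cast Set.ncard_le_ncard (Set.union_subset hT2U (omega_subset _))
    rw [Set.ncard_union_eq hd3', hT2c] at hle3; push_cast at hle3
    linarith
  · -- an element of order three gives a component
    push Not at hsK
    have hBs : IsB K0 s := ⟨by rw [hs]; exact Nat.prime_three, by rw [hs]; decide, hsK⟩
    obtain ⟨o1, w1, ho1, hso1, -, -, hM1, hc1, -, -, hthree⟩ := hBs.component hH hc hQ
    rw [hs] at hso1
    obtain ⟨hw1, hC1⟩ := hthree hs (hH.exists_not_commute_three hs)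
    subst hw1
    have hsmC : IsSmall (centralizer (zpowers s : Set H)) :=
      (hBs.isSmall_normalizer hH hc).mono (centralizer_le_normalizer _)
    have hcen : ∀ u ∈ centralizer (zpowers s : Set H), (∃ k, orderOf u = 2 ^ k) →
        ∀ x ∈ centralizer (zpowers s : Set H), Commute u x := by
      rintro u hu ⟨k, hk⟩ x -
      refine hH.fpf.commute_involution ?_ x
      rcases k with - | - | k
      · rw [pow_zero, orderOf_eq_one_iff] at hk; rw [hk, one_pow]
      · rw [show 2 = orderOf u by rw [hk]; norm_num, pow_orderOf_eq_one]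
      · exfalso
        have h4 : 4 ∣ orderOf u := ⟨2 ^ k, by rw [hk]; ring⟩
        exact hBs.not_four hH hc (orderOf_pow_orderOf_div (orderOf_pos u).ne' h4)
          ((mem_centralizer_zpowers.1 hu).pow_left _)
    obtain ⟨h8, h6⟩ := degree_three hH hs hQ hsmC hcen ρ hρ
    set Ω1 := omega (normalizer (zpowers s : Set H))
    have hd1 : Disjoint (omega K0) Ω1 := by
      rw [Set.disjoint_left]
      rintro c ⟨hc1', hco, g, hg⟩ ⟨-, -, h, hh⟩
      obtain ⟨l, hlp, hlo⟩ := exists_prime_pow hc1' hco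
      obtain ⟨-, hB', -⟩ := hBs.normalizer_eq hH hc (u := h * c ^ l * h⁻¹)
        (by rw [← conj_pow]; exact Subgroup.pow_mem _ hh l)
        (by rw [orderOf_conj_eq]; exact hlp) (by rw [orderOf_conj_eq]; exact hlo)
      refine hB'.2.2 (g * h⁻¹) ?_
      rw [show g * h⁻¹ * (h * c ^ l * h⁻¹) * (g * h⁻¹)⁻¹ = g * c ^ l * g⁻¹ by group, ← conj_pow]
      exact K0.pow_mem hg l
    have ho1' : 3 ≤ o1 := Nat.le_of_dvd ho1.pos hso1
    have ho1r : (3 : ℝ) ≤ o1 := by exact_mod_cast ho1'
    have h1' : 4 * (o1 : ℝ) * Ω1.ncard + N = N * o1 := by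
      have h : 2 * (o1 * 2) * Ω1.ncard + N = N * o1 := hc1
      have h' : (2 * (o1 * 2) * Ω1.ncard + N : ℝ) = N * o1 := by exact_mod_cast h
      linarith
    have hNM : 4 * o1 ≤ N := by
      have h := Nat.le_of_dvd hN0 (card_subgroup_dvd_card (normalizer (zpowers s : Set H)))
      rw [hM1] at h
      omega
    have hrest1 : (U.ncard : ℝ) - (omega K0).ncard - Ω1.ncard
        = N / (4 * a * o0) + N / (4 * o1) - 1 := by
      have e : (Ω1.ncard : ℝ) = N / 4 - N / (4 * o1) := by
        field_simp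
        linarith
      linarith
    have hT1 : omega K0 ∪ Ω1 ⊆ U := Set.union_subset (omega_subset _) (omega_subset _)
    obtain ⟨x2, v2, hx2T, hx2o, hx2n, hx2c, hv2, hx2v, hd2⟩ := next (omega K0 ∪ Ω1) Set.subset_union_left hT1 (by
      have : ((omega K0 ∪ Ω1).ncard : ℝ) < U.ncard := by
        rw [Set.ncard_union_eq hd1]; push_cast
        have h1 : 1 ≤ (N : ℝ) / (4 * o1) := by
          rw [le_div_iff₀ (by positivity), one_mul]; exact_mod_cast hNM
        have h2 : 0 < (N : ℝ) / (4 * a * o0) := by positivity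
        linarith
      exact_mod_cast this)
    set Ω2 := omega (normalizer (zpowers v2 : Set H))
    have hd12 : Disjoint Ω1 Ω2 := hv2.disjoint hH hc
      (fun u hu hup huo _ => (hBs.normalizer_eq hH hc hu hup huo).2.2) hx2o hx2n hx2c
      (fun h => hx2T (Or.inr h))
    -- components other than that of `s` avoid the prime three
    have hno3 : ∀ v, IsB K0 v → Disjoint Ω1 (omega (normalizer (zpowers v : Set H))) →
        orderOf v ≠ 3 := by
      intro v hv hdis hv3
      obtain ⟨g, hg⟩ := hH.fpf.exists_conj_prime Nat.prime_three (by decide) hv3 hs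
      have hv1 : v ≠ 1 := fun e => by rw [e, orderOf_one] at hv3; omega
      have ho : Odd (orderOf v) := hv.2.1
      refine Set.disjoint_left.1 hdis ⟨hv1, ho, g, ?_⟩ ⟨hv1, ho, 1, ?_⟩
      · exact (Subgroup.zpowers_le.2 (mem_normalizer_zpowers
          (by rw [mul_inv_cancel_right]; exact mem_zpowers s))) hg
      · simp only [one_mul, inv_one, mul_one]
        exact mem_normalizer_zpowers (by rw [mul_inv_cancel_right]; exact mem_zpowers v)
    obtain ⟨o2, w2, ho2, hvo2, hw2p, hw2a, hM2, hc2, -, hdeg2, -⟩ := hv2.component hH hc hQ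
    have ho25 : 5 ≤ o2 := five_le ho2 hv2.1 hvo2 (hno3 v2 hv2 hd12)
    have hw2 := hw4 h8 w2 hw2p (hdeg2 d ρ hρ)
    have hd2' : Disjoint (omega K0 ∪ Ω1) Ω2 := Set.disjoint_union_left.2 ⟨hd2, hd12⟩
    have hT2U : omega K0 ∪ Ω1 ∪ Ω2 ⊆ U := Set.union_subset hT1 (omega_subset _)
    have hle2 : ((omega K0 ∪ Ω1 ∪ Ω2).ncard : ℝ) ≤ U.ncard := by
      exact_mod_cast Set.ncard_le_ncard hT2U
    rw [Set.ncard_union_eq hd2', Set.ncard_union_eq hd1] at hle2
    push_cast at hle2
    have hA : (N : ℝ) / (4 * a * o0) ≤ N / (4 * a) :=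
      div_le_div_of_nonneg_left hNr.le (by positivity) (by nlinarith)
    have hA' : (N : ℝ) / (4 * a) ≤ N / 8 :=
      div_le_div_of_nonneg_left hNr.le (by norm_num) (by linarith)
    have hB : (N : ℝ) / (4 * o1) ≤ N / 12 :=
      div_le_div_of_nonneg_left hNr.le (by norm_num) (by linarith)
    have hl2 := lower_bound hc2 ho25 (by omega)
    rcases hw2 with rfl | rfl | rfl
    · exfalso; norm_num at hl2; linarith
    · norm_num at hl2
      -- so `|Q| = 8`, `o1 = 3` and `o0 = 1`
      have haeq : a = 2 := by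
        by_contra ha
        have h4 : 4 ≤ a := by
          obtain ⟨k, hk⟩ := hQ.exists_pow
          rcases k with - | - | k
          · simp [hk] at ha2
          · simp [hk] at ha
          · rw [hk]; calc 4 = 2 ^ 2 := rfl
              _ ≤ _ := Nat.pow_le_pow_right (by norm_num) (by omega)
        have h4' : (4 : ℝ) ≤ a := by exact_mod_cast h4
        have : (N : ℝ) / (4 * a) ≤ N / 16 :=
          div_le_div_of_nonneg_left hNr.le (by norm_num) (by linarith)
        linarith
      subst haeq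
      have ho1eq : o1 = 3 := by
        by_contra hne
        have h9 : 9 ≤ o1 := by
          obtain ⟨c, rfl⟩ := hso1
          obtain ⟨e, he⟩ := ho1
          omega
        have h9' : (9 : ℝ) ≤ o1 := by exact_mod_cast h9
        have : (N : ℝ) / (4 * o1) ≤ N / 36 :=
          div_le_div_of_nonneg_left hNr.le (by norm_num) (by linarith)
        linarith
      subst ho1eq
      have ho0eq : o0 = 1 := by
        by_contra hne
        have h2' : (2 : ℝ) ≤ o0 := by exact_mod_cast (show 2 ≤ o0 by omega)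
        have : (N : ℝ) / (4 * ((2 : ℕ) : ℝ) * o0) ≤ N / 16 :=
          div_le_div_of_nonneg_left hNr.le (by norm_num) (by push_cast; linarith)
        linarith
      subst ho0eq
      -- no further component
      have heq : U.ncard = (omega K0).ncard + Ω1.ncard + Ω2.ncard := by
        by_contra hne
        have hlt : (omega K0 ∪ Ω1 ∪ Ω2).ncard < U.ncard := by
          refine lt_of_le_of_ne (Set.ncard_le_ncard hT2U) ?_
          rw [Set.ncard_union_eq hd2', Set.ncard_union_eq hd1]
          omega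
        obtain ⟨x3, v3, hx3T, hx3o, hx3n, hx3c, hv3, hx3v, hd3⟩ :=
          next _ (Set.subset_union_left.trans Set.subset_union_left) hT2U hlt
        set Ω3 := omega (normalizer (zpowers v3 : Set H))
        have hd13 : Disjoint Ω1 Ω3 := hv3.disjoint hH hc
          (fun u hu hup huo _ => (hBs.normalizer_eq hH hc hu hup huo).2.2) hx3o hx3n hx3c
          (fun h => hx3T (Or.inl (Or.inr h)))
        have hd23 : Disjoint Ω2 Ω3 := hv3.disjoint hH hc
          (fun u hu hup huo _ => (hv2.normalizer_eq hH hc hu hup huo).2.2) hx3o hx3n hx3c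
          (fun h => hx3T (Or.inr h))
        obtain ⟨o3, w3, ho3, hvo3, hw3p, hw3a, -, hc3, -, -, -⟩ := hv3.component hH hc hQ
        have ho35 : 5 ≤ o3 := five_le ho3 hv3.1 hvo3 (hno3 v3 hv3 hd13)
        have hl3 := lower_bound hc3 ho35 (by omega)
        have hle3 : ((omega K0 ∪ Ω1 ∪ Ω2 ∪ Ω3).ncard : ℝ) ≤ U.ncard := by
          exact_mod_cast Set.ncard_le_ncard (Set.union_subset hT2U (omega_subset _))
        rw [Set.ncard_union_eq (Set.disjoint_union_left.2 ⟨Set.disjoint_union_left.2 ⟨hd3, hd13⟩, hd23⟩),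
          Set.ncard_union_eq hd2', Set.ncard_union_eq hd1] at hle3
        push_cast at hle3
        rcases (Nat.dvd_prime Nat.prime_two).1 hw3a with rfl | rfl <;>
          norm_num at hl3 <;> norm_num at hrest1 <;> linarith
      -- the order
      have e : (U.ncard : ℝ) = (omega K0).ncard + Ω1.ncard + Ω2.ncard := by exact_mod_cast heq
      norm_num at hrest1
      have h2' : 4 * (o2 : ℝ) * Ω2.ncard + N = N * o2 := by
        have h : 2 * (o2 * 2) * Ω2.ncard + N = N * o2 := hc2
        have h' : (2 * (o2 * 2) * Ω2.ncard + N : ℝ) = N * o2 := by exact_mod_cast h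
        linarith
      have hΩ2 : (Ω2.ncard : ℝ) = 5 * N / 24 - 1 := by linarith
      have ho2lt : o2 < 6 := by
        by_contra h6'
        have h6r : (6 : ℝ) ≤ o2 := by exact_mod_cast (not_lt.1 h6')
        rw [hΩ2] at h2'
        nlinarith
      obtain rfl : o2 = 5 := by omega
      have hN120 : (N : ℝ) = 120 := by
        rw [hΩ2] at h2'
        push_cast at h2'
        linarith
      exact_mod_cast hN120
    · exfalso
      norm_num at hl2
      have h4 : (4 : ℝ) ≤ a := by exact_mod_cast Nat.le_of_dvd (by omega) hw2a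
      have hA16 : (N : ℝ) / (4 * a) ≤ N / 16 :=
        div_le_div_of_nonneg_left hNr.le (by norm_num) (by linarith)
      have ho1eq : o1 = 3 := by
        by_contra hne
        have h9 : 9 ≤ o1 := by
          obtain ⟨c, rfl⟩ := hso1
          obtain ⟨e, he⟩ := ho1
          omega
        have h9' : (9 : ℝ) ≤ o1 := by exact_mod_cast h9
        have : (N : ℝ) / (4 * o1) ≤ N / 36 :=
          div_le_div_of_nonneg_left hNr.le (by norm_num) (by linarith)
        linarith
      have hd2le : d ≤ 2 := h6 (by rw [hC1, ho1eq])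
      have := Nat.le_of_dvd hd (hdeg2 d ρ hρ)
      omega

theorem Minimal.card_eq (hH : Minimal H) : Nat.card H = 120 := by
  classical
  haveI : Fact (Nat.Prime 2) := ⟨Nat.prime_two⟩
  haveI : Fact (Nat.Prime 3) := ⟨Nat.prime_three⟩
  set P : Sylow 2 H := default
  obtain ⟨t, a, hQ⟩ := hH.sylow_isQuat P
  have hconj := hH.fpf.conj_four_of_perfect hH.perfect hQ
  set U := {x : H | x ≠ 1 ∧ Odd (orderOf x)} with hU
  have hUcard : U.ncard + 1 = Nat.card {x : H // Odd (orderOf x)} := by
    show U.ncard + 1 = Nat.card ↥{x : H | Odd (orderOf x)}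
    rw [Nat.card_coe_set_eq {x : H | Odd (orderOf x)},
      show ({x : H | Odd (orderOf x)} : Set H) = insert 1 U by
        ext x; by_cases hx : x = 1 <;> simp [hU, hx],
      Set.ncard_insert_of_notMem (by simp [hU])]
  have hodd : 4 * a * (U.ncard + 1) = Nat.card H * (a + 1) := by
    rw [hUcard]; exact hH.fpf.card_odd hQ hconj
  -- three divides the order
  have h3 : 3 ∣ Nat.card H := hH.three_dvd
  by_cases hA : ∃ v b : H, (orderOf v).Prime ∧ Odd (orderOf v) ∧ orderOf b = 4 ∧ Commute b v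
  swap
  · push Not at hA
    have hc : Core (⊥ : Subgroup H) :=
      ⟨fun v hv hp _ _ _ => absurd hp (by rw [Subgroup.mem_bot.1 hv, orderOf_one]; exact Nat.not_prime_one),
        fun v b hvp hvo hb hbv => absurd hbv (hA v b hvp hvo hb)⟩
    have hno : ∀ s ∈ (⊥ : Subgroup H), orderOf s ≠ 3 := fun s hs => by
      rw [Subgroup.mem_bot.1 hs, orderOf_one]; norm_num
    have hempty : omega (⊥ : Subgroup H) = ∅ := by
      ext x
      simp only [omega, Set.mem_setOf_eq, Set.mem_empty_iff_false, iff_false]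
      rintro ⟨hx, -, h, hh⟩
      rw [Subgroup.mem_bot, conj_eq_one_iff] at hh
      exact hx hh
    exact hH.card_of_small hc hQ (o0 := 1) le_rfl (by rw [hempty, Set.ncard_empty]; ring) hodd
      (fun s hs h => absurd h (hno s hs)) (fun s hs h => absurd h (hno s hs)) h3
  -- the largest prime
  let S := (Finset.range (Nat.card H + 1)).filter fun q => ∃ v b : H, (orderOf v).Prime ∧
    Odd (orderOf v) ∧ orderOf b = 4 ∧ Commute b v ∧ orderOf v = q
  have hSne : S.Nonempty := by
    obtain ⟨v, b, hvp, hvo, hb, hbv⟩ := hA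
    exact ⟨orderOf v, Finset.mem_filter.2 ⟨Finset.mem_range.2
      (Nat.lt_succ_of_le (Nat.le_of_dvd Nat.card_pos (orderOf_dvd_natCard v))), v, b, hvp, hvo, hb, hbv, rfl⟩⟩
  obtain ⟨v, b, hvp, hvo, hb, hbv, hvq⟩ := (Finset.mem_filter.1 (S.max'_mem hSne)).2
  obtain ⟨g, hg⟩ := hconj b (t ^ (a / 2)) hb hQ.orderOf_four
  set x0 := g * v * g⁻¹
  have D : AData P t a x0 (S.max' hSne) :=
    ⟨hH, hQ, hvq ▸ hvp, hvq ▸ hvo, by rw [orderOf_conj_eq, hvq], hg ▸ commute_conj hbv g,
      fun v' b' hp' ho' hb' hc' => S.le_max' _ (Finset.mem_filter.2 ⟨Finset.mem_range.2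
        (Nat.lt_succ_of_le (Nat.le_of_dvd Nat.card_pos (orderOf_dvd_natCard v'))),
        v', b', hp', ho', hb', hc', rfl⟩)⟩
  set M := normalizer (zpowers x0 : Set H) with hM
  have hMne : M ≠ ⊤ := hH.normalizer_ne_top D.x0_prime D.x0_odd
  have hp3 : 3 ≤ S.max' hSne := by
    have := D.prime.two_le
    obtain ⟨k, hk⟩ := D.odd
    omega
  have hM2 : 2 * Nat.card M ≤ Nat.card H := by
    have h2 : 2 ≤ M.index := by
      have h0 : M.index ≠ 1 := fun h => hMne (index_eq_one.1 h)
      have := M.index_ne_zero_of_finite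
      omega
    have := M.card_mul_index
    nlinarith
  have hMbig : 12 * a ≤ Nat.card M := le_trans (by nlinarith) D.le_card
  set n0 := Nat.card {x : H // x ∈ M ∧ Odd (orderOf x)}
  have hc : Core M := D.core
  have hω : Nat.card M * (omega M).ncard + Nat.card H = Nat.card H * n0 := card_omega D.core.iso
  have hωle : (omega M).ncard ≤ U.ncard := Set.ncard_le_ncard (omega_subset M)
  have hω' : (Nat.card M : ℝ) * (omega M).ncard + Nat.card H = Nat.card H * n0 := by exact_mod_cast hω
  have hodd' : 4 * (a : ℝ) * (U.ncard + 1) = Nat.card H * (a + 1) := by exact_mod_cast hodd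
  have hNr : (0 : ℝ) < Nat.card H := by exact_mod_cast Nat.card_pos
  have hmr : (0 : ℝ) < Nat.card M := by exact_mod_cast Nat.card_pos
  have har : (2 : ℝ) ≤ a := by exact_mod_cast hQ.two_le
  have hm2 : 2 * (Nat.card M : ℝ) ≤ Nat.card H := by exact_mod_cast hM2
  have hmb : 12 * (a : ℝ) ≤ Nat.card M := by exact_mod_cast hMbig
  rcases D.trichotomy with h | ⟨ha4, h⟩ | ⟨o, ho, hpo, hcard, hn, hdvd, hsm⟩
  · exfalso
    have h' : 4 * (a : ℝ) * n0 = Nat.card M * (a + 1) := by exact_mod_cast h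
    have hrest : (U.ncard : ℝ) - (omega M).ncard = Nat.card H / Nat.card M - 1 := by
      field_simp
      refine mul_left_cancel₀ (show (4 * a : ℝ) ≠ 0 by positivity) ?_
      linear_combination (Nat.card M : ℝ) * hodd' - 4 * (a : ℝ) * hω' - (Nat.card H : ℝ) * h'
    have hk : (2 : ℝ) ≤ Nat.card H / Nat.card M := by rw [le_div_iff₀ hmr]; linarith
    have hk' : (Nat.card H : ℝ) / Nat.card M ≤ Nat.card H / (12 * a) :=
      div_le_div_of_nonneg_left hNr.le (by positivity) hmb
    obtain ⟨x, hxU, hxT⟩ := Set.exists_mem_notMem_of_ncard_lt_ncard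
      (show (omega M).ncard < U.ncard by
        have : ((omega M).ncard : ℝ) < U.ncard := by linarith
        exact_mod_cast this)
    obtain ⟨w, hw, hxw, hcm, hdis⟩ := exists_component hH hc hQ hxU.1 hxU.2 hxT
    obtain ⟨o, e, ho, hwo, he2, hea, -, hce, -, -, -⟩ := hw.component hH hc hQ
    have ho3 : 3 ≤ o := by
      have := hw.1.two_le
      have := Nat.le_of_dvd ho.pos hwo
      obtain ⟨k, hk⟩ := ho
      omega
    have hl := lower_bound hce ho3 (by omega)
    have hle : ((omega M).ncard : ℝ) + (omega (normalizer (zpowers w : Set H))).ncard ≤ U.ncard := by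
      have := Set.ncard_le_ncard (Set.union_subset (omega_subset M) (omega_subset (normalizer (zpowers w : Set H))))
      rw [Set.ncard_union_eq hdis] at this
      exact_mod_cast this
    have hea' : (e : ℝ) ≤ a := by exact_mod_cast Nat.le_of_dvd (by linarith [hQ.two_le]) hea
    norm_num at hl
    set Ωw := ((omega (normalizer (zpowers w : Set H))).ncard : ℝ)
    have hΩnn : 0 ≤ Ωw := Nat.cast_nonneg _
    have h1 : (Nat.card H : ℝ) ≤ 3 * a * Ωw := by nlinarith
    have h2 : (Nat.card H : ℝ) / (12 * a) ≤ Ωw := by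
      rw [div_le_iff₀ (by positivity)]; nlinarith
    linarith
  · exfalso
    subst ha4
    have h' : 16 * (n0 : ℝ) = 3 * Nat.card M := by exact_mod_cast h
    have hrest : (U.ncard : ℝ) - (omega M).ncard = Nat.card H / 8 + Nat.card H / Nat.card M - 1 := by
      field_simp
      push_cast at hodd'
      refine mul_left_cancel₀ (show (16 : ℝ) ≠ 0 by norm_num) ?_
      linear_combination 8 * (Nat.card M : ℝ) * hodd' - 128 * hω' - 8 * (Nat.card H : ℝ) * h'
    have hk : (2 : ℝ) ≤ Nat.card H / Nat.card M := by rw [le_div_iff₀ hmr]; linarith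
    have hk' : (Nat.card H : ℝ) / Nat.card M ≤ Nat.card H / 48 :=
      div_le_div_of_nonneg_left hNr.le (by norm_num) (by push_cast at hmb; linarith)
    obtain ⟨x, hxU, hxT⟩ := Set.exists_mem_notMem_of_ncard_lt_ncard
      (show (omega M).ncard < U.ncard by
        have : ((omega M).ncard : ℝ) < U.ncard := by linarith
        exact_mod_cast this)
    obtain ⟨w, hw, hxw, hcm, hdis⟩ := exists_component hH hc hQ hxU.1 hxU.2 hxT
    have key : ∀ w : H, IsB M w →
        (Nat.card H : ℝ) / 6 ≤ (omega (normalizer (zpowers w : Set H))).ncard ∨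
          ((Nat.card H : ℝ) / 10 ≤ (omega (normalizer (zpowers w : Set H))).ncard ∧
            ((omega (normalizer (zpowers w : Set H))).ncard : ℝ) < Nat.card H / 8) := by
      intro w hw
      obtain ⟨o, e, ho, hwo, ⟨i, rfl⟩, hea, -, hce, hq, -, -⟩ := hw.component hH hc hQ
      have ho3 : 3 ≤ o := by
        have := hw.1.two_le
        have := Nat.le_of_dvd ho.pos hwo
        obtain ⟨k, hk⟩ := ho
        omega
      have hi : i ≤ 2 := by
        have hd' := Nat.le_of_dvd (by norm_num) hea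
        by_contra h3
        have : 2 ^ 3 ≤ 2 ^ i := Nat.pow_le_pow_right (by norm_num) (by omega)
        omega
      interval_cases i
      · left; have hl := lower_bound hce ho3 (by omega); norm_num at hl; linarith
      · left; have hl := lower_bound hce ho3 (by omega); norm_num at hl; linarith
      · right
        have ho5 : 5 ≤ o := by
          refine five_le ho hw.1 hwo fun h3 => ?_
          have := (hq _ hw.1 hwo).1
          rw [h3] at this
          norm_num at this
        have hl := lower_bound hce ho5 (by omega)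
        have hu := upper_bound hce (by omega) Nat.card_pos
        norm_num at hl hu
        exact ⟨by linarith, by linarith⟩
    have hsub := Set.union_subset (omega_subset M) (omega_subset (normalizer (zpowers w : Set H)))
    have hle : ((omega M).ncard : ℝ) + (omega (normalizer (zpowers w : Set H))).ncard ≤ U.ncard := by
      have := Set.ncard_le_ncard hsub
      rw [Set.ncard_union_eq hdis] at this
      exact_mod_cast this
    rcases key w hw with h6 | ⟨h10, h8⟩
    · linarith
    obtain ⟨x', hxU', hxT'⟩ := Set.exists_mem_notMem_of_ncard_lt_ncard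
      (show (omega M ∪ omega (normalizer (zpowers w : Set H))).ncard < U.ncard by
        have : ((omega M ∪ omega (normalizer (zpowers w : Set H))).ncard : ℝ) < U.ncard := by
          rw [Set.ncard_union_eq hdis]; rw [Nat.cast_add]; linarith
        exact_mod_cast this)
    obtain ⟨w', hw', hxw', hcm', hdis'⟩ := exists_component hH hc hQ hxU'.1 hxU'.2
      (fun h => hxT' (Or.inl h))
    have hd12 := hw'.disjoint hH hc
      (fun u hu hup huo _ => (hw.normalizer_eq hH hc hu hup huo).2.2) hxU'.2 hxU'.1 hcm'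
      (fun h => hxT' (Or.inr h))
    have hle' : ((omega M).ncard : ℝ) + (omega (normalizer (zpowers w : Set H))).ncard
        + (omega (normalizer (zpowers w' : Set H))).ncard ≤ U.ncard := by
      have := Set.ncard_le_ncard (Set.union_subset hsub (omega_subset (normalizer (zpowers w' : Set H))))
      rw [Set.ncard_union_eq (Set.disjoint_union_left.2 ⟨hdis', hd12⟩), Set.ncard_union_eq hdis] at this
      exact_mod_cast this
    rcases key w' hw' with h6' | ⟨h10', -⟩ <;> linarith
  · refine hH.card_of_small hc hQ ho.pos ?_ hodd (fun s hs hs3 => ⟨?_, ?_⟩) hsm h3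
    · change Nat.card M * (omega M).ncard + Nat.card H = Nat.card H * n0 at hω
      rw [hcard, show n0 = o from hn, mul_assoc (4 * a) o] at hω
      exact hω
    · rw [← hcard]; exact hM2
    · have := hdvd s hs (by rw [hs3]; decide)
      rwa [hs3] at this

end CfsgLib.Zassenhaus

namespace CfsgLib.Zassenhaus

universe u

theorem card_eq_of_perfect_aux : ∀ (n : ℕ) (G : Type u) [Group G] [Finite G] [Nontrivial G],
    Nat.card G = n → HasFpf G → _root_.commutator G = ⊤ → Nat.card G = 120 := by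
  intro n
  induction n using Nat.strong_induction_on with
  | h n ih =>
    intro G _ _ _ hn hfpf hperf
    refine Minimal.card_eq (H := G) ⟨hfpf, hperf, inferInstance, fun E hE hE1 hEE => ?_⟩
    haveI : Nontrivial E := (nontrivial_iff_ne_bot E).2 hE1
    refine ih _ ?_ E rfl (hfpf.subgroup E) ?_
    · rw [← hn]
      exact lt_of_le_of_ne (card_le_card_group E) fun e => hE ((card_eq_iff_eq_top E).1 e)
    · apply Subgroup.map_injective E.subtype_injective
      rw [map_subtype_commutator, ← MonoidHom.range_eq_map, E.range_subtype, hEE]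

/-- **Zassenhaus.** A nontrivial perfect finite group with a fixed-point-free complex representation
is isomorphic to `SL(2, 5)`. -/
theorem HasFpf.nonempty_mulEquiv_SL25 {G : Type u} [Group G] [Finite G] [Nontrivial G]
    (hfpf : HasFpf G) (hperf : _root_.commutator G = ⊤) :
    Nonempty (G ≃* Matrix.SpecialLinearGroup (Fin 2) (ZMod 5)) := by
  haveI : Fact (Nat.Prime 2) := ⟨Nat.prime_two⟩
  have h120 : ∀ E : Subgroup G, E ≠ ⊤ → E ≠ ⊥ → ⁅E, E⁆ = E → Nat.card E = 120 := fun E _ hE1 hEE => by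
    haveI : Nontrivial E := (nontrivial_iff_ne_bot E).2 hE1
    refine card_eq_of_perfect_aux _ E rfl (hfpf.subgroup E) ?_
    apply Subgroup.map_injective E.subtype_injective
    rw [map_subtype_commutator, ← MonoidHom.range_eq_map, E.range_subtype, hEE]
  have hH : Minimal G := ⟨hfpf, hperf, inferInstance, h120⟩
  have hcard := hH.card_eq
  refine CfsgLib.Present.nonsolvable_120_iso hcard hH.not_isSolvable fun P => ?_
  obtain ⟨t, a, hQ⟩ := hH.sylow_isQuat P
  have h8 : Nat.card (P : Subgroup G) = 8 := by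
    rw [P.card_eq_multiplicity, hcard, show (120 : ℕ) = 2 ^ 3 * 15 from rfl,
      Nat.factorization_mul (by norm_num) (by norm_num), Finsupp.add_apply,
      Nat.Prime.factorization_pow Nat.prime_two, Finsupp.single_eq_same,
      Nat.factorization_eq_zero_of_not_dvd (by norm_num : ¬ 2 ∣ 15)]
    norm_num
  have huniq : ∀ X Y : Subgroup (P : Subgroup G), Nat.card X = 2 → Nat.card Y = 2 → X = Y := by
    intro X Y hX hY
    obtain ⟨x, hgx⟩ := (isCyclic_of_prime_card (p := 2) hX).exists_ofOrder_eq_natCard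
    obtain ⟨y, hgy⟩ := (isCyclic_of_prime_card (p := 2) hY).exists_ofOrder_eq_natCard
    have key : ∀ (X : Subgroup (P : Subgroup G)) (x : X), orderOf x = Nat.card X → X = zpowers (x : (P : Subgroup G)) :=
      fun X x hx => (eq_of_le_of_card_ge (Subgroup.zpowers_le.2 x.2)
        (by rw [Nat.card_zpowers, Subgroup.orderOf_coe, hx])).symm
    rw [key X x hgx, key Y y hgy]
    have ox : orderOf (x : (P : Subgroup G)) = 2 := by rw [Subgroup.orderOf_coe, hgx, hX]
    have oy : orderOf (y : (P : Subgroup G)) = 2 := by rw [Subgroup.orderOf_coe, hgy, hY]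
    have h1 : ∀ z : (P : Subgroup G), orderOf z = 2 → z ^ 2 = 1 ∧ z ≠ 1 := fun z hz =>
      ⟨(congrArg (z ^ ·) hz).symm.trans (pow_orderOf_eq_one z), fun e => by rw [e, orderOf_one] at hz; omega⟩
    rw [(hfpf.subgroup _).involution_unique (h1 _ ox).1 (h1 _ ox).2 (h1 _ oy).1 (h1 _ oy).2]
  rcases Cfsg.Agent.S0016.result 2 P.isPGroup' huniq with hc | ⟨-, n, ⟨e⟩⟩
  · exact absurd hc hQ.not_isCyclic
  · have h4 := Nat.card_congr e.toEquiv
    haveI : NeZero (2 ^ n) := ⟨by positivity⟩
    rw [h8, Nat.card_eq_fintype_card, QuaternionGroup.card] at h4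
    have h2 : 2 ^ n = 2 := by omega
    obtain rfl : n = 1 := Nat.pow_right_injective le_rfl (h2.trans (pow_one 2).symm)
    exact ⟨e⟩

end CfsgLib.Zassenhaus
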