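import Cfsg.Agent.Lib.Zassenhaus.Count
import Cfsg.Agent.Lib.Char.Basic
import Mathlib.RepresentationTheory.Character
import Mathlib.RingTheory.IntegralDomain
import Mathlib.GroupTheory.GroupAction.Quotient
import Mathlib.RingTheory.RootsOfUnity.Complex

/-!
Restricting a fixed-point-free character to a normalised cyclic subgroup: the index of the
centraliser divides the degree, and a norm bound for the normaliser of an element of order three.
-/

set_option autoImplicit false
set_option linter.unusedSectionVars false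
set_option linter.style.haveILetI false

open Subgroup Finset Module

namespace CfsgLib.Zassenhaus

variable {G : Type*} [Group G] [Finite G]

/-- An invariant function on a set in which all stabilisers equal `C` has sum divisible by the
index of `C`. -/
theorem index_dvd_sum {N : Type*} [Group N] {L : Type*} [Fintype L] [MulAction N L] (C : Subgroup N)
    (hC : ∀ x : L, MulAction.stabilizer N x = C) (f : L → ℕ) (hf : ∀ (n : N) x, f (n • x) = f x) :
    C.index ∣ ∑ x, f x := by
  classical
  refine ⟨∑ q : Quotient (MulAction.orbitRel N L), f q.out, ?_⟩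
  rw [mul_sum, ← sum_fiberwise_of_maps_to (g := fun x => (Quotient.mk'' x : Quotient (MulAction.orbitRel N L)))
    (t := univ) (fun x _ => mem_univ _)]
  refine Finset.sum_congr rfl fun q _ => ?_
  have horb : ∀ x : L, (Quotient.mk'' x : Quotient (MulAction.orbitRel N L)) = q ↔
      x ∈ MulAction.orbit N q.out := by
    intro x
    conv_lhs => rw [← Quotient.out_eq' q, Quotient.eq'']
    exact Iff.rfl
  rw [Finset.sum_congr rfl (g := fun _ => f q.out) fun x hx => by
    obtain ⟨n, rfl⟩ := (horb x).1 (mem_filter.1 hx).2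
    exact hf n _, sum_const, smul_eq_mul]
  congr 1
  rw [← hC q.out, MulAction.index_stabilizer, ← Set.ncard_coe_finset]
  congr 1
  ext x
  simp only [coe_filter, mem_univ, true_and, Set.mem_setOf_eq]
  exact horb x

section Rep

variable {d : ℕ} (ρ : Representation ℂ G (Fin d → ℂ))
  (hρ : ∀ g : G, g ≠ 1 → ∀ v : Fin d → ℂ, ρ g v = v → v = 0)

include hρ

/-- On a cyclic subgroup a fixed-point-free character is a sum of faithful linear characters. -/
theorem exists_linear_parts (F : Subgroup G) [IsCyclic F] :
    ∃ L : Fin d → (F →* ℂ), (∀ i, Function.Injective (L i)) ∧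
      ∀ x : F, ρ.character (x : G) = ∑ i, L i x := by
  obtain ⟨f, hf⟩ := IsCyclic.exists_generator (α := F)
  obtain ⟨b₀, μ₀, -, hb₀⟩ := CfsgLib.Char.exists_eigenbasis ρ (f : G)
  have hd : finrank ℂ (Fin d → ℂ) = d := Module.finrank_fin_fun ℂ
  let b := b₀.reindex (finCongr hd)
  have hb : ∀ (x : F) (i : Fin d), ∃ c : ℂ, ρ (x : G) (b i) = c • b i := by
    intro x i
    obtain ⟨k, hk⟩ := (mem_powers_iff_mem_zpowers (x := f)).2 (hf x)
    refine ⟨μ₀ ((finCongr hd).symm i) ^ k, ?_⟩
    rw [← show f ^ k = x from hk, Subgroup.coe_pow]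
    simp only [b, Basis.reindex_apply]
    clear hk
    induction k with
    | zero => simp
    | succ k ih => rw [pow_succ', map_mul, Module.End.mul_apply, ih, map_smul, hb₀, smul_smul, pow_succ]
  choose c hc using hb
  have hne : ∀ i, b i ≠ 0 := b.ne_zero
  let L : Fin d → (F →* ℂ) := fun i =>
    { toFun := fun x => c x i
      map_one' := smul_left_injective ℂ (hne i) (show c 1 i • b i = (1 : ℂ) • b i by
        rw [← hc, one_smul, Subgroup.coe_one, map_one, Module.End.one_apply])
      map_mul' := fun x y => smul_left_injective ℂ (hne i)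
        (show c (x * y) i • b i = (c x i * c y i) • b i by
          rw [← hc, Subgroup.coe_mul, map_mul, Module.End.mul_apply, hc, map_smul, hc, smul_smul,
            mul_comm]) }
  refine ⟨L, fun i x y h => ?_, fun x => ?_⟩
  · exact Subtype.ext (eq_of_apply_eq ρ hρ (hne i) (by rw [hc, hc]; exact congrArg (· • b i) h))
  · exact CfsgLib.Char.trace_eq_sum_of_eigenbasis _ b (fun i => L i x) (fun i => hc x i)

end Rep

theorem sum_hom_mul_inv (F : Subgroup G) [Fintype F] [IsCyclic F] [DecidableEq (F →* ℂ)]
    (lam mu : F →* ℂ) :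
    ∑ x : F, lam x * mu x⁻¹ = if lam = mu then (Nat.card F : ℂ) else 0 := by
  letI : CommGroup F := IsCyclic.commGroup
  split_ifs with h
  · subst h
    rw [Finset.sum_congr rfl fun (x : F) _ => show lam x * lam x⁻¹ = 1 by
      rw [← map_mul, mul_inv_cancel, map_one]]
    simp [Nat.card_eq_fintype_card]
  · let f : F →* ℂ := lam * mu.comp (invMonoidHom : F →* F)
    refine sum_hom_units_eq_zero f fun e => h ?_
    ext x
    have hx : lam x * mu x⁻¹ = 1 := DFunLike.congr_fun e x
    calc lam x = lam x * (mu x⁻¹ * mu x) := by rw [← map_mul, inv_mul_cancel, map_one, mul_one]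
      _ = lam x * mu x⁻¹ * mu x := by rw [mul_assoc]
      _ = mu x := by rw [hx, one_mul]

section Bounds

variable {d : ℕ} (ρ : Representation ℂ G (Fin d → ℂ))
  (hρ : ∀ g : G, g ≠ 1 → ∀ v : Fin d → ℂ, ρ g v = v → v = 0)

include hρ

open Classical in
/-- The multiplicities of the linear constituents are invariant under the normaliser; so the index
of the centraliser divides the degree, and the sum of squares of multiplicities is at least four
times that index unless every multiplicity is one. -/
theorem multiplicities (F N : Subgroup G) [IsCyclic F] (hN : N ≤ normalizer (F : Set G))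
    (L : Fin d → (F →* ℂ)) (hinj : ∀ i, Function.Injective (L i))
    (hL : ∀ x : F, ρ.character (x : G) = ∑ i, L i x) :
    ((centralizer (F : Set G)).subgroupOf N).index ∣ d ∧
      (4 * ((centralizer (F : Set G)).subgroupOf N).index ≤
          (univ.filter (fun p : Fin d × Fin d => L p.1 = L p.2)).card ∨
        Function.Injective L) := by
  haveI : Fintype F := Fintype.ofFinite F
  letI : CommGroup F := IsCyclic.commGroup
  set m : (F →* ℂ) → ℕ := fun μ => (univ.filter (fun i => L i = μ)).card with hm
  have hformula : ∀ μ : F →* ℂ,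
      (Nat.card F : ℂ) * m μ = ∑ x : F, ρ.character (x : G) * μ x⁻¹ := by
    intro μ
    simp only [hL, sum_mul]
    rw [sum_comm]
    simp only [sum_hom_mul_inv]
    rw [← sum_filter, sum_const, nsmul_eq_mul, mul_comm]
  -- conjugation of linear characters
  let conjF : N → F → F := fun n x =>
    ⟨(n : G)⁻¹ * x * n, (mem_normalizer_iff''.1 (hN n.2) x).1 x.2⟩
  have hconj_inj : ∀ n, Function.Injective (conjF n) := fun n x y e => Subtype.ext (by
    have e' : (n : G)⁻¹ * x * n = (n : G)⁻¹ * y * n := congrArg Subtype.val e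
    simpa using e')
  let act : N → (F →* ℂ) → (F →* ℂ) := fun n μ =>
    { toFun := fun x => μ (conjF n x)
      map_one' := by
        rw [show conjF n 1 = 1 from Subtype.ext (by simp [conjF]), map_one]
      map_mul' := fun x y => by
        rw [← map_mul]
        congr 1
        exact Subtype.ext (by simp [conjF, mul_assoc]) }
  have hinv : ∀ n μ, m (act n μ) = m μ := by
    intro n μ
    have h : (Nat.card F : ℂ) * m (act n μ) = (Nat.card F : ℂ) * m μ := by
      rw [hformula, hformula]
      refine Fintype.sum_equiv (Equiv.ofBijective (conjF n) ⟨hconj_inj n,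
        Finite.surjective_of_injective (hconj_inj n)⟩) _ _ fun x => ?_
      show ρ.character (x : G) * μ (conjF n x⁻¹) =
        ρ.character ((conjF n x : F) : G) * μ (conjF n x)⁻¹
      congr 1
      · rw [show ((conjF n x : F) : G) = (n : G)⁻¹ * x * ((n : G)⁻¹)⁻¹ by simp [conjF],
          Representation.char_conj]
      · show μ (conjF n x⁻¹) = μ (conjF n x)⁻¹
        congr 1
        exact Subtype.ext (by simp [conjF, mul_assoc])
    exact_mod_cast mul_left_cancel₀ (Nat.cast_ne_zero.2 (Nat.card_pos (α := F)).ne') h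
  set Λ := (univ : Finset (Fin d)).image L with hΛ
  have hmemΛ : ∀ μ, μ ∈ Λ ↔ 0 < m μ := fun μ => by
    simp [hΛ, hm, Finset.card_pos, Finset.Nonempty]
  letI inst : MulAction N Λ :=
    { smul := fun n μ => ⟨act n μ, (hmemΛ _).2 (hinv n μ.1 ▸ (hmemΛ _).1 μ.2)⟩
      one_smul := fun μ => Subtype.ext (MonoidHom.ext fun x => by
        show (μ : F →* ℂ) (conjF 1 x) = _
        congr 1
        exact Subtype.ext (by simp [conjF]))
      mul_smul := fun n n' μ => Subtype.ext (MonoidHom.ext fun x => by
        show (μ : F →* ℂ) (conjF (n * n') x) = (μ : F →* ℂ) (conjF n' (conjF n x))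
        congr 1
        exact Subtype.ext (by simp [conjF, mul_assoc])) }
  have hstab : ∀ μ : Λ, MulAction.stabilizer N μ = (centralizer (F : Set G)).subgroupOf N := by
    intro μ
    have hμ : Function.Injective (μ : F →* ℂ) := by
      obtain ⟨i, -, hi⟩ := mem_image.1 μ.2
      exact hi ▸ hinj i
    ext n
    rw [MulAction.mem_stabilizer_iff, mem_subgroupOf, mem_centralizer_iff]
    constructor
    · intro h x hx
      have h1 : (μ : F →* ℂ) (conjF n ⟨x, hx⟩) = (μ : F →* ℂ) ⟨x, hx⟩ :=
        DFunLike.congr_fun (congrArg Subtype.val h) ⟨x, hx⟩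
      have h2 : (n : G)⁻¹ * x * n = x := congrArg Subtype.val (hμ h1)
      calc x * (n : G) = n * ((n : G)⁻¹ * x * n) := by group
        _ = n * x := by rw [h2]
    · intro h
      refine Subtype.ext (MonoidHom.ext fun x => ?_)
      show (μ : F →* ℂ) (conjF n x) = _
      congr 1
      refine Subtype.ext ?_
      show (n : G)⁻¹ * x * n = x
      rw [mul_assoc, h x x.2, inv_mul_cancel_left]
  have hsum : ∑ μ : Λ, m μ = d := by
    rw [sum_coe_sort Λ m]
    conv_rhs => rw [← Fintype.card_fin d, ← Finset.card_univ]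
    exact (card_eq_sum_card_image L univ).symm
  refine ⟨hsum ▸ index_dvd_sum _ hstab _ (fun n μ => hinv n μ), ?_⟩
  by_cases hL1 : Function.Injective L
  · exact Or.inr hL1
  left
  obtain ⟨i, j, hij, hne⟩ : ∃ i j, L i = L j ∧ i ≠ j := by
    simpa [Function.Injective] using hL1
  set g : Λ → ℕ := fun μ => if 2 ≤ m μ then 1 else 0 with hg
  have hdvd : ((centralizer (F : Set G)).subgroupOf N).index ∣ ∑ μ, g μ := by
    refine index_dvd_sum _ hstab _ fun n μ => ?_
    simp only [hg, show m ((n • μ : Λ) : F →* ℂ) = m μ from hinv n μ.1]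
  have hpos : 0 < ∑ μ, g μ := by
    refine Finset.sum_pos' (fun _ _ => Nat.zero_le _)
      ⟨⟨L i, mem_image_of_mem _ (mem_univ _)⟩, mem_univ _, ?_⟩
    have : 2 ≤ m (L i) := by
      rw [hm]
      exact Finset.one_lt_card.2 ⟨i, by simp, j, by simp [hij], hne⟩
    simp [hg, this]
  have hpairs : (univ.filter (fun p : Fin d × Fin d => L p.1 = L p.2)).card = ∑ μ : Λ, m μ ^ 2 := by
    rw [sum_coe_sort Λ (fun μ => m μ ^ 2),
      card_eq_sum_card_fiberwise (f := fun p : Fin d × Fin d => L p.1) (t := Λ)
        (fun p _ => mem_image_of_mem _ (mem_univ _))]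
    refine Finset.sum_congr rfl fun μ _ => ?_
    rw [pow_two, hm, ← card_product]
    congr 1
    ext ⟨a, b⟩
    simp only [mem_filter, mem_univ, true_and, mem_product]
    constructor
    · rintro ⟨h1, h2⟩; exact ⟨h2, h1 ▸ h2⟩
    · rintro ⟨h1, h2⟩; exact ⟨h1.trans h2.symm, h1⟩
  rw [hpairs]
  calc 4 * ((centralizer (F : Set G)).subgroupOf N).index ≤ 4 * ∑ μ, g μ :=
        Nat.mul_le_mul_left 4 (Nat.le_of_dvd hpos hdvd)
    _ ≤ ∑ μ : Λ, m μ ^ 2 := by
        rw [mul_sum]
        refine Finset.sum_le_sum fun μ _ => ?_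
        simp only [hg]
        split_ifs with h
        · nlinarith
        · simp

/-- The index of the centraliser of a cyclic subgroup in a group normalising it divides the
degree. -/
theorem index_dvd_degree (F N : Subgroup G) [IsCyclic F] (hN : N ≤ normalizer (F : Set G)) :
    ((centralizer (F : Set G)).subgroupOf N).index ∣ d := by
  obtain ⟨L, hinj, hL⟩ := exists_linear_parts ρ hρ F
  exact (multiplicities ρ hρ F N hN L hinj hL).1

/-- The norm bound at an element of order three. -/
theorem degree_of_order_three [ρ.IsIrreducible] (F : Subgroup G) [IsCyclic F] {s : G} (hs : s ∈ F)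
    (hs3 : orderOf s = 3)
    (hN : normalizer (zpowers s : Set G) ≤ normalizer (F : Set G))
    (hC : centralizer (F : Set G) ⊓ normalizer (zpowers s : Set G) ≤ F) :
    (d = F.relIndex (normalizer (zpowers s : Set G)) ∨
        d = 2 * F.relIndex (normalizer (zpowers s : Set G))) ∧
      (Nat.card F = 6 → d ≤ 2) := by
  classical
  haveI : Fintype G := Fintype.ofFinite G
  haveI : Fintype F := Fintype.ofFinite F
  haveI : IsMulCommutative F := IsCyclic.isMulCommutative
  have hdpos : 0 < d := by
    have := CfsgLib.Char.finrank_pos_of_isIrreducible ρ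
    rwa [Module.finrank_fin_fun] at this
  have hG : HasFpf G := ⟨d, ρ, hdpos, hρ⟩
  obtain ⟨L, hinj, hL⟩ := exists_linear_parts ρ hρ F
  set N := normalizer (zpowers s : Set G) with hNdef
  obtain ⟨hdvd, hor⟩ := multiplicities ρ hρ F N hN L hinj hL
  have hcsub : (centralizer (F : Set G)).subgroupOf N = F.subgroupOf N := by
    ext x
    simp only [mem_subgroupOf]
    exact ⟨fun h => hC ⟨h, x.2⟩, fun h => (le_centralizer F) h⟩
  rw [hcsub] at hdvd hor
  have hFN : F ≤ N := by
    refine le_trans (le_centralizer F) ?_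
    refine le_trans ?_ (Subgroup.centralizer_le_normalizer _)
    exact Subgroup.centralizer_le (Subgroup.zpowers_le.2 hs)
  set t := (F.subgroupOf N).index with ht
  have htrel : F.relIndex N = t := rfl
  have hNcard : Nat.card N = Nat.card F * t := by
    rw [ht, ← (F.subgroupOf N).card_mul_index, Nat.card_congr (subgroupOfEquivOfLe hFN).toEquiv]
  -- the real function `|χ|²`
  set a : G → ℝ := fun g => Complex.normSq (ρ.character g) with ha
  have hasq : ∀ g, ((a g : ℝ) : ℂ) = ρ.character g * ρ.character g⁻¹ := fun g => by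
    rw [CfsgLib.Char.character_inv, ha, Complex.mul_conj]
  have htotal : ∑ g, a g = Nat.card G := by
    have h := ρ.char_orthonormal (σ := ρ)
    rw [if_pos ⟨Representation.Equiv.refl ρ⟩, inv_mul_eq_iff_eq_mul₀
      (Nat.cast_ne_zero.2 (Nat.card_pos (α := G)).ne')] at h
    apply Complex.ofReal_injective
    push_cast
    rw [Finset.sum_congr rfl (fun g _ => hasq g), h]
    simp
  have hsumF : ∑ x : F, a x = Nat.card F * (univ.filter (fun p : Fin d × Fin d => L p.1 = L p.2)).card := by
    apply Complex.ofReal_injective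
    push_cast
    rw [Finset.sum_congr rfl (fun (x : F) _ => hasq x)]
    simp only [← Subgroup.coe_inv, hL, sum_mul_sum]
    rw [sum_comm]
    refine (Finset.sum_congr rfl fun i _ => sum_comm).trans ?_
    simp only [sum_hom_mul_inv]
    rw [← Fintype.sum_prod_type', ← sum_filter, sum_const, nsmul_eq_mul, mul_comm]
  -- the elements of order divisible by three
  set S := univ.filter (fun c : G => c ∈ F ∧ 3 ∣ orderOf c) with hS
  have hmemS : ∀ c, c ∈ S ↔ c ∈ F ∧ 3 ∣ orderOf c := fun c => by simp [hS]
  have hs1 : s ≠ 1 := fun e => by rw [e, orderOf_one] at hs3; omega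
  have hord : ∀ h c : G, orderOf (h * c * h⁻¹) = orderOf c := fun h c => by
    rw [← MulAut.conj_apply, MulEquiv.orderOf_eq]
  have hsc : ∀ c ∈ S, s ∈ zpowers c := fun c hc => by
    obtain ⟨hcF, h3⟩ := (hmemS c).1 hc
    exact hG.mem_zpowers_of_commute (setLike_mul_comm hcF hs) (hs3 ▸ h3)
  have hsum := card_smul_sum_conj S N
    (fun h hh c hc => by
      obtain ⟨hcF, h3⟩ := (hmemS c).1 hc
      exact (hmemS _).2 ⟨(mem_normalizer_iff.1 (hN hh) c).1 hcF, by rwa [hord]⟩)
    (fun h c hc hc' => by
      have h1 : h * s * h⁻¹ ∈ zpowers (h * c * h⁻¹) := by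
        obtain ⟨j, hj⟩ := mem_zpowers_iff.1 (hsc c hc)
        exact ⟨j, by change (h * c * h⁻¹) ^ j = _; rw [conj_zpow, hj]⟩
      have h2 := hsc _ hc'
      have hcm : Commute (h * s * h⁻¹) s := by
        obtain ⟨i, hi⟩ := mem_zpowers_iff.1 h1
        obtain ⟨j, hj⟩ := mem_zpowers_iff.1 h2
        have := (Commute.refl (h * c * h⁻¹)).zpow_zpow i j
        rwa [hi, hj] at this
      have heq := hG.zpowers_eq_of_commute hcm (hs3.trans (hord h s ▸ hs3).symm)
      rw [hNdef, mem_normalizer_iff]
      intro x
      constructor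
      · rintro ⟨j, rfl⟩
        change h * s ^ j * h⁻¹ ∈ zpowers s
        rw [← conj_zpow, heq]
        exact zpow_mem (mem_zpowers _) _
      · intro hx
        rw [heq] at hx
        obtain ⟨j, hj⟩ := mem_zpowers_iff.1 hx
        refine ⟨j, ?_⟩
        change s ^ j = x
        rw [conj_zpow] at hj
        exact mul_left_cancel (mul_right_cancel hj))
    a (fun h c => by simp only [ha]; rw [Representation.char_conj])
  rw [nsmul_eq_mul, nsmul_eq_mul] at hsum
  set Ω := univ.filter (fun x : G => ∃ h : G, h * x * h⁻¹ ∈ S) with hΩ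
  have hΩlt : ∑ x ∈ Ω, a x < Nat.card G := by
    rw [← htotal]
    refine Finset.sum_lt_sum_of_subset (subset_univ _) (mem_univ 1) ?_ ?_ fun g _ _ => Complex.normSq_nonneg _
    · simp [hΩ, hmemS]
    · simp only [ha, Representation.char_one, Module.finrank_fin_fun]
      exact Complex.normSq_pos.2 (Nat.cast_ne_zero.2 hdpos.ne')
  have hSlt : ∑ c ∈ S, a c < Nat.card N := by
    have hG0 : (0 : ℝ) < Nat.card G := Nat.cast_pos.2 Nat.card_pos
    have hN0 : (0 : ℝ) < Nat.card N := Nat.cast_pos.2 Nat.card_pos
    refine lt_of_mul_lt_mul_left ?_ hG0.le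
    rw [← hsum, mul_comm (Nat.card G : ℝ)]
    exact mul_lt_mul_of_pos_left hΩlt hN0
  -- three-term relation
  have h3rel : ∀ c : G, ρ.character c + ρ.character (c * s) + ρ.character (c * s ^ 2) = 0 := by
    intro c
    have hz : ρ 1 + ρ s + ρ (s ^ 2) = 0 := by
      refine LinearMap.ext fun v => hρ s hs1 _ ?_
      simp only [LinearMap.add_apply, map_add, ← Module.End.mul_apply, ← map_mul, mul_one]
      rw [← pow_two, ← pow_succ', show s ^ (2 + 1) = 1 by rw [show 2 + 1 = orderOf s from hs3.symm,
        pow_orderOf_eq_one]]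
      abel
    have := congrArg (fun T => LinearMap.trace ℂ _ (ρ c * T)) hz
    simpa [Representation.character, mul_add, ← map_mul, -map_pow] using this
  have hF3 : ∑ x : F, a x ≤ 3 * ∑ c ∈ S, a c := by
    set T := univ.filter (fun c : G => c ∈ F ∧ ¬ 3 ∣ orderOf c) with hT
    have hmemT : ∀ c, c ∈ T ↔ c ∈ F ∧ ¬ 3 ∣ orderOf c := fun c => by simp [hT]
    have hsplit : ∑ x : F, a x = ∑ c ∈ S, a c + ∑ c ∈ T, a c := by
      rw [← sum_subtype (univ.filter (fun c : G => c ∈ F)) (fun c => by simp) a,
        ← sum_filter_add_sum_filter_not _ (fun c => 3 ∣ orderOf c), filter_filter, filter_filter]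
    have hmove : ∀ c ∈ T, ∀ k : ℕ, ¬ 3 ∣ k → c * s ^ k ∈ S := by
      intro c hc k hk
      obtain ⟨hcF, h3⟩ := (hmemT c).1 hc
      have hok : orderOf (s ^ k) = 3 := by
        rw [Nat.Coprime.orderOf_pow (hs3.symm ▸ (Nat.prime_three.coprime_iff_not_dvd.2 hk)), hs3]
      refine (hmemS _).2 ⟨F.mul_mem hcF (F.pow_mem hs k), ?_⟩
      rw [(show Commute c (s ^ k) from setLike_mul_comm hcF (F.pow_mem hs k)).orderOf_mul_eq_mul_orderOf_of_coprime
        (hok.symm ▸ (Nat.prime_three.coprime_iff_not_dvd.2 h3).symm), hok]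
      exact dvd_mul_left _ _
    have hle : ∀ c, a c ≤ 2 * (a (c * s) + a (c * s ^ 2)) := by
      intro c
      have h := h3rel c
      have e : ρ.character c = -(ρ.character (c * s) + ρ.character (c * s ^ 2)) := by
        linear_combination h
      simp only [ha, e, Complex.normSq_neg]
      generalize ρ.character (c * s) = u
      generalize ρ.character (c * s ^ 2) = v
      simp only [Complex.normSq_apply, Complex.add_re, Complex.add_im]
      nlinarith [sq_nonneg (u.re - v.re), sq_nonneg (u.im - v.im)]
    have himg : ∑ c ∈ T, (a (c * s) + a (c * s ^ 2)) ≤ ∑ c ∈ S, a c := by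
      rw [sum_add_distrib, ← sum_image (s := T) (g := fun c => c * s) (f := a)
          (fun x _ y _ e => mul_right_cancel e),
        ← sum_image (s := T) (g := fun c => c * s ^ 2) (f := a) (fun x _ y _ e => mul_right_cancel e),
        ← sum_union]
      · refine sum_le_sum_of_subset_of_nonneg ?_ fun _ _ _ => Complex.normSq_nonneg _
        intro c hc
        simp only [Finset.mem_union, mem_image] at hc
        rcases hc with ⟨x, hx, rfl⟩ | ⟨x, hx, rfl⟩
        · simpa using hmove x hx 1 (by norm_num)
        · exact hmove x hx 2 (by norm_num)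
      · rw [Finset.disjoint_left]
        intro c h1 h2
        obtain ⟨x, hx, rfl⟩ := mem_image.1 h1
        obtain ⟨y, hy, hxy⟩ := mem_image.1 h2
        have hx' : x = y * s := mul_right_cancel (b := s) (by
          rw [← hxy, pow_two, mul_assoc])
        have := hmove y hy 1 (by norm_num)
        rw [pow_one, ← hx'] at this
        exact ((hmemT x).1 hx).2 ((hmemS x).1 this).2
    have hTle : ∑ c ∈ T, a c ≤ 2 * ∑ c ∈ T, (a (c * s) + a (c * s ^ 2)) := by
      rw [mul_sum]; exact Finset.sum_le_sum fun c _ => hle c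
    linarith
  have hlt : (univ.filter (fun p : Fin d × Fin d => L p.1 = L p.2)).card < 3 * t := by
    have h : (Nat.card F : ℝ) * ((univ.filter (fun p : Fin d × Fin d => L p.1 = L p.2)).card : ℕ)
        < (Nat.card F : ℝ) * ((3 * t : ℕ) : ℝ) := by
      rw [← hsumF]
      calc ∑ x : F, a x ≤ 3 * ∑ c ∈ S, a c := hF3
        _ < 3 * (Nat.card N : ℝ) := by linarith
        _ = _ := by rw [hNcard]; push_cast; ring
    exact_mod_cast lt_of_mul_lt_mul_left h (Nat.cast_nonneg _)
  have hLinj : Function.Injective L := hor.resolve_left (by omega)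
  have hpairs : (univ.filter (fun p : Fin d × Fin d => L p.1 = L p.2)).card = d := by
    rw [show (univ.filter (fun p : Fin d × Fin d => L p.1 = L p.2)) =
      univ.image (fun i : Fin d => (i, i)) by
      ext ⟨i, j⟩; simp [hLinj.eq_iff, Prod.ext_iff]]
    rw [card_image_of_injective _ (fun i j e => (Prod.ext_iff.1 e).1), Finset.card_univ, Fintype.card_fin]
  rw [hpairs] at hlt
  refine ⟨?_, fun h6 => ?_⟩
  · obtain ⟨k, hk⟩ := hdvd
    rw [htrel]
    have : k < 3 := by
      by_contra hk3
      have := Nat.mul_le_mul_left t (not_lt.1 hk3)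
      rw [← hk] at this
      linarith
    interval_cases k <;> omega
  · obtain ⟨⟨f, hf⟩, hgen⟩ := IsCyclic.exists_generator (α := F)
    have hof : orderOf (⟨f, hf⟩ : F) = 6 := by
      rw [orderOf_eq_card_of_forall_mem_zpowers hgen, h6]
    let v : Fin d → primitiveRoots 6 ℂ := fun i => ⟨L i ⟨f, hf⟩, by
      rw [mem_primitiveRoots (by norm_num), ← hof, ← orderOf_injective (L i) (hinj i)]
      exact IsPrimitiveRoot.orderOf _⟩
    have hv : Function.Injective v := by
      intro i j e
      apply hLinj
      refine MonoidHom.ext fun x => ?_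
      obtain ⟨k, hk⟩ := (mem_powers_iff_mem_zpowers (x := (⟨f, hf⟩ : F))).2 (hgen x)
      have e' : L i ⟨f, hf⟩ = L j ⟨f, hf⟩ := congrArg Subtype.val e
      rw [← show (⟨f, hf⟩ : F) ^ k = x from hk, map_pow, map_pow, e']
    have := Fintype.card_le_of_injective v hv
    rwa [Fintype.card_fin, Fintype.card_coe, Complex.card_primitiveRoots] at this

end Bounds

end CfsgLib.Zassenhaus
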