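import Cfsg.Agent.Lib.Zassenhaus.Setting
import Cfsg.Agent.Lib.Zassenhaus.Char
import Mathlib.Data.Set.Card
import Mathlib.GroupTheory.Nilpotent

/-!
The components of the elements of odd order lying outside the conjugates of a given subgroup.
-/

set_option autoImplicit false
set_option linter.unusedSectionVars false
set_option linter.style.haveILetI false

open scoped Pointwise commutatorElement
open Subgroup

namespace CfsgLib.Zassenhaus

variable {H : Type*} [Group H] [Finite H]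

/-- The nontrivial elements of odd order having a conjugate in `K`. -/
def omega (K : Subgroup H) : Set H :=
  {x | x ≠ 1 ∧ Odd (orderOf x) ∧ ∃ h : H, h * x * h⁻¹ ∈ K}

/-- A prime-order power of a nontrivial element. -/
theorem exists_prime_pow {x : H} (hx : x ≠ 1) (hodd : Odd (orderOf x)) :
    ∃ k : ℕ, (orderOf (x ^ k)).Prime ∧ Odd (orderOf (x ^ k)) := by
  obtain ⟨q, hq, hd⟩ := Nat.exists_prime_and_dvd (n := orderOf x) (fun h => hx (orderOf_eq_one_iff.1 h))
  refine ⟨orderOf x / q, ?_⟩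
  rw [orderOf_pow_orderOf_div (orderOf_pos x).ne' hd]
  exact ⟨hq, hodd.of_dvd_nat hd⟩

/-- Isolation for elements of prime order gives isolation for all odd elements. -/
theorem iso_of_prime {K : Subgroup H}
    (hK : ∀ v ∈ K, (orderOf v).Prime → Odd (orderOf v) → ∀ h : H, h * v * h⁻¹ ∈ K → h ∈ K)
    {c : H} (hc : c ∈ K) (hc1 : c ≠ 1) (hodd : Odd (orderOf c)) {h : H}
    (hh : h * c * h⁻¹ ∈ K) : h ∈ K := by
  obtain ⟨k, hkp, hko⟩ := exists_prime_pow hc1 hodd
  exact hK _ (K.pow_mem hc k) hkp hko h (by rw [← conj_pow]; exact K.pow_mem hh k)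

/-- The size of `omega K` for an isolated subgroup `K`. -/
theorem card_omega {K : Subgroup H}
    (hK : ∀ v ∈ K, (orderOf v).Prime → Odd (orderOf v) → ∀ h : H, h * v * h⁻¹ ∈ K → h ∈ K) :
    Nat.card K * (omega K).ncard + Nat.card H =
      Nat.card H * Nat.card {x : H // x ∈ K ∧ Odd (orderOf x)} := by
  classical
  haveI : Fintype H := Fintype.ofFinite H
  set S := Finset.univ.filter (fun c : H => (c ∈ K ∧ Odd (orderOf c)) ∧ c ≠ 1) with hS
  have hmem : ∀ c, c ∈ S ↔ (c ∈ K ∧ Odd (orderOf c)) ∧ c ≠ 1 := fun c => by simp [hS]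
  have h := card_smul_sum_conj S K
    (fun h hh c hc => by
      obtain ⟨⟨hcK, hodd⟩, hc1⟩ := (hmem c).1 hc
      exact (hmem _).2 ⟨⟨K.mul_mem (K.mul_mem hh hcK) (K.inv_mem hh), by rwa [orderOf_conj_eq]⟩,
        by rwa [Ne, conj_eq_one_iff]⟩)
    (fun h c hc hc' => by
      obtain ⟨⟨hcK, hodd⟩, hc1⟩ := (hmem c).1 hc
      exact iso_of_prime hK hcK hc1 hodd ((hmem _).1 hc').1.1)
    (fun _ => (1 : ℕ)) (fun _ _ => rfl)
  rw [Finset.sum_const, Finset.sum_const, smul_eq_mul, smul_eq_mul, smul_eq_mul, smul_eq_mul,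
    mul_one, mul_one] at h
  have hΩ : (omega K).ncard =
      (Finset.univ.filter (fun x : H => ∃ h : H, h * x * h⁻¹ ∈ S)).card := by
    rw [← Set.ncard_coe_finset]
    congr 1
    ext x
    simp only [omega, Finset.coe_filter, Set.mem_setOf_eq, Finset.mem_univ, true_and]
    constructor
    · rintro ⟨hx1, hodd, g, hg⟩
      exact ⟨g, (hmem _).2 ⟨⟨hg, by rwa [orderOf_conj_eq]⟩, by rwa [Ne, conj_eq_one_iff]⟩⟩
    · rintro ⟨g, hg⟩
      obtain ⟨⟨hgK, hodd⟩, h1⟩ := (hmem _).1 hg
      rw [orderOf_conj_eq] at hodd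
      rw [Ne, conj_eq_one_iff] at h1
      exact ⟨h1, hodd, g, hgK⟩
  have hcard : Nat.card {x : H // x ∈ K ∧ Odd (orderOf x)} = S.card + 1 := by
    rw [Nat.card_eq_fintype_card, Fintype.card_subtype, hS,
      ← Finset.card_erase_add_one (a := (1 : H)) (by simp)]
    congr 2
    ext x
    simp [and_comm]
  rw [hΩ, h, hcard, mul_add, mul_one]

/-- The quotient of a normaliser of a cyclic subgroup of prime order by the centraliser. -/
theorem relIndex_centralizer_dvd {v : H} (hp : (orderOf v).Prime) (K : Subgroup H)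
    (hK : K ≤ normalizer (zpowers v : Set H)) :
    ((centralizer (zpowers v : Set H)).subgroupOf K).index ∣ orderOf v - 1 := by
  let φ : K →* MulAut (zpowers v) := (zpowers v).normalizerMonoidHom.comp (Subgroup.inclusion hK)
  have hker : (centralizer (zpowers v : Set H)).subgroupOf K = φ.ker := by
    ext k
    rw [mem_subgroupOf, MonoidHom.mem_ker, mem_centralizer_zpowers]
    constructor
    · intro h
      refine MulEquiv.ext fun u => Subtype.ext ?_
      obtain ⟨i, hi⟩ := mem_zpowers_iff.1 u.2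
      show (k : H) * u * (k : H)⁻¹ = u
      rw [← hi, (h.zpow_right i).eq, mul_inv_cancel_right]
    · intro h
      have h2 := congrArg Subtype.val (DFunLike.congr_fun h ⟨v, mem_zpowers v⟩)
      exact mul_inv_eq_iff_eq_mul.1 h2
  rw [hker, index_ker]
  refine (Subgroup.card_subgroup_dvd_card φ.range).trans (dvd_of_eq ?_)
  rw [IsCyclic.card_mulAut, Nat.card_zpowers, Nat.totient_prime hp]

/-- Hypotheses on the subgroup whose conjugates contain all elements of odd prime order commuting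
with an element of order four. -/
structure Core (K0 : Subgroup H) : Prop where
  iso : ∀ v ∈ K0, (orderOf v).Prime → Odd (orderOf v) → ∀ h : H, h * v * h⁻¹ ∈ K0 → h ∈ K0
  four : ∀ v b : H, (orderOf v).Prime → Odd (orderOf v) → orderOf b = 4 → Commute b v →
    ∃ h : H, h * v * h⁻¹ ∈ K0

/-- Elements of odd prime order without conjugate in `K0`. -/
def IsB (K0 : Subgroup H) (v : H) : Prop :=
  (orderOf v).Prime ∧ Odd (orderOf v) ∧ ∀ h : H, h * v * h⁻¹ ∉ K0

theorem IsB.conj {K0 : Subgroup H} {v : H} (hv : IsB K0 v) (g : H) : IsB K0 (g * v * g⁻¹) := by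
  refine ⟨by rw [orderOf_conj_eq]; exact hv.1, by rw [orderOf_conj_eq]; exact hv.2.1, fun h hh => ?_⟩
  exact hv.2.2 (h * g) (by rwa [show h * g * v * (h * g)⁻¹ = h * (g * v * g⁻¹) * h⁻¹ by group])

variable (hH : Minimal H) {K0 : Subgroup H} (hc : Core K0)
include hH hc

theorem IsB.of_commute {u v : H} (hv : IsB K0 v) (hup : (orderOf u).Prime)
    (huo : Odd (orderOf u)) (huv : Commute u v) : IsB K0 u := by
  refine ⟨hup, huo, fun h hh => hv.2.2 h ?_⟩
  refine hc.iso _ hh (by rwa [orderOf_conj_eq]) (by rwa [orderOf_conj_eq]) _ ?_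
  have := commute_conj huv h
  rwa [this.symm.eq, mul_inv_cancel_right]

theorem IsB.not_four {v : H} (hv : IsB K0 v) {b : H} (hb : orderOf b = 4) : ¬ Commute b v := by
  intro h
  obtain ⟨g, hg⟩ := hc.four v b hv.1 hv.2.1 hb h
  exact hv.2.2 g hg

theorem IsB.isSmall_centralizer {v : H} (hv : IsB K0 v) : IsSmall (centralizer ({v} : Set H)) := by
  by_contra hns
  obtain ⟨b, hb, hb4⟩ := hH.fpf.exists_four_of_not_small hns
  exact hv.not_four hH hc hb4 (mem_centralizer_singleton_iff.1 hb)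

theorem IsB.isSmall_normalizer {v : H} (hv : IsB K0 v) :
    IsSmall (normalizer (zpowers v : Set H)) := by
  intro P hP h2
  haveI : Fact (Nat.Prime 2) := ⟨Nat.prime_two⟩
  refine (hH.fpf.cyclic_or_quat h2).resolve_right ?_
  rintro ⟨-, t, a, hQ⟩
  set C := centralizer ({v} : Set H)
  set φ : P →* MulAut (zpowers v) := (zpowers v).normalizerMonoidHom.comp (Subgroup.inclusion hP)
  let ψ : P →* (ZMod (Nat.card (zpowers v)))ˣ := (IsCyclic.mulAutMulEquiv (zpowers v)).toMonoidHom.comp φ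
  have hψ : ∀ g : P, ψ g = 1 → Commute (g : H) v := by
    intro g hg
    have hg' : φ g = 1 := (IsCyclic.mulAutMulEquiv (zpowers v)).injective (hg.trans (map_one _).symm)
    have h2 := congrArg Subtype.val (DFunLike.congr_fun hg' ⟨v, mem_zpowers v⟩)
    exact mul_inv_eq_iff_eq_mul.1 h2
  obtain ⟨b, hb, hbt⟩ := hQ.exists_outer
  obtain ⟨hbb, hbtb⟩ := hQ.outer b hb hbt
  set T : P := ⟨t, hQ.mem⟩
  set B : P := ⟨b, hb⟩
  have hT2 : ψ T ^ 2 = 1 := by
    have h : ψ (B * T * B⁻¹) = ψ T⁻¹ := congrArg ψ (Subtype.ext hbtb)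
    rw [map_mul, map_mul, map_inv, map_inv, mul_comm, inv_mul_cancel_left] at h
    rw [pow_two]
    exact mul_eq_one_iff_eq_inv.2 h
  -- so `t²` centralises `v`, and the group has order eight
  have ha : a = 2 := by
    have hc2 : Commute (t ^ 2) v := hψ (T ^ 2) (by rw [map_pow, hT2])
    by_contra ha
    obtain ⟨j, hj⟩ := hQ.even_a
    have h2a := hQ.two_le
    have h4 : 4 ∣ a := by
      obtain ⟨k, hk⟩ := hQ.exists_pow
      rcases k with - | - | k
      · simp [hk] at h2a
      · simp [hk] at ha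
      · exact ⟨2 ^ k, by rw [hk]; ring⟩
    obtain ⟨l, hl⟩ := h4
    refine hv.not_four hH hc hQ.orderOf_four ?_
    rw [show a / 2 = 2 * l by omega, pow_mul]
    exact hc2.pow_left l
  subst ha
  have hB2 : ψ B ^ 2 = 1 := by
    rw [← map_pow]
    have h : B ^ 2 = T ^ 2 := Subtype.ext (by simp [B, T, pow_two (b : H), hbb])
    rw [h, map_pow, hT2]
  have hne : ∀ g : P, orderOf (g : H) = 4 → ψ g ≠ 1 := fun g hg h => hv.not_four hH hc hg (hψ g h)
  have hot : orderOf ((T : P) : H) = 4 := by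
    show orderOf t = 4
    rw [hQ.orderOf_t]
  have hbt' : orderOf (((B * T : P)) : H) = 4 := by
    refine hQ.orderOf_outer (P.mul_mem hb hQ.mem) fun h => hbt ?_
    have h' := Subgroup.mul_mem _ h (inv_mem (mem_zpowers t))
    rwa [show ((B * T : P) : H) * t⁻¹ = b by simp [B, T]] at h'
  -- two involutions in the units of a field coincide
  haveI : Fact (Nat.card (zpowers v)).Prime := ⟨by rw [Nat.card_zpowers]; exact hv.1⟩
  have huniq : ψ B = ψ T := by
    have hneg : ∀ g : P, orderOf (g : H) = 4 → ψ g ^ 2 = 1 →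
        ((ψ g : (ZMod (Nat.card (zpowers v)))ˣ) : ZMod (Nat.card (zpowers v))) = -1 := by
      intro g hg h2
      refine (sq_eq_one_iff.1 ?_).resolve_left fun h => hne g hg (Units.ext h)
      rw [← Units.val_pow_eq_pow_val, h2, Units.val_one]
    exact Units.ext ((hneg B (hQ.orderOf_outer hb hbt) hB2).trans (hneg T hot hT2).symm)
  apply hne (B * T) hbt'
  rw [map_mul, huniq, ← pow_two, hT2]

/-- Elements of odd prime order of the normaliser commute with `v` and have the same normaliser. -/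
theorem IsB.normalizer_eq {v u : H} (hv : IsB K0 v) (hu : u ∈ normalizer (zpowers v : Set H))
    (hup : (orderOf u).Prime) (huo : Odd (orderOf u)) :
    Commute u v ∧ IsB K0 u ∧ normalizer (zpowers u : Set H) = normalizer (zpowers v : Set H) := by
  have key : ∀ {u v : H}, IsB K0 v → (orderOf u).Prime → Odd (orderOf u) → Commute u v →
      normalizer (zpowers u : Set H) ≤ normalizer (zpowers v : Set H) := by
    intro u v hv hup huo huv g hg
    have hu' := hv.of_commute hH hc hup huo huv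
    refine mem_normalizer_zpowers ?_
    have hsm := hu'.isSmall_centralizer hH hc
    have hcm : Commute (g * v * g⁻¹) u := by
      obtain ⟨i, hi⟩ := mem_zpowers_iff.1 ((mem_normalizer_iff''.1 hg u).1 (mem_zpowers u))
      have h := commute_conj (huv.symm.zpow_right i) g
      rwa [hi, show g * (g⁻¹ * u * g) * g⁻¹ = u by group] at h
    exact hH.fpf.unique_prime hv.1 hv.2.1 (hH.fpf.isSolvable_of_small hsm) (Or.inr hsm)
      (mem_centralizer_singleton_iff.2 huv.symm.eq) (mem_centralizer_singleton_iff.2 hcm.eq) rfl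
      (orderOf_conj_eq g v)
  have huv : Commute u v :=
    hH.fpf.commute_of_normalize hup rfl ((mem_normalizer_iff.1 hu v).1 (mem_zpowers v))
  have hu' := hv.of_commute hH hc hup huo huv
  exact ⟨huv, hu', le_antisymm (key hv hup huo huv) (key hu' hv.1 hv.2.1 huv.symm)⟩

/-- The data of a component. -/
theorem IsB.component {v : H} (hv : IsB K0 v) {P : Sylow 2 H} {t : H} {a : ℕ}
    (hQ : IsQuat (P : Subgroup H) t a) :
    ∃ o w : ℕ, Odd o ∧ orderOf v ∣ o ∧ (∃ i, w = 2 ^ i) ∧ w ∣ a ∧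
      Nat.card (normalizer (zpowers v : Set H)) = 2 * (o * w) ∧
      2 * (o * w) * (omega (normalizer (zpowers v : Set H))).ncard + Nat.card H = Nat.card H * o ∧
      (∀ q, q.Prime → q ∣ o → w ∣ q - 1 ∧ (∃ u ∈ normalizer (zpowers v : Set H), orderOf u = q)) ∧
      (∀ (d : ℕ) (ρ : Representation ℂ H (Fin d → ℂ)),
        (∀ g : H, g ≠ 1 → ∀ x : Fin d → ℂ, ρ g x = x → x = 0) → w ∣ d) ∧
      (orderOf v = 3 → (∃ g ∈ normalizer (zpowers v : Set H), ¬ Commute g v) →
        w = 2 ∧ Nat.card (centralizer (zpowers v : Set H)) = 2 * o) := by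
  haveI : Fact (Nat.Prime 2) := ⟨Nat.prime_two⟩
  set M := normalizer (zpowers v : Set H) with hM
  have hsmall := hv.isSmall_normalizer hH hc
  have hoc := hH.fpf.oddClosed_of_small hsmall
  obtain ⟨j, hj⟩ := exists_card_eq_oddPart hoc
  set o := Nat.card (oddPart hoc) with ho
  have hodd : Odd o := odd_card_oddPart hoc
  set z := t ^ a with hz
  have hz2 : z ^ 2 = 1 := by rw [hz, ← pow_mul, mul_comm, ← hQ.orderOf_t, pow_orderOf_eq_one]
  have hzo : orderOf z = 2 := orderOf_eq_prime hz2 hQ.pow_a_ne_one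
  have hzC : ∀ u : H, z ∈ centralizer (zpowers u : Set H) := fun u =>
    mem_centralizer_zpowers.2 (hH.fpf.commute_involution hz2 u)
  have hCM : centralizer (zpowers v : Set H) ≤ M := centralizer_le_normalizer _
  -- the 2-part
  have hj1 : 1 ≤ j := by
    by_contra h
    rw [show j = 0 by omega, pow_zero, mul_one] at hj
    have := M.orderOf_dvd_natCard (hCM (hzC v))
    rw [hzo, hj] at this
    obtain ⟨k, hk⟩ := hodd
    omega
  set w := 2 ^ (j - 1) with hw
  have h2w : 2 ^ j = 2 * w := by rw [hw, ← pow_succ', Nat.sub_add_cancel hj1]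
  have hcard : Nat.card M = 2 * (o * w) := by rw [hj, h2w]; ring
  have hwa : w ∣ a := by
    obtain ⟨S, hS⟩ := Sylow.exists_subgroup_card_pow_prime (G := M) 2 (n := j) (Dvd.intro_left _ hj.symm)
    have hSp : IsPGroup 2 (S.map M.subtype) :=
      IsPGroup.of_card (n := j) (by rw [card_map_of_injective M.subtype_injective, hS])
    haveI := hsmall _ (map_subtype_le _) hSp
    obtain ⟨x, hx⟩ := IsCyclic.exists_ofOrder_eq_natCard (α := S.map M.subtype)
    rw [card_map_of_injective M.subtype_injective, hS, ← Subgroup.orderOf_coe] at hx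
    obtain ⟨g, hg⟩ := exists_conj_mem P hx
    have h := hQ.orderOf_dvd hg
    rw [orderOf_conj_eq, hx, h2w] at h
    exact (mul_dvd_mul_iff_left two_ne_zero).1 h
  -- centralisers of elements of prime order of the odd part
  have hidx : ∀ u : H, u ∈ M → (orderOf u).Prime → Odd (orderOf u) →
      w ∣ ((centralizer (zpowers u : Set H)).subgroupOf M).index ∧
        Nat.card (centralizer (zpowers u : Set H)) ∣ 2 * o := by
    intro u hu hup huo
    obtain ⟨-, hu', hN⟩ := hv.normalizer_eq hH hc hu hup huo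
    set C := centralizer (zpowers u : Set H) with hCdef
    have hCle : C ≤ M := (centralizer_le_normalizer _).trans hN.le
    have hCoc := hH.fpf.oddClosed_of_small (hsmall.mono hCle)
    obtain ⟨i, hi⟩ := exists_card_eq_oddPart hCoc
    have hi1 : i ≤ 1 := by
      by_contra hi2
      obtain ⟨S, hS⟩ := Sylow.exists_subgroup_card_pow_prime (G := C) 2 (n := i)
        (Dvd.intro_left _ hi.symm)
      have hSp : IsPGroup 2 (S.map C.subtype) :=
        IsPGroup.of_card (n := i) (by rw [card_map_of_injective C.subtype_injective, hS])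
      haveI := hsmall _ ((map_subtype_le _).trans hCle) hSp
      obtain ⟨x, hx⟩ := IsCyclic.exists_ofOrder_eq_natCard (α := S.map C.subtype)
      rw [card_map_of_injective C.subtype_injective, hS, ← Subgroup.orderOf_coe] at hx
      have h4 : 4 ∣ orderOf (x : H) := hx ▸ (pow_dvd_pow 2 (show 2 ≤ i by omega))
      have hxC : (x : H) ∈ C := map_subtype_le _ x.2
      refine hu'.not_four hH hc (orderOf_pow_orderOf_div (orderOf_pos (x : H)).ne' h4)
        (mem_centralizer_zpowers.1 (C.pow_mem hxC _))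
    have hdvd : Nat.card C ∣ 2 * o := by
      rw [hi, mul_comm 2 o]
      refine mul_dvd_mul (card_dvd_of_le fun x hx => ⟨hCle hx.1, hx.2⟩) ?_
      calc 2 ^ i ∣ 2 ^ 1 := pow_dvd_pow 2 hi1
        _ = 2 := pow_one 2
    refine ⟨?_, hdvd⟩
    obtain ⟨k, hk⟩ := hdvd
    have h := (C.subgroupOf M).card_mul_index
    rw [Nat.card_congr (subgroupOfEquivOfLe hCle).toEquiv, hcard,
      show 2 * (o * w) = Nat.card C * (k * w) by rw [← mul_assoc 2 o w, hk]; ring] at h
    exact ⟨k, by rw [Nat.eq_of_mul_eq_mul_left Nat.card_pos h, mul_comm]⟩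
  have hvM : v ∈ M := mem_normalizer_zpowers (by rw [mul_inv_cancel_right]; exact mem_zpowers v)
  obtain ⟨hwd, hCd⟩ := hidx v hvM hv.1 hv.2.1
  refine ⟨o, w, hodd, ?_, ⟨j - 1, rfl⟩, hwa, hcard, ?_, ?_, ?_, ?_⟩
  · have h := card_dvd_of_le (show zpowers v ≤ oddPart hoc from Subgroup.zpowers_le.2 ⟨hvM, hv.2.1⟩)
    rwa [Nat.card_zpowers] at h
  · have h := card_omega (K := M) fun u hu hup huo h hh => by
      obtain ⟨-, -, hN⟩ := hv.normalizer_eq hH hc hu hup huo
      obtain ⟨-, -, hN'⟩ := hv.normalizer_eq hH hc hh (by rw [orderOf_conj_eq]; exact hup)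
        (by rw [orderOf_conj_eq]; exact huo)
      -- conjugation by `h` carries `M` to itself, so `h` normalises `⟨u⟩`
      have hsm := hsmall
      show h ∈ normalizer (zpowers v : Set H)
      rw [← hN]
      refine mem_normalizer_zpowers ?_
      exact hH.fpf.unique_prime hup huo (hH.fpf.isSolvable_of_small hsm) (Or.inr hsm) hu hh rfl
        (orderOf_conj_eq h u)
    rw [← hcard, h, show Nat.card {x : H // x ∈ M ∧ Odd (orderOf x)} = o from rfl]
  · intro q hq hqd
    haveI : Fact q.Prime := ⟨hq⟩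
    obtain ⟨⟨u, hu⟩, hou⟩ := exists_prime_orderOf_dvd_card' q hqd
    rw [← Subgroup.orderOf_coe] at hou
    have hqo : Odd q := hodd.of_dvd_nat hqd
    refine ⟨?_, u, hu.1, hou⟩
    have h := hidx u hu.1 (hou.symm ▸ hq) (hou.symm ▸ hqo)
    obtain ⟨-, -, hN⟩ := hv.normalizer_eq hH hc hu.1 (hou.symm ▸ hq) (hou.symm ▸ hqo)
    have h2 := relIndex_centralizer_dvd (hou.symm ▸ hq : (orderOf u).Prime) M hN.ge
    rw [hou] at h2
    exact h.1.trans h2
  · intro d ρ hρ
    haveI : IsCyclic (zpowers v) := inferInstance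
    exact hwd.trans (index_dvd_degree ρ hρ (zpowers v) M le_rfl)
  · rintro hv3 ⟨g, hg, hgv⟩
    set C := centralizer (zpowers v : Set H) with hCdef
    have hne : (C.subgroupOf M).index ≠ 1 := fun h => hgv (by
      have := index_eq_one.1 h ▸ mem_top (⟨g, hg⟩ : M)
      exact mem_centralizer_zpowers.1 this)
    have h2 := relIndex_centralizer_dvd hv.1 M le_rfl
    rw [hv3] at h2
    have hidx2 : (C.subgroupOf M).index = 2 :=
      ((Nat.dvd_prime Nat.prime_two).1 h2).resolve_left hne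
    have hw2 : w ∣ 2 := hidx2 ▸ hwd
    have h := (C.subgroupOf M).card_mul_index
    rw [Nat.card_congr (subgroupOfEquivOfLe hCM).toEquiv, hcard, hidx2] at h
    have hzd := C.orderOf_dvd_natCard (hzC v)
    rw [hzo] at hzd
    rcases (Nat.dvd_prime Nat.prime_two).1 hw2 with h1 | h1
    · exfalso
      rw [h1] at h
      obtain ⟨k, hk⟩ := hodd
      obtain ⟨l, hl⟩ := hzd
      omega
    · refine ⟨h1, ?_⟩
      rw [h1] at h
      omega

/-- Two components are equal or disjoint. -/
theorem IsB.disjoint {v : H} (hv : IsB K0 v) {N : Subgroup H}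
    (hN : ∀ u ∈ N, (orderOf u).Prime → Odd (orderOf u) →
      (IsB K0 u → normalizer (zpowers u : Set H) = N))
    {x : H} (hxodd : Odd (orderOf x)) (hx1 : x ≠ 1) (hxv : Commute x v) (hxN : x ∉ omega N) :
    Disjoint (omega N) (omega (normalizer (zpowers v : Set H))) := by
  rw [Set.disjoint_left]
  rintro c ⟨hc1, hcodd, g, hg⟩ ⟨-, -, h, hh⟩
  obtain ⟨k, hkp, hko⟩ := exists_prime_pow hc1 hcodd
  have hgu : g * c ^ k * g⁻¹ ∈ N := by rw [← conj_pow]; exact N.pow_mem hg k
  have hhu : h * c ^ k * h⁻¹ ∈ normalizer (zpowers v : Set H) := by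
    rw [← conj_pow]; exact Subgroup.pow_mem _ hh k
  obtain ⟨-, hB, hN2⟩ := hv.normalizer_eq hH hc hhu (by rw [orderOf_conj_eq]; exact hkp)
    (by rw [orderOf_conj_eq]; exact hko)
  have hB' : IsB K0 (g * c ^ k * g⁻¹) := by
    have := hB.conj (g * h⁻¹)
    rwa [show g * h⁻¹ * (h * c ^ k * h⁻¹) * (g * h⁻¹)⁻¹ = g * c ^ k * g⁻¹ by group] at this
  have hNeq := hN _ hgu (by rw [orderOf_conj_eq]; exact hkp) (by rw [orderOf_conj_eq]; exact hko) hB'
  apply hxN
  refine ⟨hx1, hxodd, g * h⁻¹, ?_⟩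
  have hxM : x ∈ normalizer (zpowers v : Set H) :=
    mem_normalizer_zpowers (by rw [hxv.eq, mul_inv_cancel_right]; exact mem_zpowers v)
  rw [← hN2] at hxM
  obtain ⟨i, hi⟩ := mem_zpowers_iff.1 ((mem_normalizer_iff.1 hxM (h * c ^ k * h⁻¹)).1 (mem_zpowers _))
  rw [← hNeq]
  refine mem_normalizer_zpowers ⟨i, ?_⟩
  change (g * c ^ k * g⁻¹) ^ i = _
  calc (g * c ^ k * g⁻¹) ^ i = g * (c ^ k) ^ i * g⁻¹ := conj_zpow
    _ = g * h⁻¹ * (h * (c ^ k) ^ i * h⁻¹) * h * g⁻¹ := by group
    _ = g * h⁻¹ * (x * (h * c ^ k * h⁻¹) * x⁻¹) * h * g⁻¹ := by rw [← conj_zpow, hi]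
    _ = _ := by group

omit hc in
/-- At an element of order three whose centraliser has central Sylow 2-subgroups the degree is not
divisible by eight. -/
theorem degree_three {s : H} (hs : orderOf s = 3) {P : Sylow 2 H} {t : H} {a : ℕ}
    (hQ : IsQuat (P : Subgroup H) t a)
    (hsmall : IsSmall (centralizer (zpowers s : Set H)))
    (hcentral : ∀ u ∈ centralizer (zpowers s : Set H), (∃ k, orderOf u = 2 ^ k) →
      ∀ x ∈ centralizer (zpowers s : Set H), Commute u x)
    {d : ℕ} (ρ : Representation ℂ H (Fin d → ℂ)) [ρ.IsIrreducible]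
    (hρ : ∀ g : H, g ≠ 1 → ∀ x : Fin d → ℂ, ρ g x = x → x = 0) :
    ¬ 8 ∣ d ∧ (Nat.card (centralizer (zpowers s : Set H)) = 6 → d ≤ 2) := by
  haveI : Fact (Nat.Prime 2) := ⟨Nat.prime_two⟩
  set L := centralizer (zpowers s : Set H) with hL
  set N := normalizer (zpowers s : Set H) with hN
  have hLN : L ≤ N := centralizer_le_normalizer _
  have hsL : s ∈ L := mem_centralizer_zpowers.2 (Commute.refl s)
  have hNL : ∀ g ∈ N, ∀ x ∈ L, g * x * g⁻¹ ∈ L := by
    intro g hg x hx
    refine mem_centralizer_zpowers.2 ?_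
    obtain ⟨i, hi⟩ := mem_zpowers_iff.1 ((mem_normalizer_iff''.1 hg s).1 (mem_zpowers s))
    have h := commute_conj ((mem_centralizer_zpowers.1 hx).zpow_right i) g
    rwa [hi, show g * (g⁻¹ * s * g) * g⁻¹ = s by group] at h
  set Z := L ⊓ centralizer (L : Set H) with hZ
  set S := {F : Subgroup H | F ≤ L ∧ s ∈ F ∧ IsMulCommutative F ∧ N ≤ normalizer (F : Set H)}
  obtain ⟨F, ⟨hFL, hsF, hFc, hFn⟩, hmax⟩ := (Set.toFinite S).exists_maximal ⟨zpowers s,
    Subgroup.zpowers_le.2 hsL, mem_zpowers s, inferInstance, le_rfl⟩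
  have hgrow : ∀ A : Subgroup H, F ≤ A → A ≤ L → (∀ x ∈ A, ∀ y ∈ A, x * y = y * x) →
      (∀ g ∈ N, ∀ x ∈ A, g * x * g⁻¹ ∈ A) → A ≤ F := fun A hFA hAL hAc hAn =>
    hmax ⟨hAL, hFA hsF, ⟨⟨fun x y => Subtype.ext (hAc x x.2 y y.2)⟩⟩, le_normalizer_of_conj_mem hAn⟩ hFA
  have hconjF : ∀ g ∈ N, ∀ x ∈ F, g * x * g⁻¹ ∈ F := fun g hg x hx =>
    (mem_normalizer_iff.1 (hFn hg) x).1 hx
  have hZn : ∀ g ∈ N, ∀ x ∈ Z, g * x * g⁻¹ ∈ Z := by
    rintro g hg x ⟨hx, hx'⟩
    refine ⟨hNL g hg x hx, mem_centralizer_iff.2 fun y hy => ?_⟩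
    have hy' := hNL g⁻¹ (inv_mem hg) y hy
    rw [inv_inv] at hy'
    have h := commute_conj (show Commute (g⁻¹ * y * g) x from mem_centralizer_iff.1 hx' _ hy') g
    rwa [show g * (g⁻¹ * y * g) * g⁻¹ = y by group] at h
  have hZF : Z ≤ F := by
    refine le_sup_right.trans (hgrow (F ⊔ Z) le_sup_left (sup_le hFL inf_le_left) ?_ ?_)
    · have : IsMulCommutative (F ⊔ Z : Subgroup H) := by
        rw [← le_centralizer_iff_isMulCommutative]
        refine sup_le ?_ ?_ <;> rw [le_centralizer_iff, sup_le_iff]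
        · exact ⟨le_centralizer F, fun x hx y hy => (mem_centralizer_iff.1 hx.2 y (hFL hy))⟩
        · refine ⟨fun x hx y hy => (mem_centralizer_iff.1 hy.2 x (hFL hx)).symm, fun x hx y hy => ?_⟩
          exact mem_centralizer_iff.1 hx.2 y hy.1
      exact fun x hx y hy => setLike_mul_comm hx hy
    · intro g hg x hx
      have hmap : (F ⊔ Z).map (MulAut.conj g).toMonoidHom ≤ F ⊔ Z := by
        rw [Subgroup.map_sup]
        refine sup_le_sup ?_ ?_
        · rintro _ ⟨y, hy, rfl⟩; exact hconjF g hg y hy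
        · rintro _ ⟨y, hy, rfl⟩; exact hZn g hg y hy
      exact hmap ⟨x, hx, rfl⟩
  haveI := hFc
  haveI : IsCyclic F := hH.fpf.isCyclic_of_comm fun x hx y hy => setLike_mul_comm hx hy
  have hC : centralizer (F : Set H) ⊓ N ≤ F := by
    by_contra hne
    set K := L ⊓ centralizer (F : Set H) with hK
    have hKeq : centralizer (F : Set H) ⊓ N ≤ K := fun x hx =>
      ⟨mem_centralizer_zpowers.2 ((mem_centralizer_iff.1 hx.1 s hsF).symm), hx.1⟩
    haveI : Group.IsSolvable K := hH.fpf.isSolvable_of_small (hsmall.mono inf_le_left)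
    -- derived subgroups of `K`, as subgroups of `H`
    set D : ℕ → Subgroup H := fun n => (derivedSeries K n).map K.subtype with hD
    obtain ⟨n₀, hn₀⟩ := (Group.IsSolvable.solvable : ∃ n, derivedSeries K n = ⊥)
    have hex : ∃ n, D n ≤ F := ⟨n₀, by simp [hD, hn₀]⟩
    classical
    have hfind := Nat.find_spec hex
    have hpos : Nat.find hex ≠ 0 := by
      intro h0
      rw [h0] at hfind
      refine hne (hKeq.trans ?_)
      simpa [hD, ← MonoidHom.range_eq_map] using hfind
    obtain ⟨n, hn⟩ := Nat.exists_eq_succ_of_ne_zero hpos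
    rw [hn] at hfind
    have hnot : ¬ D n ≤ F := Nat.find_min hex (by omega)
    have hKn : ∀ g ∈ N, ∀ x ∈ K, g * x * g⁻¹ ∈ K := by
      rintro g hg x ⟨hx, hx'⟩
      refine ⟨hNL g hg x hx, mem_centralizer_iff.2 fun y hy => ?_⟩
      have hy' : g⁻¹ * y * g ∈ F := by simpa using hconjF g⁻¹ (inv_mem hg) y hy
      have h := commute_conj (show Commute (g⁻¹ * y * g) x from mem_centralizer_iff.1 hx' _ hy') g
      rwa [show g * (g⁻¹ * y * g) * g⁻¹ = y by group] at h
    have hDn : ∀ m, ∀ g ∈ N, ∀ x ∈ D m, g * x * g⁻¹ ∈ D m := by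
      intro m g hg
      suffices h : (D m).map (MulAut.conj g).toMonoidHom ≤ D m from fun x hx => h ⟨x, hx, rfl⟩
      induction m with
      | zero =>
        simp only [hD, derivedSeries_zero, ← MonoidHom.range_eq_map, K.range_subtype]
        rintro _ ⟨y, hy, rfl⟩; exact hKn g hg y hy
      | succ m ih =>
        simp only [hD, derivedSeries_succ, map_commutator] at ih ⊢
        exact commutator_mono ih ih
    set A := D n ⊔ F with hA
    have hAK : A ≤ K := sup_le (map_subtype_le _) (le_inf hFL (le_centralizer F))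
    have hAc' : ⁅A, A⁆ ≤ F := by
      have hnorm : ∀ x ∈ A, ∀ f ∈ F, Commute x f := fun x hx f hf =>
        (mem_centralizer_iff.1 (hAK hx).2 f hf).symm
      have hDcomm : ∀ x ∈ D n, ∀ f ∈ F, Commute x f := fun x hx =>
        hnorm x (le_sup_left (b := F) hx)
      have hAelem : ∀ x ∈ A, ∃ d ∈ D n, ∃ f ∈ F, x = d * f := by
        let W : Subgroup H :=
          { carrier := {x | ∃ d ∈ D n, ∃ f ∈ F, x = d * f}
            one_mem' := ⟨1, one_mem _, 1, one_mem _, (one_mul 1).symm⟩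
            mul_mem' := by
              rintro _ _ ⟨d₁, hd₁, f₁, hf₁, rfl⟩ ⟨d₂, hd₂, f₂, hf₂, rfl⟩
              exact ⟨d₁ * d₂, mul_mem hd₁ hd₂, f₁ * f₂, mul_mem hf₁ hf₂,
                ((hDcomm d₂ hd₂ f₁ hf₁).symm.mul_mul_mul_comm d₁ f₂)⟩
            inv_mem' := by
              rintro _ ⟨d₁, hd₁, f₁, hf₁, rfl⟩
              exact ⟨d₁⁻¹, inv_mem hd₁, f₁⁻¹, inv_mem hf₁, by
                rw [mul_inv_rev, (hDcomm d₁⁻¹ (inv_mem hd₁) f₁⁻¹ (inv_mem hf₁)).eq]⟩ }
        have hAW : A ≤ W := sup_le (fun x hx => ⟨x, hx, 1, one_mem _, (mul_one x).symm⟩)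
          (fun x hx => ⟨1, one_mem _, x, hx, (one_mul x).symm⟩)
        exact fun x hx => hAW hx
      rw [commutator_le]
      intro x hx y hy
      obtain ⟨d₁, hd₁, f₁, hf₁, rfl⟩ := hAelem x hx
      obtain ⟨d₂, hd₂, f₂, hf₂, rfl⟩ := hAelem y hy
      have h : ⁅d₁, d₂⁆ ∈ F := hfind (by
        simp only [hD, Nat.succ_eq_add_one, derivedSeries_succ, map_commutator]
        exact commutator_mem_commutator hd₁ hd₂)
      have c1 : Commute d₁ f₂ := hnorm d₁ (le_sup_left (b := F) hd₁) f₂ hf₂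
      have c2 : Commute f₁ d₂ := (hnorm d₂ (le_sup_left (b := F) hd₂) f₁ hf₁).symm
      have c3 : Commute f₁ f₂ := setLike_mul_comm hf₁ hf₂
      have e : ⁅d₁ * f₁, d₂ * f₂⁆ = ⁅d₁, d₂⁆ := by
        simp only [commutatorElement_def]
        calc d₁ * f₁ * (d₂ * f₂) * (d₁ * f₁)⁻¹ * (d₂ * f₂)⁻¹
            = d₁ * (f₁ * d₂) * (f₂ * f₁⁻¹) * d₁⁻¹ * (d₂ * f₂)⁻¹ := by group
          _ = d₁ * (d₂ * f₁) * (f₁⁻¹ * f₂) * d₁⁻¹ * (d₂ * f₂)⁻¹ := by
              rw [c2.eq, (c3.symm.inv_right).eq]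
          _ = d₁ * d₂ * (f₂ * d₁⁻¹) * f₂⁻¹ * d₂⁻¹ := by group
          _ = d₁ * d₂ * (d₁⁻¹ * f₂) * f₂⁻¹ * d₂⁻¹ := by rw [(c1.inv_left).symm.eq]
          _ = d₁ * d₂ * d₁⁻¹ * d₂⁻¹ := by group
      rw [e]; exact h
    have hAab : ∀ x ∈ A, ∀ y ∈ A, x * y = y * x := by
      haveI := hH.fpf.isZGroup (hsmall.mono (hAK.trans inf_le_left))
      have hcen : ∀ g ∈ _root_.commutator A, g ∈ center A := by
        intro g hg
        have hgF : (g : H) ∈ F := hAc' (by
          rw [← map_subtype_commutator]; exact ⟨g, hg, rfl⟩)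
        exact mem_center_iff.2 fun u =>
          Subtype.ext (mem_centralizer_iff.1 (hAK u.2).2 (g : H) hgF).symm
      haveI : Group.IsNilpotent A := by
        refine Group.of_quotient_center_nilpotent ?_
        have hcomm : ∀ p q : A ⧸ center A, p * q = q * p := by
          intro p q
          obtain ⟨p, rfl⟩ := QuotientGroup.mk'_surjective _ p
          obtain ⟨q, rfl⟩ := QuotientGroup.mk'_surjective _ q
          rw [← map_mul, ← map_mul]
          refine (QuotientGroup.eq).2 (hcen _ ?_)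
          rw [show (p * q)⁻¹ * (q * p) = ⁅q⁻¹, p⁻¹⁆ by simp [commutatorElement_def, mul_assoc]]
          exact commutator_mem_commutator (mem_top _) (mem_top _)
        letI : CommGroup (A ⧸ center A) :=
          { (inferInstance : Group (A ⧸ center A)) with mul_comm := hcomm }
        infer_instance
      haveI : IsCyclic A := inferInstance
      intro x hx y hy
      exact congrArg Subtype.val ((IsCyclic.commGroup (α := A)).mul_comm ⟨x, hx⟩ ⟨y, hy⟩)
    apply hnot
    refine le_sup_left.trans (hgrow A le_sup_right (hAK.trans inf_le_left) hAab ?_)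
    intro g hg x hx
    have hmap : A.map (MulAut.conj g).toMonoidHom ≤ A := by
      rw [hA, Subgroup.map_sup]
      refine sup_le_sup ?_ ?_
      · rintro _ ⟨y, hy, rfl⟩; exact hDn n g hg y hy
      · rintro _ ⟨y, hy, rfl⟩; exact hconjF g hg y hy
    exact hmap ⟨x, hx, rfl⟩
  -- the index of `F` is twice an odd number
  have hidxL : (L.subgroupOf N).index = 2 := by
    have h2 := relIndex_centralizer_dvd (show (orderOf s).Prime by rw [hs]; exact Nat.prime_three) N le_rfl
    rw [hs] at h2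
    refine ((Nat.dvd_prime Nat.prime_two).1 h2).resolve_left fun h => ?_
    obtain ⟨g, hg, hgs⟩ := hH.exists_not_commute_three hs
    have hmem : (⟨g, hg⟩ : N) ∈ L.subgroupOf N := by rw [index_eq_one.1 h]; exact mem_top _
    exact hgs (mem_centralizer_zpowers.1 hmem)
  have hFLodd : ¬ 2 ∣ F.relIndex L := by
    intro h2
    set S : Sylow 2 L := default
    have hSF : (S : Subgroup L).map L.subtype ≤ F := by
      rintro _ ⟨u, hu, rfl⟩
      obtain ⟨k, hk⟩ := IsPGroup.iff_orderOf.1 S.2 ⟨u, hu⟩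
      rw [Subgroup.orderOf_mk, ← Subgroup.orderOf_coe] at hk
      exact hZF ⟨u.2, fun x hx => (hcentral u u.2 ⟨k, hk⟩ x hx).eq.symm⟩
    have hdvd : (2 : ℕ) ^ (Nat.card L).factorization 2 ∣ Nat.card F := by
      have := card_dvd_of_le hSF
      rwa [card_map_of_injective L.subtype_injective, Sylow.card_eq_multiplicity] at this
    have hcardL : Nat.card F * F.relIndex L = Nat.card L := by
      have := (F.subgroupOf L).card_mul_index
      rwa [Nat.card_congr (subgroupOfEquivOfLe hFL).toEquiv] at this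
    have h3 : 2 ^ ((Nat.card L).factorization 2 + 1) ∣ Nat.card L := by
      rw [pow_succ, ← hcardL]
      exact mul_dvd_mul (hcardL.symm ▸ hdvd) h2
    exact Nat.pow_succ_factorization_not_dvd Nat.card_pos.ne' Nat.prime_two h3
  have hrel : F.relIndex N = F.relIndex L * 2 := by
    rw [← hidxL]; exact (relIndex_mul_relIndex F L N hFL hLN).symm
  obtain ⟨hd, hd6⟩ := degree_of_order_three ρ hρ F hsF hs hFn hC
  refine ⟨fun h8 => hFLodd ?_, fun h6 => hd6 ?_⟩
  · obtain ⟨k, hk⟩ := h8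
    rcases hd with hd | hd <;> rw [hrel, hk] at hd <;> omega
  · have hz2 : (t ^ a) ^ 2 = 1 := by rw [← pow_mul, mul_comm, ← hQ.orderOf_t, pow_orderOf_eq_one]
    have hzo : orderOf (t ^ a) = 2 := orderOf_eq_prime hz2 hQ.pow_a_ne_one
    have h2 : 2 ∣ Nat.card F := hzo ▸ F.orderOf_dvd_natCard (hZF
      ⟨mem_centralizer_zpowers.2 (hH.fpf.commute_involution hz2 s),
        fun x _ => (hH.fpf.commute_involution hz2 x).eq.symm⟩)
    have h3 : 3 ∣ Nat.card F := hs ▸ F.orderOf_dvd_natCard hsF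
    have := card_dvd_of_le hFL
    rw [h6] at this
    exact Nat.dvd_antisymm this (Nat.Coprime.mul_dvd_of_dvd_of_dvd (by norm_num : Nat.Coprime 2 3) h2 h3)

end CfsgLib.Zassenhaus
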