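import Cfsg.Agent.Lib.Zassenhaus.Structure
import Cfsg.Agent.Lib.Fusion.ThompsonTransfer
import Mathlib.Algebra.BigOperators.Group.Finset.Sigma
import Mathlib.GroupTheory.Index
import Mathlib.GroupTheory.Abelianization.Defs
import Mathlib.Tactic.Ring
import Mathlib.Tactic.Linarith

/-!
Counting elements by the 2-part of their order in a group with a fixed-point-free representation
whose Sylow 2-subgroups are quaternion, and Thompson transfer for perfect groups of this kind.
-/

set_option autoImplicit false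
set_option linter.unusedSectionVars false
set_option linter.style.haveILetI false

open scoped Pointwise
open Subgroup Finset

namespace CfsgLib.Zassenhaus

variable {G : Type*} [Group G]

open Classical in
/-- Summing a class function over the conjugates of a set `S` with normaliser `N` whose
conjugates are disjoint. -/
theorem card_smul_sum_conj [Fintype G] {M : Type*} [AddCommMonoid M] (S : Finset G)
    (N : Subgroup G) (hS : ∀ h ∈ N, ∀ c ∈ S, h * c * h⁻¹ ∈ S)
    (hN : ∀ h : G, ∀ c ∈ S, h * c * h⁻¹ ∈ S → h ∈ N)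
    (f : G → M) (hf : ∀ h c : G, f (h * c * h⁻¹) = f c) :
    Nat.card N • ∑ x ∈ univ.filter (fun x => ∃ h : G, h * x * h⁻¹ ∈ S), f x =
      Nat.card G • ∑ c ∈ S, f c := by
  have h1 : ∑ p ∈ (univ : Finset G) ×ˢ S, f (p.1 * p.2 * p.1⁻¹) = Nat.card G • ∑ c ∈ S, f c := by
    rw [sum_product]
    simp [hf, Nat.card_eq_fintype_card]
  rw [← h1, smul_sum]
  rw [← sum_fiberwise_of_maps_to
    (g := fun p : G × G => p.1 * p.2 * p.1⁻¹)
    (t := univ.filter (fun x => ∃ h : G, h * x * h⁻¹ ∈ S)) (s := univ ×ˢ S)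
    (fun p hp => by
      simp only [mem_product, mem_univ, true_and] at hp
      simp only [mem_filter, mem_univ, true_and]
      exact ⟨p.1⁻¹, by simpa [mul_assoc] using hp⟩)]
  refine Finset.sum_congr rfl fun x hx => ?_
  obtain ⟨h, hh⟩ := (mem_filter.1 hx).2
  have hfib : Nat.card N = ((univ ×ˢ S).filter (fun p : G × G => p.1 * p.2 * p.1⁻¹ = x)).card := by
    rw [Nat.card_eq_fintype_card, ← Finset.card_univ]
    refine Finset.card_bij (fun n _ => (h⁻¹ * (n : G), (n : G)⁻¹ * (h * x * h⁻¹) * n)) ?_ ?_ ?_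
    · intro n _
      simp only [mem_filter, mem_product, mem_univ, true_and]
      exact ⟨by simpa using hS _ (inv_mem n.2) _ hh, by group⟩
    · intro n _ n' _ e
      exact Subtype.ext (mul_left_cancel (congrArg Prod.fst e))
    · rintro ⟨k, c⟩ hp
      simp only [mem_filter, mem_product, mem_univ, true_and] at hp
      have hk : h * k ∈ N := hN _ c hp.1 (by
        rw [show h * k * c * (h * k)⁻¹ = h * (k * c * k⁻¹) * h⁻¹ by group, hp.2]
        exact hh)
      refine ⟨⟨_, hk⟩, mem_univ _, ?_⟩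
      refine Prod.ext (by simp) ?_
      rw [← hp.2]
      show (h * k)⁻¹ * (h * (k * c * k⁻¹) * h⁻¹) * (h * k) = c
      group
  rw [hfib, ← sum_const]
  exact Finset.sum_congr rfl fun p hp => by rw [(mem_filter.1 hp).2]

variable [Finite G]

/-- A 2-subgroup centralising an element of order four is cyclic. -/
theorem HasFpf.isSmall_centralizer_four (hG : HasFpf G) {y : G} (hy : orderOf y = 4) :
    IsSmall (centralizer ({y} : Set G)) := by
  intro P hP h2
  haveI : Fact (Nat.Prime 2) := ⟨Nat.prime_two⟩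
  have hcy : ∀ x ∈ P, Commute x y := fun x hx => (mem_centralizer_singleton_iff.1 (hP hx))
  set P' := P ⊔ zpowers y with hP'
  have hy2 : IsPGroup 2 (zpowers y) := IsPGroup.of_card (n := 2) (by rw [Nat.card_zpowers, hy]; rfl)
  have hnorm : zpowers y ≤ normalizer (P : Set G) := by
    refine le_trans ?_ (Subgroup.centralizer_le_normalizer _)
    rw [Subgroup.zpowers_le]
    exact fun x hx => (hcy x hx).eq
  have h2' : IsPGroup 2 P' := h2.to_sup_of_normal_left' hy2 hnorm
  rcases hG.cyclic_or_quat h2' with h | ⟨-, t, a, hQ⟩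
  · exact isCyclic_of_le (le_sup_left : P ≤ P')
  · exfalso
    have hc : ∀ x ∈ P', Commute y x := by
      intro x hx
      have : P' ≤ centralizer ({y} : Set G) := sup_le hP (Subgroup.zpowers_le.2
        (mem_centralizer_singleton_iff.2 rfl))
      exact (mem_centralizer_singleton_iff.1 (this hx) : x * y = y * x).symm
    have := orderOf_dvd_of_pow_eq_one
      (hQ.sq_eq_one_of_central (le_sup_right (a := P) (mem_zpowers y)) hc)
    rw [hy] at this
    omega

variable {P : Sylow 2 G} {t : G} {a : ℕ}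

theorem IsQuat.even_a {P : Subgroup G} (h : IsQuat P t a) : 2 ∣ a := by
  obtain ⟨k, hk⟩ := h.exists_pow
  rcases k with - | k
  · have := h.two_le; simp [hk] at this
  · exact ⟨2 ^ k, by rw [hk]; ring⟩

theorem IsQuat.orderOf_four {P : Subgroup G} (h : IsQuat P t a) : orderOf (t ^ (a / 2)) = 4 := by
  obtain ⟨j, hj⟩ := h.even_a
  have := h.two_le
  rw [orderOf_pow_of_dvd (by omega) (h.orderOf_t ▸ ⟨4, by omega⟩), h.orderOf_t, hj]
  rw [show 2 * j / 2 = j by omega, show 2 * (2 * j) = 4 * j by ring, Nat.mul_div_cancel _ (by omega)]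

/-- Every element of order four is conjugate into the given quaternion Sylow subgroup. -/
theorem exists_conj_mem (P : Sylow 2 G) {x : G} {k : ℕ} (hx : orderOf x = 2 ^ k) :
    ∃ g : G, g * x * g⁻¹ ∈ (P : Subgroup G) := by
  haveI : Fact (Nat.Prime 2) := ⟨Nat.prime_two⟩
  obtain ⟨Q, hQ⟩ := (IsPGroup.of_card (p := 2) (G := zpowers x) (n := k)
    (by rw [Nat.card_zpowers, hx])).exists_le_sylow
  obtain ⟨g, hg⟩ := MulAction.exists_smul_eq G Q P
  refine ⟨g, ?_⟩
  rw [← hg, Sylow.coe_subgroup_smul]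
  exact ⟨x, hQ (mem_zpowers x), rfl⟩

/-- The centraliser and normaliser of the element of order four. -/
theorem HasFpf.card_centralizer_four (hG : HasFpf G) (hQ : IsQuat (P : Subgroup G) t a)
    (hC : OddClosed (centralizer ({t ^ (a / 2)} : Set G))) :
    Nat.card (centralizer ({t ^ (a / 2)} : Set G)) = Nat.card (oddPart hC) * (2 * a) ∧
      Nat.card (normalizer (zpowers (t ^ (a / 2)) : Set G)) =
        2 * Nat.card (centralizer ({t ^ (a / 2)} : Set G)) := by
  haveI : Fact (Nat.Prime 2) := ⟨Nat.prime_two⟩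
  set y := t ^ (a / 2) with hy
  set C := centralizer ({y} : Set G) with hCdef
  have ho : orderOf y = 4 := hQ.orderOf_four
  obtain ⟨i, hi⟩ := exists_card_eq_oddPart hC
  have htC : zpowers t ≤ C := Subgroup.zpowers_le.2
    (mem_centralizer_singleton_iff.2 (((Commute.refl t).pow_right _).eq))
  have h1 : 2 * a ∣ 2 ^ i := by
    have h := card_dvd_of_le htC
    rw [Nat.card_zpowers, hQ.orderOf_t, hi] at h
    obtain ⟨k, hk⟩ := hQ.exists_pow
    have hcop : (2 * a).Coprime (Nat.card (oddPart hC)) := by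
      rw [hk, ← pow_succ']
      exact (Nat.coprime_two_left.2 (odd_card_oddPart hC)).pow_left _
    exact hcop.dvd_of_dvd_mul_left h
  have h2 : 2 ^ i ∣ 2 * a := by
    obtain ⟨S, hS⟩ := Sylow.exists_subgroup_card_pow_prime (G := C) 2 (n := i)
      (Dvd.intro_left _ hi.symm)
    have hSp : IsPGroup 2 (S.map C.subtype) :=
      IsPGroup.of_card (n := i) (by rw [Subgroup.card_map_of_injective C.subtype_injective, hS])
    haveI := hG.isSmall_centralizer_four ho _ (map_subtype_le _) hSp
    obtain ⟨x, hx⟩ := IsCyclic.exists_ofOrder_eq_natCard (α := S.map C.subtype)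
    rw [Subgroup.card_map_of_injective C.subtype_injective, hS, ← Subgroup.orderOf_coe] at hx
    obtain ⟨g, hg⟩ := exists_conj_mem P hx
    have := hQ.orderOf_dvd hg
    rwa [← MulAut.conj_apply, MulEquiv.orderOf_eq, hx] at this
  refine ⟨by rw [hi, Nat.dvd_antisymm h2 h1], ?_⟩
  set N := normalizer (zpowers y : Set G)
  have hCN : C ≤ N := by
    intro c hc
    have hcy : Commute c y := mem_centralizer_singleton_iff.1 hc
    rw [mem_normalizer_iff]
    intro x
    constructor
    · rintro ⟨j, rfl⟩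
      refine ⟨j, ?_⟩
      change y ^ j = c * y ^ j * c⁻¹
      rw [(hcy.zpow_right j).eq, mul_inv_cancel_right]
    · rintro ⟨j, hj⟩
      refine ⟨j, ?_⟩
      change y ^ j = x
      change y ^ j = c * x * c⁻¹ at hj
      rw [← mul_left_inj c⁻¹, ← mul_right_inj c, ← mul_assoc, ← mul_assoc, ← hj,
        (hcy.zpow_right j).eq, mul_inv_cancel_right]
  obtain ⟨b, hb, hbt⟩ := hQ.exists_outer
  have hby : b * y * b⁻¹ = y⁻¹ := hQ.outer_conj hb hbt (pow_mem (mem_zpowers t) _)
  have hpm : ∀ n ∈ N, n * y * n⁻¹ = y ∨ n * y * n⁻¹ = y⁻¹ := by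
    intro n hn
    have hz := (mem_normalizer_iff.1 hn y).1 (mem_zpowers y)
    have ho' : orderOf (n * y * n⁻¹) = 4 := by rw [← MulAut.conj_apply, MulEquiv.orderOf_eq, ho]
    obtain ⟨j, hj⟩ := (mem_powers_iff_mem_zpowers (x := y)).2 hz
    have hj' : y ^ (j % 4) = n * y * n⁻¹ := by rw [← ho, pow_mod_orderOf]; exact hj
    have : j % 4 < 4 := Nat.mod_lt _ (by norm_num)
    interval_cases h : j % 4
    · rw [← hj', pow_zero, orderOf_one] at ho'; omega
    · left; rw [← hj', pow_one]
    · exfalso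
      rw [← hj', orderOf_pow' _ (by norm_num), ho] at ho'
      norm_num at ho'
    · right
      rw [← hj', eq_inv_iff_mul_eq_one, ← pow_succ, show 3 + 1 = orderOf y from ho.symm,
        pow_orderOf_eq_one]
  have hbN : b ∈ N := by
    rw [mem_normalizer_iff]
    intro x
    constructor
    · rintro ⟨j, rfl⟩
      refine ⟨-j, ?_⟩
      change y ^ (-j) = b * y ^ j * b⁻¹
      rw [← conj_zpow, hby, inv_zpow, zpow_neg]
    · rintro ⟨j, hj⟩
      refine ⟨-j, ?_⟩
      change y ^ (-j) = x
      change y ^ j = b * x * b⁻¹ at hj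
      rw [show x = b⁻¹ * (b * x * b⁻¹) * b by group, ← hj,
        show y ^ j = b * y ^ (-j) * b⁻¹ by rw [← conj_zpow, hby, inv_zpow', neg_neg]]
      group
  have hidx : (C.subgroupOf N).index = 2 := by
    rw [index_eq_two_iff]
    refine ⟨⟨b, hbN⟩, fun n => ?_⟩
    have hmem : ∀ m : G, m ∈ C ↔ m * y * m⁻¹ = y := fun m => by
      rw [hCdef, mem_centralizer_singleton_iff, mul_inv_eq_iff_eq_mul]
    have hyne : y⁻¹ ≠ y := by
      intro e
      have : y ^ 2 = 1 := by rw [pow_two]; nth_rw 1 [← e]; exact inv_mul_cancel y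
      have := Nat.le_of_dvd (by norm_num) (orderOf_dvd_of_pow_eq_one this)
      omega
    have hnb : ((n : G) * b) * y * ((n : G) * b)⁻¹ = ((n : G) * y * (n : G)⁻¹)⁻¹ := by
      rw [show ((n : G) * b) * y * ((n : G) * b)⁻¹ = n * (b * y * b⁻¹) * (n : G)⁻¹ by group, hby,
        ← conj_inv]
    simp only [mem_subgroupOf, Subgroup.coe_mul, hmem, hnb]
    rcases hpm n n.2 with h | h
    · exact Or.inr ⟨h, by rw [h]; exact hyne⟩
    · exact Or.inl ⟨by rw [h, inv_inv], by rw [h]; exact hyne⟩
  have := (C.subgroupOf N).card_mul_index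
  rw [hidx, Nat.card_congr (subgroupOfEquivOfLe hCN).toEquiv] at this
  rw [← this, mul_comm]

/-- The number of elements whose order is divisible by four. -/
theorem HasFpf.card_four (hG : HasFpf G) (hQ : IsQuat (P : Subgroup G) t a)
    (hconj : ∀ x y : G, orderOf x = 4 → orderOf y = 4 → ∃ g : G, g * x * g⁻¹ = y) :
    2 * a * Nat.card {x : G // 4 ∣ orderOf x} + Nat.card G = a * Nat.card G := by
  classical
  haveI : Fintype G := Fintype.ofFinite G
  set y := t ^ (a / 2) with hy
  have ho : orderOf y = 4 := hQ.orderOf_four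
  have hC := hG.oddClosed_of_small (hG.isSmall_centralizer_four ho)
  obtain ⟨hcC, hcN⟩ := hG.card_centralizer_four hQ hC
  set C := centralizer ({y} : Set G) with hCdef
  set S := univ.filter (fun c : G => c ∈ C ∧ 4 ∣ orderOf c) with hSdef
  have hSC : ∀ c, c ∈ S ↔ c ∈ C ∧ 4 ∣ orderOf c := fun c => by simp [hSdef]
  have hord : ∀ h c : G, orderOf (h * c * h⁻¹) = orderOf c := fun h c => by
    rw [← MulAut.conj_apply, MulEquiv.orderOf_eq]
  -- the element of order four in the cyclic group of `c`
  have hyc : ∀ c ∈ S, y ∈ zpowers c := fun c hc => by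
    obtain ⟨hcC, h4⟩ := (hSC c).1 hc
    exact hG.mem_zpowers_of_commute (mem_centralizer_singleton_iff.1 hcC) (ho ▸ h4)
  have h1 := card_smul_sum_conj S (normalizer (zpowers y : Set G))
    (by
      intro h hh c hc
      obtain ⟨hcC, h4⟩ := (hSC c).1 hc
      refine (hSC _).2 ⟨?_, by rwa [hord]⟩
      have hcy : Commute c y := mem_centralizer_singleton_iff.1 hcC
      obtain ⟨j, hj⟩ := mem_zpowers_iff.1 ((mem_normalizer_iff''.1 hh y).1 (mem_zpowers y))
      refine mem_centralizer_singleton_iff.2 ?_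
      have h2 : Commute c (h⁻¹ * y * h) := hj ▸ hcy.zpow_right j
      calc h * c * h⁻¹ * y = h * (c * (h⁻¹ * y * h)) * h⁻¹ := by group
        _ = h * ((h⁻¹ * y * h) * c) * h⁻¹ := by rw [h2.eq]
        _ = y * (h * c * h⁻¹) := by group)
    (by
      intro h c hc hc'
      have h1 : h * y * h⁻¹ ∈ zpowers (h * c * h⁻¹) := by
        obtain ⟨j, hj⟩ := mem_zpowers_iff.1 (hyc c hc)
        exact ⟨j, by change (h * c * h⁻¹) ^ j = _; rw [conj_zpow, hj]⟩
      have h2 := hyc _ hc'
      have hcm : Commute (h * y * h⁻¹) y := by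
        obtain ⟨i, hi⟩ := mem_zpowers_iff.1 h1
        obtain ⟨j, hj⟩ := mem_zpowers_iff.1 h2
        have := (Commute.refl (h * c * h⁻¹)).zpow_zpow i j
        rwa [hi, hj] at this
      have heq := hG.zpowers_eq_of_commute hcm (ho.trans (hord h y ▸ ho).symm)
      rw [mem_normalizer_iff]
      intro x
      constructor
      · rintro ⟨j, rfl⟩
        change h * y ^ j * h⁻¹ ∈ zpowers y
        rw [← conj_zpow, heq]
        exact zpow_mem (mem_zpowers _) _
      · intro hx
        rw [heq] at hx
        obtain ⟨j, hj⟩ := mem_zpowers_iff.1 hx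
        refine ⟨j, ?_⟩
        change y ^ j = x
        rw [conj_zpow] at hj
        exact mul_left_cancel (mul_right_cancel hj))
    (fun _ => (1 : ℕ)) (fun _ _ => rfl)
  rw [sum_const, sum_const, smul_eq_mul, smul_eq_mul, smul_eq_mul, smul_eq_mul, mul_one, mul_one] at h1
  have hΩ : (univ.filter (fun x : G => ∃ h : G, h * x * h⁻¹ ∈ S)).card =
      Nat.card {x : G // 4 ∣ orderOf x} := by
    rw [Nat.card_eq_fintype_card, Fintype.card_subtype]
    congr 1
    ext x
    simp only [mem_filter, mem_univ, true_and]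
    constructor
    · rintro ⟨h, hh⟩
      exact hord h x ▸ ((hSC _).1 hh).2
    · intro h4
      have h4' : orderOf (x ^ (orderOf x / 4)) = 4 :=
        orderOf_pow_orderOf_div (orderOf_pos x).ne' h4
      obtain ⟨g, hg⟩ := hconj _ y h4' ho
      refine ⟨g, (hSC _).2 ⟨mem_centralizer_singleton_iff.2 ?_, by rwa [hord]⟩⟩
      rw [← hg, ← conj_pow]
      exact ((Commute.refl (g * x * g⁻¹)).pow_right _).eq
  have hS : S.card + 2 * Nat.card (oddPart hC) = Nat.card C := by
    have hsplit := Finset.card_filter_add_card_filter_not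
      (s := univ.filter (fun c : G => c ∈ C)) (fun c => 4 ∣ orderOf c)
    rw [filter_filter, filter_filter] at hsplit
    rw [Nat.card_eq_fintype_card (α := C), Fintype.card_subtype, ← hsplit, ← hSdef]
    congr 1
    set z := t ^ a with hz
    have hz1 : z ≠ 1 := hQ.pow_a_ne_one
    have hz2 : z ^ 2 = 1 := by rw [hz, ← pow_mul, mul_comm, ← hQ.orderOf_t, pow_orderOf_eq_one]
    have hzC : z ∈ C := mem_centralizer_singleton_iff.2 (hG.commute_involution hz2 y).eq
    have hzo : orderOf z = 2 := orderOf_eq_prime hz2 hz1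
    rw [Nat.card_eq_fintype_card, Fintype.card_subtype, two_mul]
    rw [show ({c | c ∈ C ∧ ¬4 ∣ orderOf c} : Finset G) =
      (univ.filter (fun c => c ∈ oddPart hC)) ∪
        (univ.filter (fun c => c ∈ oddPart hC)).image (fun c => c * z) from ?_]
    · rw [card_union_of_disjoint, card_image_of_injective _ (mul_left_injective z)]
      rw [Finset.disjoint_left]
      intro c hc hc'
      simp only [mem_filter, mem_univ, true_and, mem_image] at hc hc'
      obtain ⟨d, hd, rfl⟩ := hc'
      have : z ∈ oddPart hC := by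
        have := mul_mem (inv_mem hd) hc
        rwa [inv_mul_cancel_left] at this
      have := this.2
      rw [hzo] at this
      exact absurd this (by decide)
    · ext c
      simp only [mem_filter, mem_univ, true_and, Finset.mem_union, mem_image, mem_oddPart]
      constructor
      · rintro ⟨hc, h4⟩
        by_cases hodd : Odd (orderOf c)
        · exact Or.inl ⟨hc, hodd⟩
        · rw [Nat.not_odd_iff_even, even_iff_two_dvd] at hodd
          obtain ⟨m, hm⟩ := hodd
          have hmodd : Odd m := by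
            rw [← Nat.not_even_iff_odd, even_iff_two_dvd]
            rintro ⟨j, rfl⟩
            exact h4 ⟨j, by rw [hm]; ring⟩
          refine Or.inr ⟨c * z, ⟨C.mul_mem hc hzC, ?_⟩, ?_⟩
          · have hcm : c ^ m = z := hG.involution_unique
              (by rw [← pow_mul, mul_comm, ← hm, pow_orderOf_eq_one])
              (pow_ne_one_of_lt_orderOf (by rintro rfl; exact absurd hmodd (by simp)) (by
                have := orderOf_pos c; omega)) hz2 hz1
            refine hmodd.of_dvd_nat (orderOf_dvd_of_pow_eq_one ?_)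
            rw [(hG.commute_involution hz2 c).symm.mul_pow, hcm]
            obtain ⟨j, rfl⟩ := hmodd
            rw [pow_succ, pow_mul, hz2, one_pow, one_mul, ← pow_two, hz2]
          · rw [mul_assoc, ← pow_two, hz2, mul_one]
      · rintro (⟨hc, hodd⟩ | ⟨d, ⟨hd, hdodd⟩, rfl⟩)
        · exact ⟨hc, fun h4 => absurd (hodd.of_dvd_nat h4) (by decide)⟩
        · refine ⟨C.mul_mem hd hzC, fun h4 => ?_⟩
          have h := h4.trans (hG.commute_involution hz2 d).symm.orderOf_mul_dvd_mul_orderOf
          rw [hzo] at h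
          obtain ⟨j, hj⟩ := hdodd
          obtain ⟨l, hl⟩ := h
          omega
  rw [hΩ] at h1
  have hpos : 0 < Nat.card (oddPart hC) := Nat.card_pos
  have ha2 := hQ.two_le
  rw [hcN, hcC] at h1
  rw [hcC] at hS
  refine Nat.eq_of_mul_eq_mul_left (show 0 < 2 * Nat.card (oddPart hC) by omega) ?_
  nlinarith [h1, hS]

/-- The number of elements of odd order. -/
theorem HasFpf.card_odd (hG : HasFpf G) (hQ : IsQuat (P : Subgroup G) t a)
    (hconj : ∀ x y : G, orderOf x = 4 → orderOf y = 4 → ∃ g : G, g * x * g⁻¹ = y) :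
    4 * a * Nat.card {x : G // Odd (orderOf x)} = Nat.card G * (a + 1) := by
  classical
  haveI : Fintype G := Fintype.ofFinite G
  have h4 := hG.card_four hQ hconj
  set z := t ^ a with hz
  have hz1 : z ≠ 1 := hQ.pow_a_ne_one
  have hz2 : z ^ 2 = 1 := by rw [hz, ← pow_mul, mul_comm, ← hQ.orderOf_t, pow_orderOf_eq_one]
  have hzo : orderOf z = 2 := orderOf_eq_prime hz2 hz1
  let e : {x : G // Odd (orderOf x)} ⊕ {x : G // Odd (orderOf x)} ⊕ {x : G // 4 ∣ orderOf x} → G :=
    Sum.elim (fun x => x.1) (Sum.elim (fun x => x.1 * z) (fun x => x.1))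
  have heven : ∀ x : G, Odd (orderOf x) → orderOf (x * z) = 2 * orderOf x := by
    intro x hx
    rw [(hG.commute_involution hz2 x).symm.orderOf_mul_eq_mul_orderOf_of_coprime
      (by rw [hzo]; exact Nat.coprime_two_right.2 hx), hzo, mul_comm]
  have hbij : Function.Bijective e := by
    constructor
    · rintro (⟨x, hx⟩ | ⟨x, hx⟩ | ⟨x, hx⟩) (⟨x', hx'⟩ | ⟨x', hx'⟩ | ⟨x', hx'⟩) he <;>
        simp only [e, Sum.elim_inl, Sum.elim_inr] at he
      all_goals first
        | (subst he; rfl)
        | (obtain rfl := mul_right_cancel he; rfl)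
        | (exfalso
           have h := congrArg orderOf he
           obtain ⟨j, hj⟩ := id hx
           obtain ⟨l, hl⟩ := id hx'
           try simp only [heven, hx, hx'] at h
           omega)
    · intro x
      by_cases hodd : Odd (orderOf x)
      · exact ⟨Sum.inl ⟨x, hodd⟩, rfl⟩
      by_cases h4x : 4 ∣ orderOf x
      · exact ⟨Sum.inr (Sum.inr ⟨x, h4x⟩), rfl⟩
      rw [Nat.not_odd_iff_even, even_iff_two_dvd] at hodd
      obtain ⟨m, hm⟩ := hodd
      have hmodd : Odd m := by
        rw [← Nat.not_even_iff_odd, even_iff_two_dvd]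
        rintro ⟨j, rfl⟩
        exact h4x ⟨j, by rw [hm]; ring⟩
      have hxm : x ^ m = z := hG.involution_unique
        (by rw [← pow_mul, mul_comm, ← hm, pow_orderOf_eq_one])
        (pow_ne_one_of_lt_orderOf (by rintro rfl; exact absurd hmodd (by simp)) (by
          have := orderOf_pos x; omega)) hz2 hz1
      refine ⟨Sum.inr (Sum.inl ⟨x * z, hmodd.of_dvd_nat (orderOf_dvd_of_pow_eq_one ?_)⟩), ?_⟩
      · rw [(hG.commute_involution hz2 x).symm.mul_pow, hxm]
        obtain ⟨j, rfl⟩ := hmodd
        rw [pow_succ, pow_mul, hz2, one_pow, one_mul, ← pow_two, hz2]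
      · simp [e, mul_assoc, ← pow_two, hz2]
  have hcard := Nat.card_eq_of_bijective e hbij
  rw [Nat.card_sum, Nat.card_sum] at hcard
  set n := Nat.card {x : G // Odd (orderOf x)}
  set X := Nat.card {x : G // 4 ∣ orderOf x}
  rw [← hcard] at h4 ⊢
  nlinarith [h4]

/-- In a perfect group the elements of order four are conjugate. -/
theorem HasFpf.conj_four_of_perfect (hG : HasFpf G) (hperf : _root_.commutator G = ⊤)
    (hQ : IsQuat (P : Subgroup G) t a) :
    ∀ x y : G, orderOf x = 4 → orderOf y = 4 → ∃ g : G, g * x * g⁻¹ = y := by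
  haveI : Fact (Nat.Prime 2) := ⟨Nat.prime_two⟩
  set y₀ := t ^ (a / 2) with hy₀
  have ho : orderOf y₀ = 4 := hQ.orderOf_four
  have hz2 : (t ^ a) ^ 2 = 1 := by rw [← pow_mul, mul_comm, ← hQ.orderOf_t, pow_orderOf_eq_one]
  set Z := zpowers (t ^ a) with hZ
  haveI : Z.Normal := ⟨fun n hn g => by
    obtain ⟨j, rfl⟩ := mem_zpowers_iff.1 hn
    rw [((hG.commute_involution hz2 g).zpow_left j).symm.eq, mul_inv_cancel_right]
    exact hn⟩
  have hZt : Z ≤ zpowers t := Subgroup.zpowers_le.2 (pow_mem (mem_zpowers t) _)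
  -- elements of order four in the cyclic group
  have hcyc : ∀ u ∈ zpowers t, orderOf u = 4 → u = y₀ ∨ u = y₀⁻¹ := by
    intro u hu hou
    obtain ⟨j, hj⟩ := mem_zpowers_iff.1 hu
    have hmem : u ∈ zpowers y₀ := hG.mem_zpowers_of_commute
      (hj ▸ ((Commute.refl t).pow_left _).zpow_right j) (hou.trans ho.symm).dvd
    obtain ⟨i, hi⟩ := (mem_powers_iff_mem_zpowers (x := y₀)).2 hmem
    have hi' : y₀ ^ (i % 4) = u := by rw [← ho, pow_mod_orderOf]; exact hi
    have : i % 4 < 4 := Nat.mod_lt _ (by norm_num)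
    interval_cases h : i % 4
    · rw [← hi', pow_zero, orderOf_one] at hou; omega
    · left; rw [← hi', pow_one]
    · exfalso
      rw [← hi', orderOf_pow' _ (by norm_num), ho] at hou
      norm_num at hou
    · right; rw [← hi', eq_inv_iff_mul_eq_one, ← pow_succ, show 3 + 1 = orderOf y₀ from ho.symm,
        pow_orderOf_eq_one]
  have hout : ∀ b ∈ (P : Subgroup G), b ∉ zpowers t → ∃ g : G, g * b * g⁻¹ ∈ zpowers t := by
    intro b hb hbt
    by_contra hno
    push Not at hno
    let π := QuotientGroup.mk' Z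
    have hker : π.ker = Z := QuotientGroup.ker_mk' Z
    have hidx : Odd ((P : Subgroup G).map π).index := by
      rw [Subgroup.index_map_eq _ (QuotientGroup.mk'_surjective Z) (by
        rw [hker]; exact hZt.trans hQ.zpowers_le)]
      exact Nat.odd_iff.2 (Nat.two_dvd_ne_zero.1 P.not_dvd_index)
    have hrel : ((zpowers t).map π).relIndex ((P : Subgroup G).map π) = 2 := by
      rw [Subgroup.relIndex_map_map, hker, sup_eq_left.2 hZt,
        sup_eq_left.2 (hZt.trans hQ.zpowers_le)]
      have h := Subgroup.relIndex_mul_relIndex ⊥ (zpowers t) (P : Subgroup G) bot_le hQ.zpowers_le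
      rw [relIndex_bot_left, relIndex_bot_left, Nat.card_zpowers, hQ.orderOf_t, hQ.card] at h
      refine Nat.eq_of_mul_eq_mul_left (show 0 < 2 * a by have := hQ.two_le; omega) ?_
      rw [h]; ring
    obtain ⟨M, hM, hM2, -⟩ := CfsgLib.ThompsonTransfer.exists_normal_index_two _ _ hidx hrel (π b)
      (by
        rw [← map_pow, pow_two, (hQ.outer b hb hbt).1]
        exact (QuotientGroup.eq_one_iff _).2 (mem_zpowers _))
      (fun q hq => by
        obtain ⟨g, rfl⟩ := QuotientGroup.mk'_surjective Z q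
        rw [← map_inv, ← map_mul, ← map_mul, ← Subgroup.mem_comap, Subgroup.comap_map_eq, hker,
          sup_eq_left.2 hZt] at hq
        exact hno g hq)
    haveI := hM
    have hidx2 : (M.comap π).index = 2 := by
      rw [index_comap_of_surjective _ (QuotientGroup.mk'_surjective Z), hM2]
    haveI : (M.comap π).Normal := inferInstance
    have hcomm : _root_.commutator G ≤ M.comap π := by
      rw [_root_.commutator_def, commutator_le]
      intro u _ v _
      have hm : ∀ p q : G, (p * q ∈ M.comap π ↔ (p ∈ M.comap π ↔ q ∈ M.comap π)) := fun p q =>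
        mul_mem_iff_of_index_two hidx2
      have hinv : ∀ p : G, p⁻¹ ∈ M.comap π ↔ p ∈ M.comap π := fun p => inv_mem_iff
      rw [commutatorElement_def, hm, hm, hm, hinv, hinv]
      tauto
    rw [hperf, top_le_iff] at hcomm
    rw [hcomm, index_top] at hidx2
    omega
  obtain ⟨b₀, hb₀, hb₀t⟩ := hQ.exists_outer
  have hby : b₀ * y₀ * b₀⁻¹ = y₀⁻¹ := hQ.outer_conj hb₀ hb₀t (pow_mem (mem_zpowers t) _)
  have hall : ∀ x : G, orderOf x = 4 → ∃ g : G, g * x * g⁻¹ = y₀ := by
    intro x hx
    obtain ⟨g, hg⟩ := exists_conj_mem P (x := x) (k := 2) hx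
    have hconj : ∀ u : G, orderOf u = 4 → u ∈ zpowers t → ∃ h : G, h * u * h⁻¹ = y₀ := by
      intro u hou hut
      rcases hcyc u hut hou with rfl | rfl
      · exact ⟨1, by simp⟩
      · exact ⟨b₀, by rw [← conj_inv, hby, inv_inv]⟩
    have hgo : orderOf (g * x * g⁻¹) = 4 := by rw [← MulAut.conj_apply, MulEquiv.orderOf_eq, hx]
    by_cases hgt : g * x * g⁻¹ ∈ zpowers t
    · obtain ⟨h, hh⟩ := hconj _ hgo hgt
      exact ⟨h * g, by rw [← hh]; group⟩
    · obtain ⟨k, hk⟩ := hout _ hg hgt
      obtain ⟨h, hh⟩ := hconj _ (by rw [← MulAut.conj_apply, MulEquiv.orderOf_eq, hgo]) hk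
      exact ⟨h * k * g, by rw [← hh]; group⟩
  intro x y hx hy
  obtain ⟨g, hg⟩ := hall x hx
  obtain ⟨h, hh⟩ := hall y hy
  exact ⟨h⁻¹ * g, by
    rw [show h⁻¹ * g * x * (h⁻¹ * g)⁻¹ = h⁻¹ * (g * x * g⁻¹) * h by group, hg, ← hh]; group⟩

end CfsgLib.Zassenhaus
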