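import Mathlib.RepresentationTheory.Basic
import Mathlib.LinearAlgebra.Eigenspace.Triangularizable
import Mathlib.LinearAlgebra.FiniteDimensional.Lemmas
import Mathlib.Analysis.Complex.Polynomial.Basic
import Mathlib.RingTheory.RootsOfUnity.PrimitiveRoots
import Mathlib.GroupTheory.OrderOfElement
import Mathlib.GroupTheory.Exponent
import Mathlib.GroupTheory.SpecificGroups.Cyclic

/-!
Finite groups with a fixed-point-free complex representation: the elementary consequences.
-/

set_option autoImplicit false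

namespace CfsgLib.Zassenhaus

open Module Module.End

/-- `G` has a nonzero complex representation without nontrivial fixed vectors. -/
def HasFpf (G : Type*) [Group G] : Prop :=
  ∃ (d : ℕ) (ρ : Representation ℂ G (Fin d → ℂ)), 0 < d ∧
    ∀ g : G, g ≠ 1 → ∀ v : Fin d → ℂ, ρ g v = v → v = 0

variable {G : Type*} [Group G]

theorem HasFpf.of_injective (hG : HasFpf G) {K : Type*} [Group K] (f : K →* G)
    (hf : Function.Injective f) : HasFpf K := by
  obtain ⟨d, ρ, hd, h⟩ := hG
  exact ⟨d, ρ.comp f, hd, fun g hg => h (f g) fun e => hg (hf (by simpa using e))⟩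

theorem HasFpf.subgroup (hG : HasFpf G) (K : Subgroup G) : HasFpf K :=
  hG.of_injective K.subtype K.subtype_injective

section Rep

variable {d : ℕ} (ρ : Representation ℂ G (Fin d → ℂ))
  (hρ : ∀ g : G, g ≠ 1 → ∀ v : Fin d → ℂ, ρ g v = v → v = 0)

include hρ

theorem eq_of_apply_eq {g h : G} {v : Fin d → ℂ} (hv : v ≠ 0) (he : ρ g v = ρ h v) : g = h := by
  by_contra hne
  refine hv (hρ (h⁻¹ * g) (fun e => hne ((inv_mul_eq_one.1 e).symm)) v ?_)
  rw [map_mul, Module.End.mul_apply, he, ρ.inv_self_apply]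

/-- A fixed-point-free involution acts as `-1`. -/
theorem involution_apply {t : G} (ht : t ^ 2 = 1) (h1 : t ≠ 1) (v : Fin d → ℂ) : ρ t v = -v := by
  have h : v + ρ t v = 0 := hρ t h1 _ (by
    rw [map_add, ← Module.End.mul_apply, ← map_mul, ← pow_two, ht, map_one, Module.End.one_apply,
      add_comm])
  exact eq_neg_of_add_eq_zero_right h

end Rep

theorem HasFpf.involution_unique (hG : HasFpf G) {s t : G} (hs : s ^ 2 = 1) (hs1 : s ≠ 1)
    (ht : t ^ 2 = 1) (ht1 : t ≠ 1) : s = t := by
  obtain ⟨d, ρ, hd, h⟩ := hG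
  have hv : (Pi.single (M := fun _ : Fin d => ℂ) (⟨0, hd⟩ : Fin d) (1 : ℂ)) ≠ 0 := by
    intro e
    simpa using congrFun e ⟨0, hd⟩
  exact eq_of_apply_eq ρ h hv (by rw [involution_apply ρ h hs hs1, involution_apply ρ h ht ht1])

theorem HasFpf.commute_involution (hG : HasFpf G) {t : G} (ht : t ^ 2 = 1) (g : G) :
    Commute t g := by
  by_cases h1 : t = 1
  · rw [h1]; exact Commute.one_left g
  have h := hG.involution_unique (s := g * t * g⁻¹) (t := t) (by rw [conj_pow, ht, mul_one,
    mul_inv_cancel]) (by rwa [Ne, conj_eq_one_iff]) ht h1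
  exact (mul_inv_eq_iff_eq_mul.1 h).symm

set_option linter.unusedSectionVars false

variable [Finite G]

/-- Commuting elements lie in a common cyclic subgroup: if `x` and `y` commute and the order of
`y` divides that of `x`, then `y` is a power of `x`. -/
theorem HasFpf.mem_zpowers_of_commute (hG : HasFpf G) {x y : G} (hc : Commute x y)
    (hd : orderOf y ∣ orderOf x) : y ∈ Subgroup.zpowers x := by
  obtain ⟨d, ρ, hd0, h⟩ := hG
  have : NeZero d := ⟨hd0.ne'⟩
  obtain ⟨lam, hlam⟩ := exists_eigenvalue (ρ x)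
  obtain ⟨mu, hmu⟩ : ∃ mu : ℂ, ∃ w : Fin d → ℂ, w ≠ 0 ∧ ρ x w = lam • w ∧ ρ y w = mu • w := by
    set W := Module.End.eigenspace (ρ x) lam with hW
    have hmem : ∀ w ∈ W, ρ y w ∈ W := by
      intro w hw
      rw [hW, mem_eigenspace_iff] at hw ⊢
      rw [← Module.End.mul_apply, ← map_mul, hc.eq, map_mul, Module.End.mul_apply, hw, map_smul]
    have : Nontrivial W := Submodule.nontrivial_iff_ne_bot.2 hlam
    obtain ⟨mu, hmu⟩ := exists_eigenvalue (LinearMap.restrict (ρ y) hmem)
    obtain ⟨⟨w, hwW⟩, hw⟩ := hmu.exists_hasEigenvector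
    refine ⟨mu, w, fun e => hw.2 (Subtype.ext e), mem_eigenspace_iff.1 hwW, ?_⟩
    exact congrArg Subtype.val hw.apply_eq_smul
  obtain ⟨w, hw0, hxw, hyw⟩ := hmu
  have hpow : ∀ (g : G) (c : ℂ), ρ g w = c • w → ∀ k : ℕ, ρ (g ^ k) w = c ^ k • w := by
    intro g c hg k
    induction k with
    | zero => simp
    | succ k ih => rw [pow_succ', map_mul, Module.End.mul_apply, ih, map_smul, hg, smul_smul, pow_succ]
  have hiff : ∀ k : ℕ, lam ^ k = 1 ↔ x ^ k = 1 := by
    intro k
    constructor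
    · intro hk
      refine eq_of_apply_eq ρ h hw0 ?_
      rw [hpow x lam hxw k, hk, one_smul, map_one, Module.End.one_apply]
    · intro hk
      have := hpow x lam hxw k
      rw [hk, map_one, Module.End.one_apply] at this
      exact (smul_left_injective ℂ hw0 (show (1 : ℂ) • w = lam ^ k • w by rw [one_smul]; exact this)).symm
  have hprim : IsPrimitiveRoot lam (orderOf x) :=
    ⟨(hiff _).2 (pow_orderOf_eq_one x), fun l hl => orderOf_dvd_of_pow_eq_one ((hiff l).1 hl)⟩
  have hmu1 : mu ^ orderOf x = 1 := by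
    obtain ⟨k, hk⟩ := hd
    have := hpow y mu hyw (orderOf x)
    rw [hk, pow_mul y, pow_orderOf_eq_one, one_pow, map_one, Module.End.one_apply, ← hk] at this
    exact (smul_left_injective ℂ hw0 (show (1 : ℂ) • w = _ • w by rw [one_smul]; exact this)).symm
  obtain ⟨i, -, hi⟩ := have : NeZero (orderOf x) := ⟨(orderOf_pos x).ne'⟩; hprim.eq_pow_of_pow_eq_one hmu1
  have : y = x ^ i := eq_of_apply_eq ρ h hw0 (by rw [hyw, hpow x lam hxw i, hi])
  rw [this]
  exact pow_mem (Subgroup.mem_zpowers x) i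

/-- Commuting elements of equal order generate the same subgroup. -/
theorem HasFpf.zpowers_eq_of_commute (hG : HasFpf G) {x y : G} (hc : Commute x y)
    (hd : orderOf y = orderOf x) : Subgroup.zpowers y = Subgroup.zpowers x :=
  le_antisymm (Subgroup.zpowers_le.2 (hG.mem_zpowers_of_commute hc hd.dvd))
    (Subgroup.zpowers_le.2 (hG.mem_zpowers_of_commute hc.symm hd.symm.dvd))

/-- Abelian subgroups are cyclic. -/
theorem HasFpf.isCyclic_of_comm (hG : HasFpf G) {A : Subgroup G}
    (hA : ∀ x ∈ A, ∀ y ∈ A, x * y = y * x) : IsCyclic A := by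
  letI : CommGroup A :=
    { (inferInstance : Group A) with mul_comm := fun a b => Subtype.ext (hA a a.2 b b.2) }
  obtain ⟨g, hg⟩ := Monoid.exists_orderOf_eq_exponent (G := A) Monoid.ExponentExists.of_finite
  refine ⟨⟨g, fun b => ?_⟩⟩
  obtain ⟨k, hk⟩ := (hG.subgroup A).mem_zpowers_of_commute (Commute.all g b)
    (hg ▸ Monoid.order_dvd_exponent b)
  exact ⟨k, hk⟩

/-- An element of prime order centralises every cyclic subgroup that it normalises. -/
theorem HasFpf.commute_of_normalize (hG : HasFpf G) {q : ℕ} (hq : q.Prime) {x y : G}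
    (hy : orderOf y = q) (hn : y * x * y⁻¹ ∈ Subgroup.zpowers x) : Commute y x := by
  obtain ⟨d, ρ, hd0, h⟩ := hG
  have : NeZero d := ⟨hd0.ne'⟩
  by_contra hcomm
  let c : ℕ → G := fun i => (y ^ i)⁻¹ * x * y ^ i
  have hnorm : ∀ k : ℕ, ∀ z ∈ Subgroup.zpowers x, y ^ k * z * (y ^ k)⁻¹ ∈ Subgroup.zpowers x := by
    intro k
    induction k with
    | zero => simp
    | succ k ih =>
      intro z hz
      have h2 : y ^ (k + 1) * z * (y ^ (k + 1))⁻¹ = y * (y ^ k * z * (y ^ k)⁻¹) * y⁻¹ := by
        rw [pow_succ']; group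
      obtain ⟨j', hj'⟩ := Subgroup.mem_zpowers_iff.1 (ih z hz)
      rw [h2, ← hj', ← conj_zpow]
      exact zpow_mem hn _
  have hcmem : ∀ i, i ≤ q → c i ∈ Subgroup.zpowers x := by
    intro i hi
    have hyi : y ^ (q - i) = (y ^ i)⁻¹ := by
      rw [eq_inv_iff_mul_eq_one, ← pow_add, Nat.sub_add_cancel hi, ← hy, pow_orderOf_eq_one]
    have := hnorm (q - i) x (Subgroup.mem_zpowers x)
    rwa [hyi, inv_inv] at this
  have hcinj : ∀ i j, i < q → j < q → c i = c j → i = j := by
    intro i j hi hj e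
    wlog hij : i ≤ j generalizing i j
    · exact (this j i hj hi e.symm (le_of_not_ge hij)).symm
    by_contra hne
    have h3 : Commute (y ^ (j - i)) x := by
      have e' : y ^ j * c i * (y ^ j)⁻¹ = y ^ j * c j * (y ^ j)⁻¹ := by rw [e]
      have hj' : y ^ j = y ^ (j - i) * y ^ i := by rw [← pow_add, Nat.sub_add_cancel hij]
      simp only [c] at e'
      show y ^ (j - i) * x = x * y ^ (j - i)
      calc y ^ (j - i) * x = y ^ j * ((y ^ i)⁻¹ * x * y ^ i) * (y ^ j)⁻¹ * y ^ (j - i) := by
            rw [hj']; group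
        _ = x * y ^ (j - i) := by rw [e']; group
    have hcop : Nat.Coprime (j - i) (orderOf y) := by
      rw [hy]
      refine (hq.coprime_iff_not_dvd.2 fun hdv => ?_).symm
      have := Nat.le_of_dvd (by omega) hdv
      omega
    obtain ⟨m, hm⟩ := exists_pow_eq_self_of_coprime hcop
    exact hcomm (hm ▸ h3.pow_left m)
  obtain ⟨lam, hlam⟩ := exists_eigenvalue (ρ x)
  obtain ⟨v, hv⟩ := hlam.exists_hasEigenvector
  -- eigenvalues on the translates
  have hco : ∀ i, i ≤ q → ∃ ν : ℂ, ρ (c i) v = ν • v := by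
    intro i hi
    obtain ⟨k, hk⟩ := (mem_powers_iff_mem_zpowers (x := x)).2 (hcmem i hi)
    refine ⟨lam ^ k, ?_⟩
    have : x ^ k = c i := hk
    rw [← this, map_pow]
    exact hv.pow_apply k
  choose ν hν using hco
  let vec : Fin q → (Fin d → ℂ) := fun i => ρ (y ^ (i : ℕ)) v
  have hvec0 : ∀ i, vec i ≠ 0 := by
    intro i e
    apply hv.2
    have := congrArg (ρ (y ^ (i : ℕ))⁻¹) e
    rwa [ρ.inv_self_apply, map_zero] at this
  have heig : ∀ i : Fin q, ρ x (vec i) = ν i i.2.le • vec i := by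
    intro i
    have : x * y ^ (i : ℕ) = y ^ (i : ℕ) * c i := by simp only [c]; group
    simp only [vec]
    rw [← Module.End.mul_apply, ← map_mul, this, map_mul, Module.End.mul_apply, hν, map_smul]
  have hνinj : Function.Injective (fun i : Fin q => ν i i.2.le) := by
    intro i j e
    refine Fin.ext (hcinj i j i.2 j.2 (eq_of_apply_eq ρ h hv.2 ?_))
    rw [hν i i.2.le, hν j j.2.le]
    exact congrArg (· • v) e
  have hli : LinearIndependent ℂ vec :=
    eigenvectors_linearIndependent' (ρ x) _ hνinj vec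
      fun i => ⟨mem_eigenspace_iff.2 (heig i), hvec0 i⟩
  have hy1 : y ≠ 1 := fun e => hq.one_lt.ne (hy ▸ (e ▸ orderOf_one)).symm
  have hsum : ∑ i, vec i = 0 := by
    apply h y hy1
    rw [map_sum]
    simp only [vec]
    refine Fintype.sum_equiv (finRotate q) _ _ fun i => ?_
    rw [← Module.End.mul_apply, ← map_mul, ← pow_succ']
    congr 2
    obtain ⟨n, rfl⟩ : ∃ n, q = n + 1 := ⟨q - 1, by have := hq.one_lt; omega⟩
    rw [finRotate_apply]
    conv_lhs => rw [← pow_mod_orderOf, hy]
    congr 1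
    simp [Fin.val_add, Nat.add_mod]
  exact one_ne_zero ((Fintype.linearIndependent_iff.1 hli) (fun _ => 1) (by simpa using hsum)
    ⟨0, hq.pos⟩)

end CfsgLib.Zassenhaus
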