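import Cfsg.Agent.Lib.Zassenhaus.TypeA

/-!
The normaliser of the largest odd prime order subgroup commuting with an element of order four:
isolation and the number of its elements of odd order.
-/

set_option autoImplicit false
set_option linter.unusedSectionVars false
set_option linter.style.haveILetI false

open scoped Pointwise commutatorElement
open Subgroup

namespace CfsgLib.Zassenhaus

variable {H : Type*} [Group H] [Finite H]

/-- An element of odd prime order commuting with an element of order four, of largest possible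
order. -/
structure AData (P : Sylow 2 H) (t : H) (a : ℕ) (x0 : H) (p : ℕ) : Prop where
  minimal : Minimal H
  quat : IsQuat (P : Subgroup H) t a
  prime : p.Prime
  odd : Odd p
  order : orderOf x0 = p
  comm : Commute (t ^ (a / 2)) x0
  max : ∀ v b : H, (orderOf v).Prime → Odd (orderOf v) → orderOf b = 4 → Commute b v → orderOf v ≤ p

/-- The kernel description of the action on a subgroup of prime order. -/
noncomputable def actHom (x : H) {K : Subgroup H} (hK : K ≤ normalizer (zpowers x : Set H)) :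
    K →* (ZMod (Nat.card (zpowers x)))ˣ :=
  (IsCyclic.mulAutMulEquiv (zpowers x)).toMonoidHom.comp
    ((zpowers x).normalizerMonoidHom.comp (Subgroup.inclusion hK))

theorem actHom_eq_one {x : H} {K : Subgroup H} (hK : K ≤ normalizer (zpowers x : Set H)) (g : K) :
    actHom x hK g = 1 ↔ Commute (g : H) x := by
  constructor
  · intro h
    have h' := (IsCyclic.mulAutMulEquiv (zpowers x)).injective (h.trans (map_one _).symm)
    have h2 := congrArg Subtype.val (DFunLike.congr_fun h' (⟨x, mem_zpowers x⟩ : zpowers x))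
    exact mul_inv_eq_iff_eq_mul.1 h2
  · intro h
    have h' : (zpowers x).normalizerMonoidHom (Subgroup.inclusion hK g) = 1 :=
      MulEquiv.ext fun u => Subtype.ext (by
        obtain ⟨i, hi⟩ := mem_zpowers_iff.1 u.2
        show (g : H) * u * (g : H)⁻¹ = u
        rw [← hi, (h.zpow_right i).eq, mul_inv_cancel_right])
    show (IsCyclic.mulAutMulEquiv (zpowers x)) ((zpowers x).normalizerMonoidHom (Subgroup.inclusion hK g)) = 1
    rw [h', map_one]

/-- In a quaternion group the images under a homomorphism into the units of a prime field. -/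
theorem actHom_quat {x : H} (hx : (orderOf x).Prime) {K P : Subgroup H}
    (hK : K ≤ normalizer (zpowers x : Set H)) {t : H} {a : ℕ} (hP : IsQuat P t a) (hPK : P ≤ K) :
    ∀ g : K, (g : H) ∈ P → actHom x hK g ^ 2 = 1 := by
  set ψ := actHom x hK
  obtain ⟨b, hb, hbt⟩ := hP.exists_outer
  set T : K := ⟨t, hPK hP.mem⟩
  set B : K := ⟨b, hPK hb⟩
  have hT : ψ T ^ 2 = 1 := by
    have h : ψ (B * T * B⁻¹) = ψ T⁻¹ := congrArg ψ (Subtype.ext (hP.outer b hb hbt).2)
    rw [map_mul, map_mul, map_inv, map_inv, mul_comm, inv_mul_cancel_left] at h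
    rw [pow_two]
    exact mul_eq_one_iff_eq_inv.2 h
  intro g hg
  by_cases hgt : (g : H) ∈ zpowers t
  · obtain ⟨i, hi⟩ := mem_zpowers_iff.1 hgt
    have : g = T ^ i := Subtype.ext (by simpa [T] using hi.symm)
    rw [this, map_zpow, ← zpow_natCast, ← zpow_mul, mul_comm, zpow_mul, zpow_natCast, hT, one_zpow]
  · obtain ⟨j, hj⟩ := hP.even_a
    have : g ^ 2 = T ^ a := Subtype.ext (by simpa [T, pow_two (g : H)] using (hP.outer g hg hgt).1)
    rw [← map_pow, this, map_pow, hj, pow_mul, hT, one_pow]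

theorem eq_of_sq_eq_one {n : ℕ} [Fact n.Prime] {u v : (ZMod n)ˣ} (hu : u ^ 2 = 1) (hu1 : u ≠ 1)
    (hv : v ^ 2 = 1) (hv1 : v ≠ 1) : u = v := by
  have key : ∀ w : (ZMod n)ˣ, w ^ 2 = 1 → w ≠ 1 → (w : ZMod n) = -1 := by
    intro w hw hw1
    refine (sq_eq_one_iff.1 ?_).resolve_left fun h => hw1 (Units.ext h)
    rw [← Units.val_pow_eq_pow_val, hw, Units.val_one]
  exact Units.ext ((key u hu hu1).trans (key v hv hv1).symm)

namespace AData

variable {P : Sylow 2 H} {t : H} {a : ℕ} {x0 : H} {p : ℕ} (D : AData P t a x0 p)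
include D

theorem fpf : HasFpf H := D.minimal.fpf

theorem x0_prime : (orderOf x0).Prime := D.order.symm ▸ D.prime

theorem x0_odd : Odd (orderOf x0) := D.order.symm ▸ D.odd

theorem conj_four : ∀ x y : H, orderOf x = 4 → orderOf y = 4 → ∃ g : H, g * x * g⁻¹ = y :=
  D.fpf.conj_four_of_perfect D.minimal.perfect D.quat

theorem x0_mem : x0 ∈ normalizer (zpowers x0 : Set H) :=
  mem_normalizer_zpowers (by rw [mul_inv_cancel_right]; exact mem_zpowers x0)

/-- An element of order four centralising `x0` forces elements of order `p` centralising it into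
`⟨x0⟩`. -/
theorem mem_of_commute_four {b u : H} (hb : orderOf b = 4) (hbx : Commute b x0)
    (hu : orderOf u = p) (hbu : Commute b u) : u ∈ zpowers x0 := by
  have hs := D.fpf.isSmall_centralizer_four hb
  exact D.fpf.unique_prime D.prime D.odd (D.fpf.isSolvable_of_small hs) (Or.inr hs)
    (mem_centralizer_singleton_iff.2 hbx.symm.eq) (mem_centralizer_singleton_iff.2 hbu.symm.eq)
    D.order hu

theorem normalizer_four_le {b : H} (hb : orderOf b = 4) (hbx : Commute b x0) :
    normalizer (zpowers b : Set H) ≤ normalizer (zpowers x0 : Set H) := by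
  intro g hg
  refine mem_normalizer_zpowers (D.mem_of_commute_four hb hbx (by rw [orderOf_conj_eq, D.order]) ?_)
  obtain ⟨i, hi⟩ := mem_zpowers_iff.1 ((mem_normalizer_iff''.1 hg b).1 (mem_zpowers b))
  have h := commute_conj (hbx.zpow_left i) g
  rwa [hi, show g * (g⁻¹ * b * g) * g⁻¹ = b by group] at h

theorem sylow_le : (P : Subgroup H) ≤ normalizer (zpowers x0 : Set H) := by
  refine le_trans ?_ (D.normalizer_four_le D.quat.orderOf_four D.comm)
  intro g hg
  refine mem_normalizer_zpowers ?_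
  have hmem := D.quat.outer_conj_mem hg (pow_mem (mem_zpowers t) (a / 2))
  obtain ⟨i, hi⟩ := mem_zpowers_iff.1 hmem
  exact D.fpf.mem_zpowers_of_commute (hi ▸ ((Commute.refl t).pow_left _).zpow_right i)
    (by rw [orderOf_conj_eq])

theorem conj_mem {b : H} (hb : orderOf b = 4) (hbx : Commute b x0) :
    ∃ h ∈ normalizer (zpowers x0 : Set H), h * t ^ (a / 2) * h⁻¹ = b := by
  obtain ⟨h, hh⟩ := D.conj_four (t ^ (a / 2)) b D.quat.orderOf_four hb
  refine ⟨h, ?_, hh⟩
  exact mem_normalizer_zpowers (D.mem_of_commute_four hb hbx (by rw [orderOf_conj_eq, D.order])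
    (hh ▸ commute_conj D.comm h))

theorem commute_prime {v : H} (hv : v ∈ normalizer (zpowers x0 : Set H)) (hvp : (orderOf v).Prime) :
    Commute v x0 :=
  D.fpf.commute_of_normalize hvp rfl ((mem_normalizer_iff.1 hv x0).1 (mem_zpowers x0))

/-- Elements of order `p` centralising an element of odd prime order of the normaliser. -/
theorem mem_of_commute_prime {v : H} (hv : v ∈ normalizer (zpowers x0 : Set H))
    (hvp : (orderOf v).Prime) (hvo : Odd (orderOf v)) {u : H} (hu : orderOf u = p)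
    (huv : Commute u v) : u ∈ zpowers x0 := by
  have hvx := D.commute_prime hv hvp
  by_cases hq : orderOf v = p
  · rw [← D.fpf.zpowers_eq_of_commute hvx.symm (hq.trans D.order.symm),
      ← D.fpf.zpowers_eq_of_commute huv.symm (hu.trans hq.symm)]
    exact mem_zpowers u
  set K := centralizer ({v} : Set H) with hK
  have hKt := D.minimal.centralizer_ne_top hvp hvo
  have hxK : x0 ∈ K := mem_centralizer_singleton_iff.2 hvx.symm.eq
  have huK : u ∈ K := mem_centralizer_singleton_iff.2 huv.eq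
  -- the order of `v` when it commutes with an element of order four
  have hfour : ∀ b ∈ K, orderOf b = 4 → orderOf v < p := fun b hb hb4 =>
    lt_of_le_of_ne (D.max v b hvp hvo hb4 (mem_centralizer_singleton_iff.1 hb)) hq
  by_cases h7 : 7 ≤ p
  · exact D.minimal.unique_seven hKt D.prime h7 hxK huK D.order hu
  have hp : p = 3 ∨ p = 5 := by
    have h2 := D.prime.two_le
    obtain ⟨k, hk⟩ := D.odd
    omega
  have hv3 : 3 ≤ orderOf v := by
    have := hvp.two_le
    obtain ⟨k, hk⟩ := hvo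
    omega
  rcases hp with hp | hp
  · have hsm : IsSmall K := by
      by_contra hns
      obtain ⟨b, hb, hb4⟩ := D.fpf.exists_four_of_not_small hns
      have := hfour b hb hb4
      omega
    exact D.fpf.unique_prime D.prime D.odd (D.fpf.isSolvable_of_small hsm) (Or.inr hsm) hxK huK
      D.order hu
  · by_cases hsol : Group.IsSolvable K
    · exact D.fpf.unique_prime D.prime D.odd hsol (Or.inl (by omega)) hxK huK D.order hu
    exfalso
    obtain ⟨E, hEK, hE1, hEE, hKE⟩ := exists_perfect K hsol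
    have hE : E ≠ ⊤ := fun e => hKt (top_le_iff.1 (e ▸ hEK))
    obtain ⟨h120, -, hperf, S, hSE, t', hS⟩ := D.minimal.perfect_facts hE hE1 hEE
    have := hfour t' (hEK (hSE hS.mem)) hS.orderOf_t
    have hv3' : orderOf v = 3 := by
      obtain ⟨k, hk⟩ := hvo
      omega
    haveI : Fact (Nat.Prime 3) := ⟨Nat.prime_three⟩
    obtain ⟨e, he⟩ := exists_prime_orderOf_dvd_card' (G := E) 3 (by rw [h120]; norm_num)
    rw [← Subgroup.orderOf_coe] at he
    have hvE : v ∈ E := by
      have h := D.fpf.mem_zpowers_of_commute (x := (e : H)) (y := v)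
        (mem_centralizer_singleton_iff.1 (hEK e.2)) (by rw [he, hv3'])
      exact (Subgroup.zpowers_le.2 e.2) h
    refine (D.fpf.subgroup E).not_central hperf (x := ⟨v, hvE⟩)
      (by rw [Subgroup.orderOf_mk]; exact hvp) (by rw [Subgroup.orderOf_mk]; exact hvo) ?_
    exact mem_center_iff.2 fun w => Subtype.ext (mem_centralizer_singleton_iff.1 (hEK w.2))

theorem core : Core (normalizer (zpowers x0 : Set H)) := by
  refine ⟨fun v hv hvp hvo h hh => ?_, fun v b hvp hvo hb hbv => ?_⟩
  · have hc : Commute (h⁻¹ * x0 * h) v := by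
      have := commute_conj (D.commute_prime hh (by rw [orderOf_conj_eq]; exact hvp)).symm h⁻¹
      simpa [mul_assoc] using this
    have := D.mem_of_commute_prime hv hvp hvo
      (u := h⁻¹ * x0 * h) (by simpa [D.order] using orderOf_conj_eq h⁻¹ x0) hc
    have h1 : h⁻¹ ∈ normalizer (zpowers x0 : Set H) := mem_normalizer_zpowers (by simpa using this)
    simpa using inv_mem h1
  · obtain ⟨g, hg⟩ := D.conj_four b (t ^ (a / 2)) hb D.quat.orderOf_four
    refine ⟨g, ?_⟩
    have hc : Commute (t ^ (a / 2)) (g * v * g⁻¹) := hg ▸ commute_conj hbv g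
    refine D.normalizer_four_le D.quat.orderOf_four D.comm (centralizer_le_normalizer _ ?_)
    exact mem_centralizer_zpowers.2 hc.symm

/-- An element of order four commuting with an element of odd prime order of the normaliser
commutes with `x0`. -/
theorem commute_of_four {v b : H} (hv : v ∈ normalizer (zpowers x0 : Set H))
    (hvp : (orderOf v).Prime) (hvo : Odd (orderOf v)) (hb : orderOf b = 4) (hbv : Commute b v) :
    Commute b x0 := by
  obtain ⟨g, hg⟩ := D.conj_four b (t ^ (a / 2)) hb D.quat.orderOf_four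
  have hc : Commute (t ^ (a / 2)) (g * v * g⁻¹) := hg ▸ commute_conj hbv g
  have hmem : g * v * g⁻¹ ∈ normalizer (zpowers x0 : Set H) :=
    D.normalizer_four_le D.quat.orderOf_four D.comm
      (centralizer_le_normalizer _ (mem_centralizer_zpowers.2 hc.symm))
  have hgm := D.core.iso v hv hvp hvo g hmem
  obtain ⟨i, hi⟩ := mem_zpowers_iff.1 ((mem_normalizer_iff.1 hgm x0).1 (mem_zpowers x0))
  have := commute_conj ((hi ▸ (D.comm.zpow_right i) : Commute (t ^ (a / 2)) (g * x0 * g⁻¹))) g⁻¹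
  rw [← hg] at this
  simpa [mul_assoc] using this

theorem relIndex_odd : ¬ 2 ∣ (P : Subgroup H).relIndex (normalizer (zpowers x0 : Set H)) := by
  haveI : Fact (Nat.Prime 2) := ⟨Nat.prime_two⟩
  exact fun h => P.not_dvd_index (h.trans (relIndex_dvd_index_of_le D.sylow_le))

theorem card_eq : Nat.card (normalizer (zpowers x0 : Set H)) =
    4 * a * (P : Subgroup H).relIndex (normalizer (zpowers x0 : Set H)) := by
  have h := ((P : Subgroup H).subgroupOf (normalizer (zpowers x0 : Set H))).card_mul_index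
  rw [Nat.card_congr (subgroupOfEquivOfLe D.sylow_le).toEquiv, D.quat.card] at h
  exact h.symm

theorem le_card : 4 * a * p ≤ Nat.card (normalizer (zpowers x0 : Set H)) := by
  have hd : p ∣ Nat.card (normalizer (zpowers x0 : Set H)) :=
    D.order ▸ Subgroup.orderOf_dvd_natCard _ D.x0_mem
  rw [D.card_eq] at hd ⊢
  obtain ⟨k, hk⟩ := D.quat.exists_pow
  have hcop : p.Coprime (4 * a) := by
    rw [hk, show 4 * 2 ^ k = 2 ^ (k + 2) by ring]
    exact (Nat.coprime_two_right.2 D.odd).pow_right _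
  refine Nat.mul_le_mul_left _ (Nat.le_of_dvd ?_ (hcop.dvd_of_dvd_mul_left hd))
  exact Nat.pos_of_ne_zero fun h => D.relIndex_odd (h ▸ dvd_zero 2)

/-- In the normaliser the elements of odd order and a Sylow 2-subgroup generate everything, when
the former form a subgroup. -/
theorem oddPart_card (hoc : OddClosed (normalizer (zpowers x0 : Set H))) :
    Nat.card (oddPart hoc) = (P : Subgroup H).relIndex (normalizer (zpowers x0 : Set H)) := by
  obtain ⟨i, hi⟩ := exists_card_eq_oddPart hoc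
  rw [D.card_eq] at hi
  obtain ⟨k, hk⟩ := D.quat.exists_pow
  rw [hk, show 4 * 2 ^ k = 2 ^ (k + 2) by ring] at hi
  apply Nat.dvd_antisymm
  · exact ((Nat.coprime_two_right.2 (odd_card_oddPart hoc)).pow_right (k + 2)).dvd_of_dvd_mul_left
      (hi ▸ dvd_mul_right _ _)
  · exact ((Nat.prime_two.coprime_iff_not_dvd.2 D.relIndex_odd).pow_left i).symm.dvd_of_dvd_mul_right
      (hi ▸ dvd_mul_left _ _)

theorem not_oddClosed {b : H} (hb : b ∈ (P : Subgroup H)) (hbt : b ∉ zpowers t)
    (hbx : Commute b x0) : ¬ OddClosed (normalizer (zpowers x0 : Set H)) := by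
  intro hoc
  set M := normalizer (zpowers x0 : Set H) with hM
  set O := oddPart hoc with hO
  obtain ⟨h, hh, hhb⟩ := D.conj_mem (D.quat.orderOf_outer hb hbt) hbx
  have hMO : M ≤ normalizer (O : Set H) := le_normalizer_of_conj_mem fun g hg x hx =>
    conj_mem_oddPart hoc (le_normalizer hg) hx
  have htop : O ⊔ (P : Subgroup H) = M := by
    refine eq_of_le_of_card_ge (sup_le (oddPart_le hoc) D.sylow_le) (Nat.le_of_dvd Nat.card_pos ?_)
    have hdis : Nat.Coprime (Nat.card O) (Nat.card (P : Subgroup H)) := by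
      haveI : Fact (Nat.Prime 2) := ⟨Nat.prime_two⟩
      obtain ⟨n, hn⟩ := P.isPGroup'.exists_card_eq
      rw [hn]
      exact (Nat.coprime_two_right.2 (odd_card_oddPart hoc)).pow_right n
    refine dvd_trans ?_ (hdis.mul_dvd_of_dvd_of_dvd (card_dvd_of_le le_sup_left)
      (card_dvd_of_le le_sup_right))
    rw [D.oddPart_card hoc, D.quat.card, D.card_eq, mul_comm]
  have hmem : h ∈ ((P : Subgroup H) : Set H) * (O : Set H) := by
    rw [← coe_mul_of_left_le_normalizer_right _ _ (D.sylow_le.trans hMO), sup_comm, htop]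
    exact hh
  obtain ⟨q, hq, o, ho, rfl⟩ := hmem
  -- modulo `O` the element `b` is a conjugate of `y` inside `P`
  set y := t ^ (a / 2) with hy
  have ho' : q * (o * y * o⁻¹ * y⁻¹) * q⁻¹ ∈ O := normalizes_conj_mem hMO (D.sylow_le hq) (by
    have hyM : y ∈ M := D.sylow_le ((P : Subgroup H).pow_mem D.quat.mem _)
    rw [show o * y * o⁻¹ * y⁻¹ = o * (y * o⁻¹ * y⁻¹) by group]
    exact mul_mem ho (normalizes_conj_mem hMO hyM (inv_mem ho)))
  have he : q * (o * y * o⁻¹ * y⁻¹) * q⁻¹ = b * (q * y * q⁻¹)⁻¹ := by rw [← hhb]; group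
  have hP' : b * (q * y * q⁻¹)⁻¹ ∈ (P : Subgroup H) :=
    Subgroup.mul_mem _ hb (inv_mem (Subgroup.mul_mem _ (Subgroup.mul_mem _ hq
      ((P : Subgroup H).pow_mem D.quat.mem _)) (inv_mem hq)))
  rw [he] at ho'
  obtain ⟨n, hn⟩ := IsPGroup.iff_orderOf.1 D.quat.isPGroup ⟨_, hP'⟩
  rw [Subgroup.orderOf_mk] at hn
  have h1 : b * (q * y * q⁻¹)⁻¹ = 1 := by
    rw [← orderOf_eq_one_iff, hn]
    exact hn ▸ Nat.eq_one_of_dvd_coprimes ((Nat.coprime_two_right.2 ho'.2).pow_right n) dvd_rfl
      (hn ▸ dvd_rfl)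
  rw [mul_inv_eq_one] at h1
  exact hbt (h1 ▸ D.quat.outer_conj_mem hq (pow_mem (mem_zpowers t) _))

/-- The three possibilities for the normaliser. -/
theorem trichotomy :
    (4 * a * Nat.card {x : H // x ∈ normalizer (zpowers x0 : Set H) ∧ Odd (orderOf x)} =
        Nat.card (normalizer (zpowers x0 : Set H)) * (a + 1)) ∨
    (a = 4 ∧ 16 * Nat.card {x : H // x ∈ normalizer (zpowers x0 : Set H) ∧ Odd (orderOf x)} =
        3 * Nat.card (normalizer (zpowers x0 : Set H))) ∨
    (∃ o : ℕ, Odd o ∧ p ∣ o ∧ Nat.card (normalizer (zpowers x0 : Set H)) = 4 * a * o ∧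
      Nat.card {x : H // x ∈ normalizer (zpowers x0 : Set H) ∧ Odd (orderOf x)} = o ∧
      (∀ u ∈ normalizer (zpowers x0 : Set H), Odd (orderOf u) → orderOf u ∣ o) ∧
      (∀ s ∈ normalizer (zpowers x0 : Set H), orderOf s = 3 →
        IsSmall (centralizer (zpowers s : Set H)) ∧
        ∀ u ∈ centralizer (zpowers s : Set H), (∃ k, orderOf u = 2 ^ k) →
          ∀ x ∈ centralizer (zpowers s : Set H), Commute u x)) := by
  haveI : Fact (Nat.Prime 2) := ⟨Nat.prime_two⟩
  set M := normalizer (zpowers x0 : Set H) with hM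
  have hPM : (P : Subgroup H) ≤ M := D.sylow_le
  have hQM := D.quat.subgroupOf hPM
  have hyM : t ^ (a / 2) ∈ M := hPM ((P : Subgroup H).pow_mem D.quat.mem _)
  by_cases hall : ∀ b ∈ M, orderOf b = 4 → Commute b x0
  · left
    have hconj : ∀ u v : M, orderOf u = 4 → orderOf v = 4 → ∃ g : M, g * u * g⁻¹ = v := by
      intro u v hu hv
      rw [← Subgroup.orderOf_coe] at hu hv
      obtain ⟨h1, hh1, e1⟩ := D.conj_mem hu (hall u u.2 hu)
      obtain ⟨h2, hh2, e2⟩ := D.conj_mem hv (hall v v.2 hv)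
      refine ⟨⟨h2 * h1⁻¹, mul_mem hh2 (inv_mem hh1)⟩, Subtype.ext ?_⟩
      show h2 * h1⁻¹ * (u : H) * (h2 * h1⁻¹)⁻¹ = v
      rw [← e1, ← e2]; group
    have h := (D.fpf.subgroup M).card_odd (P := P.subtype hPM) (by rw [Sylow.coe_subtype]; exact hQM) hconj
    rw [← h]
    congr 1
    exact Nat.card_congr
      { toFun := fun x => ⟨⟨x.1, x.2.1⟩, by rw [Subgroup.orderOf_mk]; exact x.2.2⟩
        invFun := fun x => ⟨x.1, x.1.2, by rw [Subgroup.orderOf_coe]; exact x.2⟩
        left_inv := fun _ => rfl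
        right_inv := fun _ => rfl }
  right
  push Not at hall
  obtain ⟨b0, hb0, hb04, hb0x⟩ := hall
  haveI : Fact (Nat.card (zpowers x0)).Prime := ⟨by rw [Nat.card_zpowers]; exact D.x0_prime⟩
  let ψ : M →* (ZMod (Nat.card (zpowers x0)))ˣ := actHom x0 (le_refl M)
  have hψ : ∀ g : M, ψ g = 1 ↔ Commute (g : H) x0 := actHom_eq_one _
  have hψsq : ∀ g : M, (g : H) ∈ (P : Subgroup H) → ψ g ^ 2 = 1 :=
    actHom_quat D.x0_prime _ D.quat hPM
  obtain ⟨g0, hg0, hb1⟩ := exists_conj_prime_pow (k := 2) hb04 hb0 hPM P rfl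
  set b1 := g0 * b0 * g0⁻¹ with hb1def
  have hb1M : b1 ∈ M := hPM hb1
  have hb1ne : ψ ⟨b1, hb1M⟩ ≠ 1 := by
    intro h
    apply hb0x
    apply (hψ ⟨b0, hb0⟩).1
    have e : (⟨b1, hb1M⟩ : M) = ⟨g0, hg0⟩ * ⟨b0, hb0⟩ * ⟨g0, hg0⟩⁻¹ := Subtype.ext rfl
    rw [e, map_mul, map_mul, map_inv, mul_comm, inv_mul_cancel_left] at h
    exact h
  -- the odd kernel
  let B : Subgroup (ZMod (Nat.card (zpowers x0)))ˣ :=
    { carrier := {u | Odd (orderOf u)}
      one_mem' := by simp
      mul_mem' := fun {u v} hu hv =>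
        (Odd.mul hu hv).of_dvd_nat (Commute.all u v).orderOf_mul_dvd_mul_orderOf
      inv_mem' := fun {u} hu => by simpa using hu }
  set J := (B.comap ψ).map M.subtype with hJ
  have hJM : J ≤ M := map_subtype_le _
  have hmemJ : ∀ g : M, (g : H) ∈ J ↔ Odd (orderOf (ψ g)) := by
    intro g
    constructor
    · rintro ⟨u, hu, e⟩
      obtain rfl : u = g := Subtype.ext e
      exact hu
    · exact fun h => ⟨g, h, rfl⟩
  have hoddJ : ∀ x ∈ M, Odd (orderOf x) → x ∈ J := fun x hx ho => (hmemJ ⟨x, hx⟩).2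
    ((show Odd (orderOf (⟨x, hx⟩ : M)) by rwa [Subgroup.orderOf_mk]).of_dvd_nat (orderOf_map_dvd _ _))
  have h2J : ∀ x (hx : x ∈ M), x ∈ J → (∃ k, orderOf x = 2 ^ k) → ψ ⟨x, hx⟩ = 1 := by
    rintro x hx hxJ ⟨k, hk⟩
    rw [← orderOf_eq_one_iff]
    refine Nat.eq_one_of_dvd_coprimes ((Nat.coprime_two_right.2 ((hmemJ ⟨x, hx⟩).1 hxJ)).pow_right k)
      dvd_rfl ?_
    rw [← hk, ← Subgroup.orderOf_mk x hx]
    exact orderOf_map_dvd _ _
  have hb1J : b1 ∉ J := fun h => hb1ne (h2J b1 hb1M h
    ⟨2, by rw [hb1def, orderOf_conj_eq, hb04]; rfl⟩)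
  -- index two
  have hindex : (J.subgroupOf M).index = 2 := by
    rw [index_eq_two_iff]
    refine ⟨⟨b1, hb1M⟩, fun g => ?_⟩
    simp only [mem_subgroupOf, Subgroup.coe_mul]
    obtain ⟨e, m, hm, hgm⟩ := Nat.exists_eq_pow_mul_and_not_dvd (orderOf_pos g).ne' 2 (by norm_num)
    have hmodd : Odd m := Nat.odd_iff.2 (Nat.two_dvd_ne_zero.1 hm)
    have ho2 : orderOf ((g : H) ^ m) = 2 ^ e := by
      rw [← Subgroup.coe_pow, Subgroup.orderOf_coe, orderOf_pow_of_dvd
        (by rintro rfl; exact hm (dvd_zero 2)) (hgm ▸ dvd_mul_left _ _), hgm,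
        Nat.mul_div_cancel _ hmodd.pos]
    obtain ⟨c, hc, hcP⟩ := exists_conj_prime_pow ho2 (M.pow_mem g.2 m) hPM P rfl
    have hsq : ψ (g ^ m) ^ 2 = 1 := by
      have h := hψsq (⟨c, hc⟩ * g ^ m * ⟨c, hc⟩⁻¹) hcP
      rwa [map_mul, map_mul, map_inv, mul_comm (ψ ⟨c, hc⟩), mul_inv_cancel_right] at h
    by_cases h1 : ψ (g ^ m) = 1
    · refine Or.inr ⟨(hmemJ g).2 (hmodd.of_dvd_nat (orderOf_dvd_of_pow_eq_one (by rw [← map_pow, h1]))), ?_⟩
      intro h
      apply hb1J
      have hgJ : (g : H) ∈ J := (hmemJ g).2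
        (hmodd.of_dvd_nat (orderOf_dvd_of_pow_eq_one (by rw [← map_pow, h1])))
      simpa using J.mul_mem (J.inv_mem hgJ) h
    · refine Or.inl ⟨(hmemJ (g * ⟨b1, hb1M⟩)).2 (hmodd.of_dvd_nat (orderOf_dvd_of_pow_eq_one ?_)), ?_⟩
      · have hu := eq_of_sq_eq_one (hψsq ⟨b1, hb1M⟩ hb1) hb1ne hsq h1
        rw [map_mul, mul_pow, ← map_pow, ← hu]
        obtain ⟨l, rfl⟩ := hmodd
        rw [← pow_succ', show 2 * l + 1 + 1 = 2 * (l + 1) by ring, pow_mul,
          hψsq ⟨b1, hb1M⟩ hb1, one_pow]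
      · intro h
        apply h1
        rw [map_pow]
        have := (hmemJ g).1 h
        have hd : orderOf (ψ g ^ m) ∣ 2 := orderOf_dvd_of_pow_eq_one (by rw [← map_pow]; exact hsq)
        rw [← orderOf_eq_one_iff]
        exact Nat.eq_one_of_dvd_coprimes (Nat.coprime_two_right.2 this) (orderOf_pow_dvd m) hd
  set Q := (P : Subgroup H) ⊓ J with hQdef
  have hQ2 : IsPGroup 2 Q := P.isPGroup'.to_le inf_le_left
  have hQJ : Q ≤ J := inf_le_right
  have hcardJ : Nat.card M = 2 * Nat.card J := by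
    have h := (J.subgroupOf M).card_mul_index
    rw [hindex, Nat.card_congr (subgroupOfEquivOfLe hJM).toEquiv] at h
    rw [← h, mul_comm]
  have hQidx : Q.relIndex (P : Subgroup H) = 2 := by
    show (Q.subgroupOf (P : Subgroup H)).index = 2
    rw [index_eq_two_iff]
    refine ⟨⟨b1, hb1⟩, fun g => ?_⟩
    have h := index_eq_two_iff.1 hindex
    simp only [mem_subgroupOf, Subgroup.coe_mul, hQdef, Subgroup.mem_inf]
    have hxor : ∀ g ∈ M, Xor (g * b1 ∈ J) (g ∈ J) := by
      intro g hg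
      obtain ⟨c, hc⟩ := h
      have h1 := hc ⟨g, hg⟩
      have h2 := hc ⟨g * b1, mul_mem hg hb1M⟩
      have h3 := hc ⟨b1, hb1M⟩
      have h4 := hc 1
      have e1 : ∀ u : M, (u ∈ J.subgroupOf M) = ((u : H) ∈ J) := fun _ => rfl
      simp only [e1, Subgroup.coe_mul, Subgroup.coe_one, one_mul, one_mem] at h1 h2 h3 h4
      have hmul := mul_mem_iff_of_index_two hindex (a := ⟨g, hg⟩) (b := ⟨b1, hb1M⟩)
      simp only [e1, Subgroup.coe_mul] at hmul
      by_cases hgJ : g ∈ J
      · exact Or.inr ⟨hgJ, fun h => hb1J (by simpa [hgJ] using hmul.1 h)⟩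
      · exact Or.inl ⟨hmul.2 ⟨fun h => absurd h hgJ, fun h => absurd h hb1J⟩, hgJ⟩
    rcases hxor g (hPM g.2) with ⟨h1, h2⟩ | ⟨h1, h2⟩
    · exact Or.inl ⟨⟨Subgroup.mul_mem _ g.2 hb1, h1⟩, fun h => h2 h.2⟩
    · exact Or.inr ⟨⟨g.2, h1⟩, fun h => h2 h.2⟩
  have hQcard : Nat.card Q = 2 * a := by
    have h := (Q.subgroupOf (P : Subgroup H)).card_mul_index
    rw [Nat.card_congr (subgroupOfEquivOfLe (inf_le_left : Q ≤ P)).toEquiv,
      show (Q.subgroupOf (P : Subgroup H)).index = 2 from hQidx] at h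
    have h4 := D.quat.card
    change Nat.card ((P : Subgroup H) ⊓ J : Subgroup H) = 2 * a
    omega
  have hQsyl : ¬ 2 ∣ (Q.subgroupOf J).index := by
    have h1 := relIndex_mul_relIndex Q J M hQJ hJM
    have h2 := relIndex_mul_relIndex Q (P : Subgroup H) M inf_le_left hPM
    rw [hQidx, ← h1, show J.relIndex M = 2 from hindex] at h2
    intro h
    exact D.relIndex_odd (by
      obtain ⟨c, hc⟩ := h
      refine ⟨c, ?_⟩
      change ((P : Subgroup H) ⊓ J).relIndex J = 2 * c at hc
      change 2 * (P : Subgroup H).relIndex M = ((P : Subgroup H) ⊓ J).relIndex J * 2 at h2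
      rw [hc] at h2
      exact Nat.eq_of_mul_eq_mul_left two_pos (h2.trans (mul_comm _ _)))
  let S : Sylow 2 J := (hQ2.comap_subtype (K := J)).toSylow hQsyl
  have hS : (S : Subgroup J) = Q.subgroupOf J := rfl
  have hyQ : t ^ (a / 2) ∈ Q := by
    refine ⟨(P : Subgroup H).pow_mem D.quat.mem _, (hmemJ ⟨_, hyM⟩).2 ?_⟩
    rw [(hψ ⟨_, hyM⟩).2 D.comm, orderOf_one]
    exact odd_one
  rcases D.fpf.cyclic_or_quat hQ2 with hQc | ⟨-, t', a', hQ'⟩
  · right
    have hsmallJ : IsSmall J := by
      intro R hR hR2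
      obtain ⟨S', hS'⟩ := (hR2.comap_subtype (K := J)).exists_le_sylow
      obtain ⟨g, hg⟩ := MulAction.exists_smul_eq J S' S
      haveI : IsCyclic (S : Subgroup J) := by
        rw [hS]
        haveI := hQc
        exact (subgroupOfEquivOfLe hQJ).isCyclic.2 inferInstance
      haveI : IsCyclic (S' : Subgroup J) := (Sylow.equiv S' S).isCyclic.2 inferInstance
      haveI : IsCyclic (R.subgroupOf J) := isCyclic_of_le hS'
      exact (subgroupOfEquivOfLe hR).isCyclic.1 inferInstance
    have hoc : OddClosed M := fun x hx y hy ox oy =>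
      D.fpf.oddClosed_of_small hsmallJ x (hoddJ x hx ox) y (hoddJ y hy oy) ox oy
    have hQt : Q = zpowers t := by
      refine eq_of_le_of_card_ge (fun g hg => ?_) (by
        rw [Nat.card_zpowers, D.quat.orderOf_t, hQcard])
      by_contra hgt
      haveI := hQc
      have hc : g * t ^ (a / 2) = t ^ (a / 2) * g :=
        congrArg Subtype.val ((IsCyclic.commGroup (α := Q)).mul_comm ⟨g, hg⟩ ⟨_, hyQ⟩)
      have h := D.quat.outer_conj hg.1 hgt (pow_mem (mem_zpowers t) (a / 2))
      rw [hc, mul_inv_cancel_right] at h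
      have h4 := orderOf_dvd_of_pow_eq_one
        (show (t ^ (a / 2)) ^ 2 = 1 by rw [pow_two]; exact mul_eq_one_iff_eq_inv.2 h)
      rw [D.quat.orderOf_four] at h4
      norm_num at h4
    have hfour : ∀ g ∈ (P : Subgroup H), g ∉ zpowers t → ∀ v ∈ M, (orderOf v).Prime →
        Odd (orderOf v) → ¬ Commute g v := by
      intro g hg hgt v hv hvp hvo hc
      refine hgt (hQt ▸ ⟨hg, (hmemJ ⟨g, hPM hg⟩).2 ?_⟩)
      rw [(hψ ⟨g, hPM hg⟩).2 (D.commute_of_four hv hvp hvo (D.quat.orderOf_outer hg hgt) hc),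
        orderOf_one]
      exact odd_one
    set O := oddPart hoc with hO
    have hOsmall : IsSmall O := by
      intro R hR hR2
      obtain ⟨n, hn⟩ := hR2.exists_card_eq
      have hd := card_dvd_of_le hR
      rw [hn] at hd
      have : n = 0 := by
        by_contra h
        exact absurd ((odd_card_oddPart hoc).of_dvd_nat ((dvd_pow_self 2 h).trans hd)) (by decide)
      rw [this, pow_zero, Subgroup.card_eq_one] at hn
      subst hn
      infer_instance
    have hOsol := D.fpf.isSolvable_of_small hOsmall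
    have htO : ∀ v ∈ O, Commute t v := by
      obtain ⟨k, hk⟩ := D.quat.exists_pow
      refine D.fpf.centralizes_of_prime_elements hOsmall (r := 2) ?_
        ⟨k + 1, by rw [D.quat.orderOf_t, hk, pow_succ']⟩ ?_ fun v hv hvp => ?_
      · exact le_normalizer_of_conj_mem (K := M)
          (fun g hg x hx => conj_mem_oddPart hoc (le_normalizer hg) hx) (hPM D.quat.mem)
      · exact fun h => absurd ((odd_card_oddPart hoc).of_dvd_nat h) (by decide)
      -- `⟨v⟩` is normal in `M`
      have hMv : M ≤ normalizer (zpowers v : Set H) := fun g hg => mem_normalizer_zpowers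
        (D.fpf.unique_prime hvp hv.2 hOsol (Or.inr hOsmall) hv
          (conj_mem_oddPart hoc (le_normalizer hg) hv) rfl (orderOf_conj_eq g v))
      haveI : Fact (Nat.card (zpowers v)).Prime := ⟨by rw [Nat.card_zpowers]; exact hvp⟩
      let χ : M →* (ZMod (Nat.card (zpowers v)))ˣ := actHom v hMv
      have hχ := actHom_eq_one hMv
      have hχsq := actHom_quat hvp hMv D.quat hPM
      by_contra hne
      obtain ⟨b, hb, hbt⟩ := D.quat.exists_outer
      have hbtt : b * t ∉ zpowers t := fun h => hbt (by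
        simpa using Subgroup.mul_mem _ h (inv_mem (mem_zpowers t)))
      have hB : χ ⟨b, hPM hb⟩ ≠ 1 := fun h =>
        hfour b hb hbt v hv.1 hvp hv.2 ((hχ _).1 h)
      have hT : χ ⟨t, hPM D.quat.mem⟩ ≠ 1 := fun h => hne ((hχ _).1 h)
      have hBT := eq_of_sq_eq_one (hχsq ⟨b, hPM hb⟩ hb) hB (hχsq ⟨t, hPM D.quat.mem⟩ D.quat.mem) hT
      refine hfour (b * t) (Subgroup.mul_mem _ hb D.quat.mem) hbtt v hv.1 hvp hv.2
        ((hχ ⟨b * t, M.mul_mem (hPM hb) (hPM D.quat.mem)⟩).1 ?_)
      show χ (⟨b, hPM hb⟩ * ⟨t, hPM D.quat.mem⟩) = 1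
      rw [map_mul, hBT, ← pow_two]
      exact hχsq ⟨t, hPM D.quat.mem⟩ D.quat.mem
    refine ⟨Nat.card O, odd_card_oddPart hoc, ?_, ?_, rfl, fun u hu huo => ?_, fun s hs hs3 => ?_⟩
    · exact D.order ▸ O.orderOf_dvd_natCard ⟨D.x0_mem, D.x0_odd⟩
    · rw [D.oddPart_card hoc]; exact D.card_eq
    · exact O.orderOf_dvd_natCard ⟨hu, huo⟩
    · have hsp : (orderOf s).Prime := by rw [hs3]; exact Nat.prime_three
      have hso : Odd (orderOf s) := by rw [hs3]; decide
      have hCM : centralizer (zpowers s : Set H) ≤ M := fun x hx =>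
        D.core.iso s hs hsp hso x (by
          rw [(mem_centralizer_zpowers.1 hx).eq, mul_inv_cancel_right]; exact hs)
      -- 2-elements centralising `s` are powers of `t`
      have h2el : ∀ u ∈ centralizer (zpowers s : Set H), (∃ k, orderOf u = 2 ^ k) → u ∈ zpowers t := by
        rintro u hu ⟨k, hk⟩
        obtain ⟨g, hgM, hgP⟩ := exists_conj_prime_pow hk (hCM hu) hPM P rfl
        set q := g * u * g⁻¹ with hq
        have hqt : q ∈ zpowers t := by
          by_contra hqt
          exact hfour q hgP hqt (g * s * g⁻¹) (M.mul_mem (M.mul_mem hgM hs) (M.inv_mem hgM))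
            (by rwa [orderOf_conj_eq]) (by rwa [orderOf_conj_eq])
            (commute_conj (mem_centralizer_zpowers.1 hu) g)
        have hcomm : ∀ x ∈ M, x * q * x⁻¹ ∈ zpowers t := by
          intro x hx
          have hmem : x ∈ (((P : Subgroup H) : Set H) * (O : Set H)) := by
            rw [← coe_mul_of_left_le_normalizer_right _ _ (hPM.trans (le_normalizer_of_conj_mem
              fun g hg x hx => conj_mem_oddPart hoc (le_normalizer hg) hx))]
            have htop : (P : Subgroup H) ⊔ O = M := by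
              refine eq_of_le_of_card_ge (sup_le hPM (oddPart_le hoc)) (Nat.le_of_dvd Nat.card_pos ?_)
              have hdis : Nat.Coprime (Nat.card O) (Nat.card (P : Subgroup H)) := by
                obtain ⟨n, hn⟩ := P.isPGroup'.exists_card_eq
                rw [hn]
                exact (Nat.coprime_two_right.2 (odd_card_oddPart hoc)).pow_right n
              refine dvd_trans ?_ (hdis.mul_dvd_of_dvd_of_dvd (card_dvd_of_le le_sup_right)
                (card_dvd_of_le le_sup_left))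
              rw [D.oddPart_card hoc, D.quat.card, D.card_eq, mul_comm]
            rw [htop]; exact hx
          obtain ⟨w, hw, o, ho, rfl⟩ := hmem
          obtain ⟨i, hi⟩ := mem_zpowers_iff.1 hqt
          have hco : o * q * o⁻¹ = q := by
            rw [← hi, ((htO o ho).symm.zpow_right i).eq, mul_inv_cancel_right]
          rw [show w * o * q * (w * o)⁻¹ = w * (o * q * o⁻¹) * w⁻¹ by group, hco]
          exact D.quat.outer_conj_mem hw hqt
        have := hcomm g⁻¹ (M.inv_mem hgM)
        rwa [hq, show g⁻¹ * (g * u * g⁻¹) * g⁻¹⁻¹ = u by group] at this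
      refine ⟨fun R hR hR2 => isCyclic_of_le (show R ≤ zpowers t from fun x hx => h2el x (hR hx) ?_),
        fun u hu h2 x hx => ?_⟩
      · obtain ⟨k, hk⟩ := IsPGroup.iff_orderOf.1 hR2 ⟨x, hx⟩
        exact ⟨k, by rwa [Subgroup.orderOf_mk] at hk⟩
      · obtain ⟨i, rfl⟩ := mem_zpowers_iff.1 (h2el u hu h2)
        refine (mem_centralizer_singleton_iff.1 (mem_of_parts (C := centralizer {t ^ i})
          fun k hk => mem_centralizer_singleton_iff.2 ?_)).symm
        rcases hk with h | h
        · obtain ⟨j, hj⟩ := mem_zpowers_iff.1 (h2el _ (Subgroup.pow_mem _ hx k) h)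
          rw [← hj]; exact ((Commute.refl t).zpow_zpow j i).eq
        · exact ((htO _ ⟨M.pow_mem (hCM hx) k, h⟩).symm.zpow_right i).eq
  · left
    have ha' : a = 2 * a' := by
      have := hQ'.card
      rw [hQcard] at this
      omega
    obtain ⟨bb, hbb, hbbt⟩ : ∃ g ∈ Q, g ∉ zpowers t := by
      by_contra hno
      push Not at hno
      exact hQ'.not_isCyclic (isCyclic_of_le (show Q ≤ zpowers t from hno))
    have hbbx : Commute bb x0 := (hψ ⟨bb, hPM hbb.1⟩).1 (h2J bb (hPM hbb.1) hbb.2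
      ⟨2, D.quat.orderOf_outer hbb.1 hbbt⟩)
    have ha4 : a ≤ 4 := D.minimal.le_four (D.minimal.normalizer_ne_top D.x0_prime D.x0_odd)
      (D.not_oddClosed hbb.1 hbbt hbbx) P D.quat hPM
    have ha2 : a = 4 := by have := hQ'.two_le; omega
    have ha'2 : a' = 2 := by omega
    refine ⟨ha2, ?_⟩
    subst ha'2
    set y := t ^ (a / 2) with hy
    have hyJ : y ∈ J := hyQ.2
    have hto : ∀ u : J, orderOf u = 4 → ∃ g : J, g * ⟨y, hyJ⟩ * g⁻¹ = u := by
      intro u hu
      rw [← Subgroup.orderOf_coe] at hu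
      obtain ⟨h, hh, e⟩ := D.conj_mem hu ((hψ ⟨u, hJM u.2⟩).1 (h2J u (hJM u.2) u.2 ⟨2, hu⟩))
      by_cases hJh : h ∈ J
      · exact ⟨⟨h, hJh⟩, Subtype.ext e⟩
      · have hb' : h * b1 ∈ J := by
          have := (mul_mem_iff_of_index_two hindex (a := ⟨h, hh⟩) (b := ⟨b1, hb1M⟩)).2
            ⟨fun h' => absurd h' hJh, fun h' => absurd h' hb1J⟩
          exact this
        refine ⟨⟨h * b1 * bb, J.mul_mem hb' hbb.2⟩, Subtype.ext ?_⟩
        show h * b1 * bb * y * (h * b1 * bb)⁻¹ = u
        have hb1t : b1 ∉ zpowers t := by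
          intro hbt
          obtain ⟨i, hi⟩ := mem_zpowers_iff.1 hbt
          have hb1o : orderOf b1 = 4 := by rw [hb1def, orderOf_conj_eq, hb04]
          obtain ⟨j, hj⟩ := mem_zpowers_iff.1 (D.fpf.mem_zpowers_of_commute (x := y) (y := b1)
            (hi ▸ ((Commute.refl t).pow_left _).zpow_right i) (by rw [hb1o, D.quat.orderOf_four]))
          exact hb1ne ((hψ ⟨b1, hb1M⟩).2 (by
            show Commute b1 x0
            rw [← hj]; exact D.comm.zpow_left j))
        rw [show h * b1 * bb * y * (h * b1 * bb)⁻¹ = h * (b1 * (bb * y * bb⁻¹) * b1⁻¹) * h⁻¹ by group,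
          D.quat.outer_conj hbb.1 hbbt (pow_mem (mem_zpowers t) _), ← conj_inv,
          D.quat.outer_conj hb1 hb1t (pow_mem (mem_zpowers t) _), inv_inv, e]
    have hconj : ∀ u v : J, orderOf u = 4 → orderOf v = 4 → ∃ g : J, g * u * g⁻¹ = v := by
      intro u v hu hv
      obtain ⟨g1, e1⟩ := hto u hu
      obtain ⟨g2, e2⟩ := hto v hv
      exact ⟨g2 * g1⁻¹, by rw [← e1, ← e2]; group⟩
    have h := (D.fpf.subgroup J).card_odd (P := S) (by rw [hS]; exact hQ'.subgroupOf hQJ) hconj
    have heq : Nat.card {x : J // Odd (orderOf x)} =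
        Nat.card {x : H // x ∈ M ∧ Odd (orderOf x)} :=
      Nat.card_congr
        { toFun := fun x => ⟨x.1, hJM x.1.2, by rw [Subgroup.orderOf_coe]; exact x.2⟩
          invFun := fun x => ⟨⟨x.1, hoddJ x.1 x.2.1 x.2.2⟩, by rw [Subgroup.orderOf_mk]; exact x.2.2⟩
          left_inv := fun _ => rfl
          right_inv := fun _ => rfl }
    rw [heq] at h
    rw [hcardJ]
    omega

end AData

end CfsgLib.Zassenhaus
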