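import Cfsg.Agent.Lib.Zassenhaus.Components
import Mathlib.GroupTheory.Complement

/-!
The local subgroup at the largest odd prime commuting with an element of order four.
-/

set_option autoImplicit false
set_option linter.unusedSectionVars false
set_option linter.style.haveILetI false

open scoped Pointwise commutatorElement
open Subgroup

namespace CfsgLib.Zassenhaus

variable {H : Type*} [Group H] [Finite H]

theorem IsQuat.subgroupOf {P K : Subgroup H} {t : H} {a : ℕ} (h : IsQuat P t a) (hPK : P ≤ K) :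
    IsQuat (P.subgroupOf K) (⟨t, hPK h.mem⟩ : K) a where
  mem := h.mem
  orderOf_t := (Subgroup.orderOf_mk t _).trans h.orderOf_t
  two_le := h.two_le
  exists_pow := h.exists_pow
  card := (Nat.card_congr (subgroupOfEquivOfLe hPK).toEquiv).trans h.card
  outer := fun g hg hgt => by
    have hgt' : (g : H) ∉ zpowers t := fun ⟨i, hi⟩ => hgt ⟨i, Subtype.ext (by simpa using hi)⟩
    obtain ⟨h1, h2⟩ := h.outer g hg hgt'
    exact ⟨Subtype.ext (by simpa using h1), Subtype.ext (by simpa using h2)⟩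
  mul_mem := fun g hg hgt g' hg' hgt' => by
    have hgt1 : (g : H) ∉ zpowers t := fun ⟨i, hi⟩ => hgt ⟨i, Subtype.ext (by simpa using hi)⟩
    have hgt2 : (g' : H) ∉ zpowers t := fun ⟨i, hi⟩ => hgt' ⟨i, Subtype.ext (by simpa using hi)⟩
    obtain ⟨i, hi⟩ := mem_zpowers_iff.1 (h.mul_mem g hg hgt1 g' hg' hgt2)
    exact ⟨i, Subtype.ext (by simpa using hi)⟩

theorem exists_conj_prime_pow {x : H} {k : ℕ} (hx : orderOf x = 2 ^ k) {K P : Subgroup H}
    (hxK : x ∈ K) (hPK : P ≤ K) (P' : Sylow 2 H) (hP : (P' : Subgroup H) = P) :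
    ∃ g ∈ K, g * x * g⁻¹ ∈ P := by
  obtain ⟨g, hg⟩ := exists_conj_mem (G := K) (P'.subtype (hP ▸ hPK)) (x := ⟨x, hxK⟩) (k := k)
    ((Subgroup.orderOf_mk x hxK).trans hx)
  refine ⟨g, g.2, ?_⟩
  have := hg
  rw [Sylow.coe_subtype, mem_subgroupOf] at this
  rw [← hP]
  exact this

/-- An element is a product of powers of its 2-part and of its odd part. -/
theorem mem_of_parts {x : H} {C : Subgroup H}
    (h : ∀ k : ℕ, (∃ i, orderOf (x ^ k) = 2 ^ i) ∨ Odd (orderOf (x ^ k)) → x ^ k ∈ C) : x ∈ C := by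
  obtain ⟨e, m, hm, hxm⟩ := Nat.exists_eq_pow_mul_and_not_dvd (orderOf_pos x).ne' 2 (by norm_num)
  have hu : x ^ 2 ^ e ∈ C := h _ (Or.inr (by
    rw [orderOf_pow_of_dvd (by positivity) (hxm ▸ dvd_mul_right _ _), hxm,
      Nat.mul_div_cancel_left _ (by positivity)]
    exact Nat.odd_iff.2 (Nat.two_dvd_ne_zero.1 hm)))
  have hv : x ^ m ∈ C := h _ (Or.inl ⟨e, by
    rw [orderOf_pow_of_dvd (by rintro rfl; exact hm (dvd_zero 2))
      (hxm ▸ dvd_mul_left _ _), hxm, Nat.mul_div_cancel _ (Nat.pos_of_ne_zero (by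
        rintro rfl; exact hm (dvd_zero 2)))]⟩)
  have hgcd : (Nat.gcd (2 ^ e) m : ℤ) = 1 := by
    exact_mod_cast ((Nat.prime_two.coprime_iff_not_dvd.2 hm).pow_left e)
  have := mul_mem (C.zpow_mem hu ((2 ^ e).gcdA m)) (C.zpow_mem hv ((2 ^ e).gcdB m))
  rwa [← zpow_natCast, ← zpow_natCast, ← zpow_mul, ← zpow_mul, ← zpow_add, ← Nat.gcd_eq_gcd_ab,
    hgcd, zpow_one] at this

theorem normalizes_conj_mem {K : Subgroup H} {N : Subgroup H} (h : K ≤ normalizer (N : Set H))
    {g x : H} (hg : g ∈ K) (hx : x ∈ N) : g * x * g⁻¹ ∈ N :=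
  (mem_normalizer_iff.1 (h hg) x).1 hx

/-- A quaternion group of order eight normal in a quaternion 2-group bounds its order by 16. -/
theorem IsQuat.le_four_of_normal {P S : Subgroup H} {t t' : H} {a : ℕ}
    (hP : IsQuat P t a) (hS : IsQuat S t' 2) (hSP : S ≤ P) (hn : P ≤ normalizer (S : Set H)) :
    a ≤ 4 := by
  obtain ⟨g, hg, hgt⟩ : ∃ g ∈ S, g ∉ zpowers t := by
    by_contra hno
    push Not at hno
    exact hS.not_isCyclic (isCyclic_of_le (show S ≤ zpowers t from hno))
  have hmem : g⁻¹ * (t * g * t⁻¹) ∈ S :=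
    Subgroup.mul_mem _ (inv_mem hg) (normalizes_conj_mem hn hP.mem hg)
  have hinv : g * t⁻¹ * g⁻¹ = t := by
    rw [← conj_inv, (hP.outer g (hSP hg) hgt).2, inv_inv]
  have e : g⁻¹ * (t * g * t⁻¹) = (t ^ 2)⁻¹ := by
    calc g⁻¹ * (t * g * t⁻¹) = g⁻¹ * ((g * t⁻¹ * g⁻¹) * g * t⁻¹) := by rw [hinv]
      _ = (t ^ 2)⁻¹ := by rw [pow_two]; group
  rw [e] at hmem
  have hd := hS.orderOf_dvd hmem
  rw [orderOf_inv, orderOf_pow_of_dvd (by norm_num) (hP.orderOf_t ▸ dvd_mul_right 2 a),
    hP.orderOf_t, Nat.mul_div_cancel_left _ (by norm_num : 0 < 2)] at hd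
  exact Nat.le_of_dvd (by norm_num) hd

/-- In a proper subgroup whose elements of odd order do not form a subgroup the Sylow
2-subgroups have order at most 16. -/
theorem Minimal.le_four (hH : Minimal H) {K : Subgroup H} (hK : K ≠ ⊤) (hoc : ¬ OddClosed K)
    (P : Sylow 2 H) {t : H} {a : ℕ} (hQ : IsQuat (P : Subgroup H) t a)
    (hPK : (P : Subgroup H) ≤ K) : a ≤ 4 := by
  haveI : Fact (Nat.Prime 2) := ⟨Nat.prime_two⟩
  -- the intersection with a normal subgroup is a Sylow subgroup of it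
  have hsyl : ∀ N : Subgroup H, N ≤ K → K ≤ normalizer (N : Set H) →
      ¬ 2 ∣ ((P : Subgroup H) ⊓ N).relIndex N := by
    intro N hNK hKN h2
    obtain ⟨R, hR⟩ := Sylow.exists_subgroup_card_pow_prime (G := N) 2
      (Nat.ordProj_dvd (Nat.card N) 2)
    have hRp : IsPGroup 2 (R.map N.subtype) :=
      IsPGroup.of_card (by rw [card_map_of_injective N.subtype_injective, hR])
    -- conjugate it into `P` inside `K`
    obtain ⟨S, hS⟩ := (hRp.comap_subtype (K := K)).exists_le_sylow
    obtain ⟨g, hg⟩ := MulAction.exists_smul_eq K S (P.subtype hPK)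
    have hle : (R.map N.subtype).map (MulAut.conj (g : H)).toMonoidHom ≤ (P : Subgroup H) ⊓ N := by
      rintro _ ⟨u, ⟨v, hv, rfl⟩, rfl⟩
      refine ⟨?_, normalizes_conj_mem hKN g.2 v.2⟩
      have hvS : (⟨(v : H), hNK v.2⟩ : K) ∈ (S : Subgroup K) := hS (mem_comap.2 ⟨v, hv, rfl⟩)
      have : MulAut.conj g • (⟨(v : H), hNK v.2⟩ : K) ∈ ((g • S : Sylow 2 K) : Subgroup K) := by
        rw [Sylow.coe_subgroup_smul]; exact smul_mem_pointwise_smul _ _ _ hvS
      rw [hg, Sylow.coe_subtype, mem_subgroupOf] at this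
      exact this
    have hdvd := card_dvd_of_le hle
    rw [card_map_of_injective (MulAut.conj (g : H)).injective,
      card_map_of_injective N.subtype_injective, hR] at hdvd
    have hcard : Nat.card ((P : Subgroup H) ⊓ N : Subgroup H) * ((P : Subgroup H) ⊓ N).relIndex N
        = Nat.card N := by
      have := (((P : Subgroup H) ⊓ N).subgroupOf N).card_mul_index
      rwa [Nat.card_congr (subgroupOfEquivOfLe inf_le_right).toEquiv] at this
    refine Nat.pow_succ_factorization_not_dvd (n := Nat.card N) Nat.card_pos.ne' Nat.prime_two ?_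
    rw [pow_succ, ← hcard]
    exact mul_dvd_mul (hcard.symm ▸ hdvd) h2
  suffices h : ∃ N : Subgroup H, N ≤ K ∧ K ≤ normalizer (N : Set H) ∧
      ∃ t', IsQuat ((P : Subgroup H) ⊓ N) t' 2 by
    obtain ⟨N, hNK, hKN, t', hS⟩ := h
    refine hQ.le_four_of_normal hS inf_le_left (le_normalizer_of_conj_mem ?_)
    rintro g hg x ⟨hx, hx'⟩
    exact ⟨Subgroup.mul_mem _ (Subgroup.mul_mem _ hg hx) (Subgroup.inv_mem _ hg), normalizes_conj_mem hKN (hPK hg) hx'⟩
  by_cases hsol : Group.IsSolvable K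
  swap
  · obtain ⟨E, hEK, hE1, hEE, hKE⟩ := exists_perfect K hsol
    have hE : E ≠ ⊤ := fun e => hK (top_le_iff.1 (e ▸ hEK))
    obtain ⟨h120, -, -, S, hSE, t', hS⟩ := hH.perfect_facts hE hE1 hEE
    refine ⟨E, hEK, hKE, ?_⟩
    have hcard : Nat.card ((P : Subgroup H) ⊓ E : Subgroup H) = 8 := by
      have h := (((P : Subgroup H) ⊓ E).subgroupOf E).card_mul_index
      rw [Nat.card_congr (subgroupOfEquivOfLe inf_le_right).toEquiv, h120] at h
      have h2 := hsyl E hEK hKE
      obtain ⟨n, hn⟩ := (P.isPGroup'.to_le (inf_le_left :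
        (P : Subgroup H) ⊓ E ≤ P)).exists_card_eq
      rw [hn] at h ⊢
      change ¬ 2 ∣ (((P : Subgroup H) ⊓ E).subgroupOf E).index at h2
      have h3 : n ≤ 3 := by
        by_contra hn4
        have : 2 ^ 4 ∣ 2 ^ n * (((P : Subgroup H) ⊓ E).subgroupOf E).index :=
          (pow_dvd_pow 2 (by omega)).trans (dvd_mul_right _ _)
        rw [h] at this; norm_num at this
      interval_cases n <;> norm_num at * <;> omega
    -- a Sylow subgroup of order eight of `E` is quaternion
    obtain ⟨t'', a', hQ'⟩ := ((hH.fpf.cyclic_or_quat (P.isPGroup'.to_le (inf_le_left :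
        (P : Subgroup H) ⊓ E ≤ P))).resolve_left fun hc => by
      have hSp : IsPGroup 2 (S.subgroupOf E) := hS.isPGroup.comap_subtype
      obtain ⟨R, hR⟩ := hSp.exists_le_sylow
      have hPE : IsPGroup 2 (((P : Subgroup H) ⊓ E).subgroupOf E) :=
        (P.isPGroup'.to_le inf_le_left).comap_subtype
      obtain ⟨R', hR'⟩ := hPE.exists_le_sylow
      have hR8 : ∀ R : Sylow 2 E, Nat.card (R : Subgroup E) = 8 := fun R => by
        rw [R.card_eq_multiplicity, h120, show (120 : ℕ) = 2 ^ 3 * 15 from rfl,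
          Nat.factorization_mul (by norm_num) (by norm_num), Finsupp.add_apply,
          Nat.Prime.factorization_pow Nat.prime_two, Finsupp.single_eq_same,
          Nat.factorization_eq_zero_of_not_dvd (by norm_num : ¬ 2 ∣ 15)]
        norm_num
      have e1 : S.subgroupOf E = R := eq_of_le_of_card_ge hR (by
        rw [hR8, Nat.card_congr (subgroupOfEquivOfLe hSE).toEquiv, hS.card])
      have e2 : ((P : Subgroup H) ⊓ E).subgroupOf E = R' := eq_of_le_of_card_ge hR' (by
        rw [hR8, Nat.card_congr (subgroupOfEquivOfLe inf_le_right).toEquiv, hcard])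
      apply hS.not_isCyclic
      haveI := hc
      have e3 : (R' : Subgroup E) ≃* ((P : Subgroup H) ⊓ E : Subgroup H) :=
        (MulEquiv.subgroupCongr e2.symm).trans (subgroupOfEquivOfLe inf_le_right)
      have e4 : S ≃* (R : Subgroup E) :=
        (subgroupOfEquivOfLe hSE).symm.trans (MulEquiv.subgroupCongr e1)
      exact (e4.trans ((Sylow.equiv R R').trans e3)).isCyclic.2 inferInstance).2
    refine ⟨t'', ?_⟩
    have : a' = 2 := by have := hQ'.card; rw [hcard] at this; omega
    rwa [this] at hQ'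
  -- solvable case: a minimal normal subgroup whose odd elements do not form a subgroup
  obtain ⟨N, ⟨hNK, hKN, hNoc⟩, hmin⟩ := (Set.toFinite {N : Subgroup H |
    N ≤ K ∧ K ≤ normalizer (N : Set H) ∧ ¬ OddClosed N}).exists_minimal
    ⟨K, le_rfl, le_normalizer, hoc⟩
  refine ⟨N, hNK, hKN, ?_⟩
  have hmin' : ∀ M : Subgroup H, M ≤ N → K ≤ normalizer (M : Set H) → M ≠ N → OddClosed M := by
    intro M hMN hKM hne
    by_contra h
    exact hne (le_antisymm hMN (hmin ⟨hMN.trans hNK, hKM, h⟩ hMN))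
  -- `N` is generated by its elements of odd order
  set W := closure {x : H | x ∈ N ∧ Odd (orderOf x)} with hW
  have hWN : W ≤ N := by rw [hW, closure_le]; exact fun x hx => hx.1
  have hKW : K ≤ normalizer (W : Set H) := le_normalizer_of_conj_mem fun g hg x hx => by
    have hle : W ≤ W.comap (MulAut.conj g).toMonoidHom := by
      rw [hW, closure_le]
      exact fun y hy => subset_closure
        ⟨normalizes_conj_mem hKN hg hy.1, show Odd (orderOf (g * y * g⁻¹)) by rw [orderOf_conj_eq]; exact hy.2⟩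
    exact hle hx
  have hWeq : W = N := by
    by_contra hne
    refine hNoc fun x hx y hy ox oy => ?_
    exact hmin' W hWN hKW hne x (subset_closure ⟨hx, ox⟩) y (subset_closure ⟨hy, oy⟩) ox oy
  -- its derived subgroup
  set D := ⁅N, N⁆ with hD
  have hDN : D ≤ N := commutator_le_self N
  have hKD : K ≤ normalizer (D : Set H) := le_normalizer_of_conj_mem fun g hg x hx => by
    have hmap : N.map (MulAut.conj g).toMonoidHom ≤ N := by
      rintro _ ⟨y, hy, rfl⟩; exact normalizes_conj_mem hKN hg hy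
    have := mem_map_of_mem (MulAut.conj g).toMonoidHom hx
    rw [hD, map_commutator] at this
    exact commutator_mono hmap hmap this
  haveI : Group.IsSolvable N :=
    Group.isSolvable_of_isSolvable_injective (Subgroup.inclusion_injective hNK)
  have hN1 : N ≠ ⊥ := fun e => hNoc fun x hx y hy _ _ => by
    rw [e, Subgroup.mem_bot] at hx hy; simp [hx, hy]
  have hDne : D ≠ N := by
    intro e
    haveI : Nontrivial N := (nontrivial_iff_ne_bot N).2 hN1
    refine (Group.IsSolvable.commutator_lt_top_of_nontrivial N).ne ?_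
    apply map_injective N.subtype_injective
    rw [map_subtype_commutator, ← MonoidHom.range_eq_map, N.range_subtype]
    exact e
  have hDoc := hmin' D hDN hKD hDne
  -- modulo `D` every element of `N` has odd order
  have hodd : ∀ x ∈ N, ∃ m, Odd m ∧ x ^ m ∈ D := by
    intro x hx
    let J : Subgroup H :=
      { carrier := {x | x ∈ N ∧ ∃ m, Odd m ∧ x ^ m ∈ D}
        one_mem' := ⟨one_mem _, 1, odd_one, by simp⟩
        inv_mem' := fun {u} ⟨hu, m, hm, hum⟩ => ⟨inv_mem hu, m, hm, by rw [inv_pow]; exact inv_mem hum⟩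
        mul_mem' := fun {u v} ⟨hu, m, hm, hum⟩ ⟨hv, l, hl, hvl⟩ => by
          refine ⟨mul_mem hu hv, m * l, hm.mul hl, ?_⟩
          haveI : (D.subgroupOf N).Normal := normal_subgroupOf_iff_le_normalizer hDN |>.2
            (hNK.trans hKD)
          let π := QuotientGroup.mk' (D.subgroupOf N)
          have hab : ∀ p q : N ⧸ D.subgroupOf N, p * q = q * p := by
            intro p q
            obtain ⟨p, rfl⟩ := QuotientGroup.mk'_surjective _ p
            obtain ⟨q, rfl⟩ := QuotientGroup.mk'_surjective _ q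
            rw [← map_mul, ← map_mul]
            refine (QuotientGroup.eq).2 ?_
            show (((p * q)⁻¹ * (q * p) : N) : H) ∈ D
            rw [show (((p * q)⁻¹ * (q * p) : N) : H) = ⁅(q : H)⁻¹, (p : H)⁻¹⁆ by
              simp [commutatorElement_def, mul_assoc]]
            exact commutator_mem_commutator (inv_mem q.2) (inv_mem p.2)
          have h : π (⟨u, hu⟩ * ⟨v, hv⟩) ^ (m * l) = 1 := by
            have hu1 : π ⟨u, hu⟩ ^ m = 1 := by
              rw [← map_pow]; exact (QuotientGroup.eq_one_iff (N := D.subgroupOf N) _).2 hum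
            have hv1 : π ⟨v, hv⟩ ^ l = 1 := by
              rw [← map_pow]; exact (QuotientGroup.eq_one_iff (N := D.subgroupOf N) _).2 hvl
            rw [map_mul, (show Commute (π ⟨u, hu⟩) (π ⟨v, hv⟩) from hab _ _).mul_pow, pow_mul,
              hu1, one_pow, one_mul, pow_mul', hv1, one_pow]
          rw [← map_pow] at h
          exact (QuotientGroup.eq_one_iff (N := D.subgroupOf N) _).1 h }
    have hWJ : W ≤ J := by
      rw [hW, closure_le]
      exact fun y hy => ⟨hy.1, orderOf y, hy.2, by rw [pow_orderOf_eq_one]; exact one_mem _⟩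
    exact (hWJ (hWeq.symm ▸ hx)).2
  have h2D : ∀ x ∈ N, (∃ k, orderOf x = 2 ^ k) → x ∈ D := by
    rintro x hx ⟨k, hk⟩
    obtain ⟨m, hm, hmD⟩ := hodd x hx
    obtain ⟨j, hj⟩ := exists_pow_eq_self_of_coprime (x := x) (n := m)
      (by rw [hk]; exact (Nat.coprime_two_right.2 hm).pow_right k)
    rw [← hj]
    exact D.pow_mem hmD j
  set S := (P : Subgroup H) ⊓ N with hS
  have hSp : IsPGroup 2 S := P.isPGroup'.to_le inf_le_left
  have hSD : S ≤ D := fun x hx => h2D x hx.2 (by
    obtain ⟨k, hk⟩ := IsPGroup.iff_orderOf.1 hSp ⟨x, hx⟩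
    exact ⟨k, by rwa [Subgroup.orderOf_mk] at hk⟩)
  by_contra hno
  -- the odd elements normalising `S` centralise it
  have hcent : ∀ g ∈ N, g ∈ normalizer (S : Set H) → Odd (orderOf g) → ∀ v ∈ S, Commute g v := by
    intro g _ hg hgo
    rcases hH.fpf.cyclic_or_quat hSp with hc | ⟨-, t', a', hQ'⟩
    · haveI := hc
      exact hH.fpf.centralizes_two_cyclic hSp hg hgo
    · refine hH.fpf.centralizes_quat hQ' hg hgo (Or.inl ?_)
      obtain ⟨k, hk⟩ := hQ'.exists_pow
      have := hQ'.two_le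
      rcases k with - | - | k
      · simp [hk] at this
      · exact absurd ⟨t', by rwa [show a' = 2 by simp [hk]] at hQ'⟩ hno
      · rw [hk]; calc 4 = 2 ^ 2 := rfl
          _ ≤ _ := Nat.pow_le_pow_right (by norm_num) (by omega)
  apply hNoc
  -- a 2-element of `N` normalising `S` lies in `S`
  have hS2 : ∀ x ∈ N, x ∈ normalizer (S : Set H) → (∃ k, orderOf x = 2 ^ k) → x ∈ S := by
    rintro x hx hxS ⟨k, hk⟩
    set R := S ⊔ zpowers x
    have hR : IsPGroup 2 R := hSp.to_sup_of_normal_left'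
      (IsPGroup.of_card (n := k) (by rw [Nat.card_zpowers, hk])) (Subgroup.zpowers_le.2 hxS)
    have hRN : R ≤ N := sup_le inf_le_right (Subgroup.zpowers_le.2 hx)
    have hh : S.relIndex R ∣ S.relIndex N :=
      Dvd.intro _ (relIndex_mul_relIndex S R N le_sup_left hRN)
    have hp2 : ∃ j, S.relIndex R = 2 ^ j := by
      obtain ⟨n, hn⟩ := hR.exists_card_eq
      obtain ⟨j, -, hj⟩ := (Nat.dvd_prime_pow Nat.prime_two).1
        ((Subgroup.index_dvd_card (S.subgroupOf R)).trans hn.dvd)
      exact ⟨j, hj⟩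
    obtain ⟨j, hj⟩ := hp2
    rcases j with - | j
    · exact relIndex_eq_one.1 (by rw [hj, pow_zero]) (le_sup_right (a := S) (mem_zpowers x))
    · exact absurd ((dvd_pow_self 2 (Nat.succ_ne_zero j)).trans (hj ▸ hh)) (hsyl N hNK hKN)
  -- odd elements of the normaliser of `S`
  set C := N ⊓ normalizer (S : Set H) ⊓ centralizer (S : Set H) with hC
  have hCsmall : IsSmall C := by
    intro R hR hR2
    have hRS : R ≤ S := fun x hx => hS2 x (hR hx).1.1 (hR hx).1.2 (by
      obtain ⟨k, hk⟩ := IsPGroup.iff_orderOf.1 hR2 ⟨x, hx⟩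
      exact ⟨k, by rwa [Subgroup.orderOf_mk] at hk⟩)
    refine hH.fpf.isCyclic_of_comm fun x hx y hy => ?_
    exact mem_centralizer_iff.1 (hR hy).2 x (hRS hx)
  have hCoc := hH.fpf.oddClosed_of_small hCsmall
  set O := oddPart hDoc with hO
  set O' := oddPart hCoc with hO'
  have hNO : N ≤ normalizer (O : Set H) := le_normalizer_of_conj_mem fun g hg x hx =>
    ⟨normalizes_conj_mem (hNK.trans hKD) hg hx.1, by rw [orderOf_conj_eq]; exact hx.2⟩
  have hO'N : O' ≤ N := fun x hx => hx.1.1.1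
  have hWodd : Odd (Nat.card (O' ⊔ O : Subgroup H)) := by
    rw [← Nat.not_even_iff_odd, even_iff_two_dvd]
    intro h2
    obtain ⟨⟨u, hu⟩, hou⟩ := exists_prime_orderOf_dvd_card' 2 h2
    rw [← Subgroup.orderOf_coe] at hou
    have hu' : u ∈ ((O' : Set H) * (O : Set H)) := by
      rw [← Subgroup.coe_mul_of_left_le_normalizer_right _ _ (hO'N.trans hNO)]; exact hu
    obtain ⟨c, hc, o, ho, rfl⟩ := hu'
    -- `(c * o)` has order dividing the order of `c` times the order of `O`
    have hpow : ∀ k : ℕ, ∃ o' ∈ O, (c * o) ^ k = c ^ k * o' := by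
      intro k
      induction k with
      | zero => exact ⟨1, one_mem _, by simp⟩
      | succ k ih =>
        obtain ⟨o', ho', e⟩ := ih
        refine ⟨c⁻¹ * o' * c * o, mul_mem ?_ ho, ?_⟩
        · have := normalizes_conj_mem hNO (inv_mem (hO'N hc)) ho'
          rwa [inv_inv] at this
        · rw [pow_succ (c * o), e, pow_succ]; group
    obtain ⟨o', ho', e⟩ := hpow (orderOf c)
    rw [pow_orderOf_eq_one, one_mul] at e
    have hd : orderOf (c * o) ∣ orderOf c * orderOf o' := orderOf_dvd_of_pow_eq_one (by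
      rw [pow_mul, e, pow_orderOf_eq_one])
    have : Odd (2 : ℕ) := (Odd.mul hc.2 ho'.2).of_dvd_nat (hou ▸ hd)
    exact absurd this (by decide)
  -- every element of odd order of `N` lies in `O' ⊔ O`
  intro x hx y hy ox oy
  suffices hall : ∀ x ∈ N, Odd (orderOf x) → x ∈ O' ⊔ O by
    exact hWodd.of_dvd_nat (Subgroup.orderOf_dvd_natCard _ (mul_mem (hall x hx ox) (hall y hy oy)))
  intro x hx ox
  -- Frattini
  have hSyl : IsPGroup 2 (S.subgroupOf D) := hSp.comap_subtype
  obtain ⟨R, hR⟩ := hSyl.exists_le_sylow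
  have hRS : (R : Subgroup D).map D.subtype = S := by
    refine (eq_of_le_of_card_ge ?_ ?_).symm
    · intro v hv; exact ⟨⟨v, hSD hv⟩, hR (mem_subgroupOf.2 hv), rfl⟩
    · have hRp : IsPGroup 2 ((R : Subgroup D).map D.subtype) := R.2.map _
      set R1 := (R : Subgroup D).map D.subtype with hR1
      have hle : S ≤ R1 := fun v hv => ⟨⟨v, hSD hv⟩, hR (mem_subgroupOf.2 hv), rfl⟩
      have h1 : S.relIndex R1 ∣ S.relIndex N :=
        Dvd.intro _ (relIndex_mul_relIndex S R1 N hle ((map_subtype_le _).trans hDN))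
      obtain ⟨n, hn⟩ := hRp.exists_card_eq
      obtain ⟨j, -, hj⟩ := (Nat.dvd_prime_pow Nat.prime_two).1
        ((Subgroup.index_dvd_card (S.subgroupOf R1)).trans hn.dvd)
      have hj0 : j = 0 := by
        by_contra hj'
        exact hsyl N hNK hKN ((dvd_pow_self 2 hj').trans (hj ▸ h1))
      exact card_le_of_le (relIndex_eq_one.1 (show S.relIndex R1 = 1 by
        rw [show S.relIndex R1 = 2 ^ j from hj, hj0, pow_zero]))
  haveI : (D.subgroupOf N).Normal :=
    normal_subgroupOf_iff_le_normalizer hDN |>.2 (hNK.trans hKD)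
  -- `x = d * n` with `n` normalising `S`
  obtain ⟨dd, hdd, n, hn, hnN, rfl⟩ : ∃ dd ∈ D, ∃ n ∈ normalizer (S : Set H), n ∈ N ∧ dd * n = x := by
    let E : Sylow 2 (D.subgroupOf N) := R.mapSurjective
      (f := (subgroupOfEquivOfLe hDN).symm.toMonoidHom) (subgroupOfEquivOfLe hDN).symm.surjective
    have htop := Sylow.normalizer_sup_eq_top E
    have hxm : (⟨x, hx⟩ : N) ∈ (D.subgroupOf N) ⊔
        normalizer (((E : Subgroup (D.subgroupOf N)).map (D.subgroupOf N).subtype : Subgroup N) : Set N) := by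
      rw [sup_comm, htop]; exact mem_top _
    obtain ⟨dd, hdd, n, hn, e⟩ := mem_sup_of_normal_left.1 hxm
    refine ⟨dd, hdd, n, ?_, n.2, congrArg Subtype.val e⟩
    refine le_normalizer_of_conj_mem (K := zpowers (n : H)) (fun g hg v hv => ?_) (mem_zpowers _)
    obtain ⟨i, rfl⟩ := mem_zpowers_iff.1 hg
    have hv' : v ∈ (R : Subgroup D).map D.subtype := hRS.symm ▸ hv
    obtain ⟨w, hw, rfl⟩ := hv'
    have hmem : ∀ w : N, w ∈ (E : Subgroup (D.subgroupOf N)).map (D.subgroupOf N).subtype ↔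
        (w : H) ∈ S := by
      intro w
      rw [← hRS]
      constructor
      · rintro ⟨u, ⟨r, hr, rfl⟩, rfl⟩; exact ⟨r, hr, rfl⟩
      · rintro ⟨r, hr, e⟩
        exact ⟨_, ⟨r, hr, rfl⟩, Subtype.ext e⟩
    have hwS : (⟨(w : H), hDN w.2⟩ : N) ∈ (E : Subgroup (D.subgroupOf N)).map (D.subgroupOf N).subtype :=
      (hmem _).2 (hRS ▸ ⟨w, hw, rfl⟩)
    have := (hmem _).1 ((mem_normalizer_iff.1 (Subgroup.zpow_mem _ hn i) _).1 hwS)
    simpa using this
  -- split `n`
  have hnC : n ∈ (O' ⊔ O) ⊔ S := by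
    refine mem_of_parts fun k hk => ?_
    rcases hk with h2 | ho
    · exact mem_sup_right (hS2 _ (N.pow_mem hnN k) (Subgroup.pow_mem _ hn k) h2)
    · refine mem_sup_left (mem_sup_left ⟨⟨⟨N.pow_mem hnN k, Subgroup.pow_mem _ hn k⟩, ?_⟩, ho⟩)
      exact mem_centralizer_iff.2 fun v hv =>
        (hcent _ (N.pow_mem hnN k) (Subgroup.pow_mem _ hn k) ho v hv).eq.symm
  have hdO : dd ∈ (O' ⊔ O) ⊔ S := by
    refine mem_of_parts fun k hk => ?_
    rcases hk with ⟨i, h2⟩ | ho
    · -- a 2-element of `D` is conjugate into `S` by an element of `O`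
      obtain ⟨g, hg⟩ := exists_conj_mem (G := D) R (x := ⟨dd ^ k, D.pow_mem hdd k⟩) (k := i)
        ((Subgroup.orderOf_mk _ _).trans h2)
      have hgS : (g : H) * dd ^ k * (g : H)⁻¹ ∈ S := hRS ▸ ⟨_, hg, rfl⟩
      set Y := O ⊔ S with hY
      have hgY : (g : H) ∈ Y := by
        refine mem_of_parts fun l hl => ?_
        rcases hl with ⟨j, hj⟩ | hlo
        · obtain ⟨c, hc⟩ := exists_card_eq_oddPart hDoc
          -- `D = O ⊔ S` by counting
          have hYD : Y = D := by
            refine eq_of_le_of_card_ge (sup_le (oddPart_le hDoc) hSD) (Nat.le_of_dvd Nat.card_pos ?_)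
            have hdis : Nat.Coprime (Nat.card O) (Nat.card S) := by
              obtain ⟨n, hn'⟩ := hSp.exists_card_eq
              rw [hn']
              exact (Nat.coprime_two_right.2 (odd_card_oddPart hDoc)).pow_right n
            refine dvd_trans ?_ (hdis.mul_dvd_of_dvd_of_dvd (card_dvd_of_le (le_sup_left : O ≤ Y))
              (card_dvd_of_le (le_sup_right : S ≤ Y)))
            rw [hc]
            refine mul_dvd_mul_left _ ?_
            have hcs : Nat.card S * S.relIndex D = Nat.card D := by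
              have := (S.subgroupOf D).card_mul_index
              rwa [Nat.card_congr (subgroupOfEquivOfLe hSD).toEquiv] at this
            have hodd' : ¬ 2 ∣ S.relIndex D := fun h2' => hsyl N hNK hKN
              (h2'.trans (Dvd.intro _ (relIndex_mul_relIndex S D N hSD hDN)))
            have hcop : Nat.Coprime (2 ^ c) (S.relIndex D) :=
              (Nat.prime_two.coprime_iff_not_dvd.2 hodd').pow_left c
            exact hcop.dvd_of_dvd_mul_right (by rw [hcs, hc]; exact dvd_mul_left _ _)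
          rw [hYD]; exact D.pow_mem g.2 l
        · exact mem_sup_left ⟨D.pow_mem g.2 l, hlo⟩
      have hle : Y ≤ (O' ⊔ O) ⊔ S := sup_le_sup_right le_sup_right S
      have := mul_mem (mul_mem (inv_mem (hle hgY)) (mem_sup_right (S := O' ⊔ O) hgS)) (hle hgY)
      simpa [mul_assoc] using this
    · exact mem_sup_left (mem_sup_right ⟨D.pow_mem hdd k, ho⟩)
  -- an element of odd order in `(O' ⊔ O) ⊔ S` lies in `O' ⊔ O`
  have hnormW : S ≤ normalizer ((O' ⊔ O : Subgroup H) : Set H) := le_normalizer_of_conj_mem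
    fun g hg u hu => by
      have hmap : (O' ⊔ O).map (MulAut.conj g).toMonoidHom ≤ O' ⊔ O := by
        rw [Subgroup.map_sup]
        refine sup_le_sup ?_ ?_
        · rintro _ ⟨v, hv, rfl⟩
          show g * v * g⁻¹ ∈ O'
          rw [mem_centralizer_iff.1 hv.1.2 g hg, mul_inv_cancel_right]
          exact hv
        · rintro _ ⟨v, hv, rfl⟩
          exact normalizes_conj_mem hNO hg.2 hv
      exact hmap ⟨u, hu, rfl⟩
  have hmem : dd * n ∈ ((S : Set H) * ((O' ⊔ O : Subgroup H) : Set H)) := by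
    rw [← Subgroup.coe_mul_of_left_le_normalizer_right _ _ hnormW, sup_comm]
    exact mul_mem hdO hnC
  obtain ⟨s, hs, w, hw, e⟩ := hmem
  obtain ⟨k, hk⟩ := IsPGroup.iff_orderOf.1 hSp ⟨s, hs⟩
  rw [Subgroup.orderOf_mk] at hk
  have hpow : ∀ j : ℕ, ∃ w' ∈ O' ⊔ O, (s * w) ^ j = s ^ j * w' := by
    intro j
    induction j with
    | zero => exact ⟨1, one_mem _, by simp⟩
    | succ j ih =>
      obtain ⟨w', hw', e⟩ := ih
      refine ⟨s⁻¹ * w' * s * w, mul_mem ?_ hw, ?_⟩
      · have := (mem_normalizer_iff.1 (hnormW (inv_mem hs)) w').1 hw'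
        rwa [inv_inv] at this
      · rw [pow_succ (s * w), e, pow_succ]; group
  obtain ⟨w', hw', e'⟩ := hpow (2 ^ k)
  rw [← hk, pow_orderOf_eq_one, one_mul, hk] at e'
  have e1 : s * w = dd * n := e
  rw [e1] at e'
  obtain ⟨j, hj⟩ := exists_pow_eq_self_of_coprime (x := dd * n) (n := 2 ^ k)
    ((Nat.coprime_two_left.2 ox).pow_left k)
  rw [← hj, e']
  exact Subgroup.pow_mem _ hw' j

end CfsgLib.Zassenhaus
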